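import Mathlib
import Groth.Prelude.Def_Dual3
import Groth.Agent.H44.UnitClosed
import Groth.Agent.H12.QCohAbelian

/-!
Lead library: sections of the submodule sheaf `I · F` (`Dual3.idealMul`) over affine opens.
-/

set_option autoImplicit false
universe u
open CategoryTheory Limits AlgebraicGeometry Opposite TopologicalSpace TensorProduct

namespace Groth.Agent.Lead.IdealMul

section Alg

variable {A B : Type u} [CommRing A] [CommRing B] [Algebra A B] (M : Type u) [AddCommGroup M]
  [Module A M]

/-- for a surjection `A → B` with kernel `K`: `1 ⊗ m = 0` in `B ⊗[A] M` iff `m ∈ K M` -/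
theorem one_tmul_eq_zero_iff (hs : Function.Surjective (algebraMap A B)) (m : M) :
    (1 : B) ⊗ₜ[A] m = 0 ↔
      m ∈ (RingHom.ker (algebraMap A B)) • (⊤ : Submodule A M) := by
  have hs' : Function.Surjective (Algebra.ofId A B) := hs
  let e : (A ⧸ RingHom.ker (Algebra.ofId A B)) ≃ₐ[A] B :=
    Ideal.quotientKerAlgEquivOfSurjective hs'
  let E : (A ⧸ RingHom.ker (Algebra.ofId A B)) ⊗[A] M ≃ₗ[A] B ⊗[A] M :=
    TensorProduct.congr e.toLinearEquiv (LinearEquiv.refl A M)
  have hE : E ((Ideal.Quotient.mk _ 1) ⊗ₜ[A] m) = (1 : B) ⊗ₜ[A] m := by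
    change (e (Ideal.Quotient.mk _ 1)) ⊗ₜ[A] m = _
    rw [map_one, map_one]
  have hK : RingHom.ker (Algebra.ofId A B) = RingHom.ker (algebraMap A B) := rfl
  rw [← hE, LinearEquiv.map_eq_zero_iff,
    ← LinearEquiv.map_eq_zero_iff (TensorProduct.quotTensorEquivQuotSMul M _),
    TensorProduct.quotTensorEquivQuotSMul_mk_tmul, one_smul, Submodule.Quotient.mk_eq_zero, hK]

end Alg

section Sheaf

open Scheme.Modules Groth.Agent.H44

variable {X : Scheme.{u}} (J : X.IdealSheafData) (F : X.Modules)

/-- the unit `F ⟶ i_* i^* F` for the closed subscheme cut out by `J` -/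
noncomputable abbrev η : F ⟶ (Scheme.Modules.pushforward J.subschemeι).obj
    ((Scheme.Modules.pullback J.subschemeι).obj F) :=
  (Scheme.Modules.pullbackPushforwardAdjunction J.subschemeι).unit.app F

/-- on an affine open, a section dies in `i_* i^* F` iff it lies in `J(U) Γ(F, U)` -/
theorem unit_app_eq_zero_iff [F.IsQuasicoherent] {U : X.Opens} (hU : IsAffineOpen U)
    (s : Γ(F, U)) :
    (η J F).app U s = 0 ↔ s ∈ (J.ideal ⟨U, hU⟩) • (⊤ : Submodule Γ(X, U) Γ(F, U)) := by
  have hW : IsAffineOpen (J.subschemeι ⁻¹ᵁ U) := hU.preimage J.subschemeι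
  letI := (J.subschemeι.appLE U (J.subschemeι ⁻¹ᵁ U) le_rfl).hom.toAlgebra
  have halg : (algebraMap Γ(X, U) Γ(J.subscheme, J.subschemeι ⁻¹ᵁ U)) =
      (J.subschemeι.app U).hom := by
    change (J.subschemeι.appLE U (J.subschemeι ⁻¹ᵁ U) le_rfl).hom = _
    rw [← Scheme.Hom.app_eq_appLE]
  have hE : pullbackSectionsEquiv J.subschemeι F hW hU le_rfl
      (OmegaSh.pullSect J.subschemeι F U s) =
      (1 : Γ(J.subscheme, J.subschemeι ⁻¹ᵁ U)) ⊗ₜ[Γ(X, U)] s := by
    have := pullbackSectionsEquiv_pullSectLE J.subschemeι F hW hU le_rfl s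
    rwa [pullSectLE_self] at this
  have hfun : (η J F).app U s = OmegaSh.pullSect J.subschemeι F U s := rfl
  have hsurj : Function.Surjective (algebraMap Γ(X, U) Γ(J.subscheme, J.subschemeι ⁻¹ᵁ U)) := by
    rw [halg]; exact J.subschemeι_app_surjective ⟨U, hU⟩
  have hker : RingHom.ker (algebraMap Γ(X, U) Γ(J.subscheme, J.subschemeι ⁻¹ᵁ U)) =
      J.ideal ⟨U, hU⟩ := by
    rw [halg]; exact J.ker_subschemeι_app ⟨U, hU⟩
  rw [hfun, ← hker, ← one_tmul_eq_zero_iff Γ(F, U) hsurj s, ← hE]
  constructor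
  · intro h
    have h0 : OmegaSh.pullSect J.subschemeι F U s =
        (0 : Γ((Scheme.Modules.pullback J.subschemeι).obj F, J.subschemeι ⁻¹ᵁ U)) := h
    rw [h0, map_zero]
  · intro h
    have := (pullbackSectionsEquiv J.subschemeι F hW hU le_rfl).injective
      (h.trans (map_zero _).symm)
    exact this

/-- sections of `J · F` over an affine open: the range of the inclusion is `J(U) Γ(F, U)` -/
theorem mem_range_idealMulι_app_iff [F.IsQuasicoherent] {U : X.Opens} (hU : IsAffineOpen U)
    (s : Γ(F, U)) :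
    s ∈ Set.range ((Dual3.idealMulι J F).app U) ↔
      s ∈ (J.ideal ⟨U, hU⟩) • (⊤ : Submodule Γ(X, U) Γ(F, U)) := by
  rw [← unit_app_eq_zero_iff J F hU s]
  constructor
  · rintro ⟨t, rfl⟩
    have h : Dual3.idealMulι J F ≫ η J F = 0 := kernel.condition _
    have h2 := congrArg (fun φ => Scheme.Modules.Hom.app φ U) h
    simp only [Scheme.Modules.Hom.comp_app] at h2
    have h3 := ConcreteCategory.congr_hom h2 t
    rw [ConcreteCategory.comp_apply] at h3
    exact h3
  · intro h
    have hex : (ShortComplex.mk (Dual3.idealMulι J F) (η J F) (kernel.condition _)).Exact :=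
      ShortComplex.exact_kernel _
    haveI : Mono (ShortComplex.mk (Dual3.idealMulι J F) (η J F) (kernel.condition _)).f :=
      Dual3.mono_idealMulι J F
    obtain ⟨x, hx⟩ := Groth.Agent.H12.QCohAbelian.app_exact_of_exact_of_mono _ hex U s h
    exact ⟨x, hx⟩

theorem idealMulι_app_injective (U : X.Opens) :
    Function.Injective ((Dual3.idealMulι J F).app U) :=
  Groth.Agent.H12.QCohAbelian.app_injective_of_mono (Dual3.idealMulι J F) U

end Sheaf

section Sub

variable {X : Scheme.{u}}

/-- Two morphisms of modules that agree on sections over affine opens are equal. -/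
theorem hom_ext_affine {M N : X.Modules} (f g : M ⟶ N)
    (h : ∀ (U : X.Opens) (_ : IsAffineOpen U) (x : Γ(M, U)), f.app U x = g.app U x) : f = g := by
  refine Scheme.Modules.hom_ext _ _ fun W => ?_
  ext s
  refine TopCat.Presheaf.IsSheaf.section_ext N.isSheaf (U := op W) fun p hp => ?_
  obtain ⟨_, ⟨V, hV : IsAffineOpen V, rfl⟩, hpV, hVW⟩ :=
    X.isBasis_affineOpens.exists_subset_of_mem_open hp W.2
  have hVW' : V ≤ W := hVW
  refine ⟨V, hVW', hpV, ?_⟩
  have hf := congr($(f.mapPresheaf.naturality (homOfLE hVW').op) s)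
  have hg := congr($(g.mapPresheaf.naturality (homOfLE hVW').op) s)
  change N.presheaf.map (homOfLE hVW').op (f.app W s) = N.presheaf.map (homOfLE hVW').op (g.app W s)
  have hf' : N.presheaf.map (homOfLE hVW').op (f.app W s) =
      f.app V (M.presheaf.map (homOfLE hVW').op s) := hf.symm
  have hg' : N.presheaf.map (homOfLE hVW').op (g.app W s) =
      g.app V (M.presheaf.map (homOfLE hVW').op s) := hg.symm
  rw [hf', hg']
  exact h V hV _

/-- a morphism factors through a monomorphism as soon as it does so on sections over affine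
opens -/
theorem exists_fac_of_range_le {M A B : X.Modules} (a : A ⟶ M) (b : B ⟶ M) [Mono b]
    (h : ∀ (U : X.Opens), IsAffineOpen U → ∀ s : Γ(A, U), ∃ t : Γ(B, U), b.app U t = a.app U s) :
    ∃ u : A ⟶ B, u ≫ b = a := by
  have h0 : a ≫ cokernel.π b = 0 := by
    refine hom_ext_affine _ _ (fun U hU s => ?_)
    obtain ⟨t, ht⟩ := h U hU s
    rw [Scheme.Modules.Hom.comp_app, ConcreteCategory.comp_apply, ← ht,
      ← ConcreteCategory.comp_apply, ← Scheme.Modules.Hom.comp_app, cokernel.condition]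
    rfl
  exact ⟨Abelian.monoLift b a h0, Abelian.monoLift_comp b a h0⟩

/-- two subobjects with the same sections over affine opens are isomorphic (over the ambient
module) -/
theorem exists_iso_of_range_eq {M A B : X.Modules} (a : A ⟶ M) (b : B ⟶ M) [Mono a] [Mono b]
    (h : ∀ (U : X.Opens), IsAffineOpen U → Set.range (a.app U) = Set.range (b.app U)) :
    ∃ e : A ≅ B, e.hom ≫ b = a := by
  obtain ⟨u, hu⟩ := exists_fac_of_range_le a b (fun U hU s => by
    have : a.app U s ∈ Set.range (b.app U) := by rw [← h U hU]; exact ⟨s, rfl⟩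
    exact this)
  obtain ⟨v, hv⟩ := exists_fac_of_range_le b a (fun U hU s => by
    have : b.app U s ∈ Set.range (a.app U) := by rw [h U hU]; exact ⟨s, rfl⟩
    exact this)
  refine ⟨⟨u, v, ?_, ?_⟩, hu⟩
  · rw [← cancel_mono a, Category.assoc, hv, hu, Category.id_comp]
  · rw [← cancel_mono b, Category.assoc, hu, hv, Category.id_comp]

end Sub

end Groth.Agent.Lead.IdealMul
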