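import Mathlib
import Groth.Agent.Lead.Coh.IdealMul
import Groth.Agent.H71.QCoh.ExactSections
import Groth.Agent.H8.PushQCoh

/-!
Lead library: subobjects of quasi-coherent modules through their sections over affine opens
(ranges of monomorphisms), intersections, and products with ideal sheaves.
-/

set_option autoImplicit false
universe u
open CategoryTheory Limits AlgebraicGeometry Opposite TopologicalSpace

namespace Groth.Agent.Lead.SubRange

open Groth.Agent.Lead.IdealMul

variable {X : Scheme.{u}}

/-- the action of a morphism of modules on sections, as a linear map -/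
noncomputable def appLin {M N : X.Modules} (φ : M ⟶ N) (U : X.Opens) :
    Γ(M, U) →ₗ[Γ(X, U)] Γ(N, U) where
  toFun x := φ.app U x
  map_add' x y := map_add _ x y
  map_smul' r x := Scheme.Modules.Hom.app_smul φ r x

theorem appLin_apply {M N : X.Modules} (φ : M ⟶ N) (U : X.Opens) (x : Γ(M, U)) :
    appLin φ U x = φ.app U x := rfl

theorem appLin_comp {M N K : X.Modules} (φ : M ⟶ N) (ψ : N ⟶ K) (U : X.Opens) :
    appLin (φ ≫ ψ) U = (appLin ψ U).comp (appLin φ U) := by
  ext x
  simp [appLin_apply, Scheme.Modules.Hom.comp_app]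

/-- the submodule of sections over `U` in the range of a morphism -/
noncomputable def rng {A F : X.Modules} (m : A ⟶ F) (U : X.Opens) : Submodule Γ(X, U) Γ(F, U) :=
  LinearMap.range (appLin m U)

theorem mem_rng {A F : X.Modules} (m : A ⟶ F) (U : X.Opens) (s : Γ(F, U)) :
    s ∈ rng m U ↔ ∃ t : Γ(A, U), m.app U t = s := Iff.rfl

theorem rng_comp {A B F : X.Modules} (u : A ⟶ B) (m : B ⟶ F) (U : X.Opens) :
    rng (u ≫ m) U = (rng u U).map (appLin m U) := by
  unfold rng
  rw [appLin_comp, LinearMap.range_comp]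

theorem rng_comp_le {A B F : X.Modules} (u : A ⟶ B) (m : B ⟶ F) (U : X.Opens) :
    rng (u ≫ m) U ≤ rng m U := by
  rw [rng_comp]
  rintro _ ⟨x, -, rfl⟩
  exact ⟨x, rfl⟩

theorem rng_eq_of_isIso_comp {A B F : X.Modules} (u : A ⟶ B) [IsIso u] (m : B ⟶ F)
    (U : X.Opens) : rng (u ≫ m) U = rng m U := by
  refine le_antisymm (rng_comp_le u m U) ?_
  have h : m = inv u ≫ (u ≫ m) := by rw [IsIso.inv_hom_id_assoc]
  conv_lhs => rw [h]
  exact rng_comp_le _ _ U

theorem rng_idealMulι {A : X.Modules} [A.IsQuasicoherent] (J : X.IdealSheafData) {U : X.Opens}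
    (hU : IsAffineOpen U) :
    rng (Dual3.idealMulι J A) U = J.ideal ⟨U, hU⟩ • (⊤ : Submodule Γ(X, U) Γ(A, U)) := by
  ext s
  exact mem_range_idealMulι_app_iff J A hU s

theorem rng_idealMulι_comp {A F : X.Modules} [A.IsQuasicoherent] (J : X.IdealSheafData)
    (m : A ⟶ F) {U : X.Opens} (hU : IsAffineOpen U) :
    rng (Dual3.idealMulι J A ≫ m) U = J.ideal ⟨U, hU⟩ • rng m U := by
  rw [rng_comp, rng_idealMulι J hU, Submodule.map_smul'', Submodule.map_top]
  rfl

section Cover

variable {ι : Type*} (𝒰 : ι → X.Opens) (hcov : ∀ x : X, ∃ i, x ∈ 𝒰 i)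
  (haff : ∀ i, IsAffineOpen (𝒰 i))

include hcov haff in
/-- a morphism of quasi-coherent modules vanishing on sections over an affine cover is zero -/
theorem eq_zero_of_app_cover {A C : X.Modules} [A.IsQuasicoherent] [C.IsQuasicoherent]
    (φ : A ⟶ C) (h : ∀ i (s : Γ(A, 𝒰 i)), φ.app (𝒰 i) s = 0) : φ = 0 := by
  haveI : (kernel φ).IsQuasicoherent := Groth.Agent.H12.QCohAbelian.isQuasicoherent_kernel φ
  haveI : IsIso (kernel.ι φ) := by
    refine Groth.Agent.H71.QCoh.isIso_of_mono_of_app_surjective_cover (kernel.ι φ) 𝒰 hcov haff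
      (fun i s => ?_)
    have hex : (ShortComplex.mk (kernel.ι φ) φ (kernel.condition φ)).Exact :=
      ShortComplex.exact_kernel φ
    haveI : Mono (ShortComplex.mk (kernel.ι φ) φ (kernel.condition φ)).f :=
      (inferInstance : Mono (kernel.ι φ))
    exact Groth.Agent.H12.QCohAbelian.app_exact_of_exact_of_mono _ hex (𝒰 i) s (h i s)
  rw [← cancel_epi (kernel.ι φ), kernel.condition, comp_zero]

include hcov haff in
/-- a morphism factors through a monomorphism of quasi-coherent modules as soon as it does so on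
sections over an affine cover -/
theorem exists_fac_of_rng_le_cover {F A B : X.Modules} [F.IsQuasicoherent] [A.IsQuasicoherent]
    [B.IsQuasicoherent] (a : A ⟶ F) (b : B ⟶ F) [Mono b]
    (h : ∀ i, rng a (𝒰 i) ≤ rng b (𝒰 i)) : ∃ u : A ⟶ B, u ≫ b = a := by
  haveI : (cokernel b).IsQuasicoherent :=
    Groth.Agent.H12.QCohAbelian.isQuasicoherent_cokernel b
  have h0 : a ≫ cokernel.π b = 0 := by
    refine eq_zero_of_app_cover 𝒰 hcov haff _ (fun i s => ?_)
    obtain ⟨t, ht⟩ := h i ⟨s, rfl⟩
    have ht' : b.app (𝒰 i) t = a.app (𝒰 i) s := ht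
    rw [Scheme.Modules.Hom.comp_app, ConcreteCategory.comp_apply, ← ht',
      ← ConcreteCategory.comp_apply, ← Scheme.Modules.Hom.comp_app, cokernel.condition]
    rfl
  exact ⟨Abelian.monoLift b a h0, Abelian.monoLift_comp b a h0⟩

include hcov haff in
theorem mk_le_mk_of_rng_le_cover {F A B : X.Modules} [F.IsQuasicoherent] [A.IsQuasicoherent]
    [B.IsQuasicoherent] (a : A ⟶ F) (b : B ⟶ F) [Mono a] [Mono b]
    (h : ∀ i, rng a (𝒰 i) ≤ rng b (𝒰 i)) : Subobject.mk a ≤ Subobject.mk b := by
  obtain ⟨u, hu⟩ := exists_fac_of_rng_le_cover 𝒰 hcov haff a b h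
  exact Subobject.mk_le_mk_of_comm u hu

include hcov haff in
theorem mk_eq_mk_of_rng_eq_cover {F A B : X.Modules} [F.IsQuasicoherent] [A.IsQuasicoherent]
    [B.IsQuasicoherent] (a : A ⟶ F) (b : B ⟶ F) [Mono a] [Mono b]
    (h : ∀ i, rng a (𝒰 i) = rng b (𝒰 i)) : Subobject.mk a = Subobject.mk b :=
  le_antisymm (mk_le_mk_of_rng_le_cover 𝒰 hcov haff a b (fun i => (h i).le))
    (mk_le_mk_of_rng_le_cover 𝒰 hcov haff b a (fun i => (h i).ge))

end Cover

section Inf

/-- the intersection of two subobjects, as a kernel -/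
noncomputable def infHom {A B F : X.Modules} (a : A ⟶ F) (b : B ⟶ F) :
    kernel (a ≫ cokernel.π b) ⟶ F := kernel.ι _ ≫ a

instance {A B F : X.Modules} (a : A ⟶ F) (b : B ⟶ F) [Mono a] : Mono (infHom a b) :=
  mono_comp _ _

theorem rng_infHom {A B F : X.Modules} (a : A ⟶ F) (b : B ⟶ F) [Mono b] (U : X.Opens) :
    rng (infHom a b) U = rng a U ⊓ rng b U := by
  apply le_antisymm
  · refine le_inf (rng_comp_le _ _ U) ?_
    rintro _ ⟨k, rfl⟩
    have h : (kernel.ι (a ≫ cokernel.π b) ≫ a) ≫ cokernel.π b = 0 := by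
      rw [Category.assoc, kernel.condition]
    have h2 := congrArg (fun φ => Scheme.Modules.Hom.app φ U) h
    simp only [Scheme.Modules.Hom.comp_app] at h2
    have h3 := ConcreteCategory.congr_hom h2 k
    have hex : (ShortComplex.mk b (cokernel.π b) (cokernel.condition b)).Exact :=
      ShortComplex.exact_cokernel b
    haveI : Mono (ShortComplex.mk b (cokernel.π b) (cokernel.condition b)).f :=
      (inferInstance : Mono b)
    obtain ⟨t, ht⟩ := Groth.Agent.H12.QCohAbelian.app_exact_of_exact_of_mono _ hex U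
      ((infHom a b).app U k) (by
        rw [ConcreteCategory.comp_apply] at h3
        exact h3)
    exact ⟨t, ht⟩
  · rintro s ⟨⟨t, ht⟩, ⟨t', ht'⟩⟩
    have ht0 : a.app U t = s := ht
    have ht0' : b.app U t' = s := ht'
    have hz : (a ≫ cokernel.π b).app U t = 0 := by
      rw [Scheme.Modules.Hom.comp_app, ConcreteCategory.comp_apply, ht0, ← ht0',
        ← ConcreteCategory.comp_apply, ← Scheme.Modules.Hom.comp_app, cokernel.condition]
      rfl
    have hex : (ShortComplex.mk (kernel.ι (a ≫ cokernel.π b)) (a ≫ cokernel.π b)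
        (kernel.condition _)).Exact := ShortComplex.exact_kernel _
    haveI : Mono (ShortComplex.mk (kernel.ι (a ≫ cokernel.π b)) (a ≫ cokernel.π b)
        (kernel.condition _)).f := (inferInstance : Mono (kernel.ι (a ≫ cokernel.π b)))
    obtain ⟨k, hk⟩ := Groth.Agent.H12.QCohAbelian.app_exact_of_exact_of_mono _ hex U t hz
    refine ⟨k, ?_⟩
    have hk' : (kernel.ι (a ≫ cokernel.π b)).app U k = t := hk
    change (infHom a b).app U k = s
    unfold infHom
    rw [Scheme.Modules.Hom.comp_app, ConcreteCategory.comp_apply, hk', ht0]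

theorem mk_infHom {A B F : X.Modules} (a : A ⟶ F) (b : B ⟶ F) [Mono a] [Mono b] :
    Subobject.mk (infHom a b) = Subobject.mk a ⊓ Subobject.mk b := by
  apply le_antisymm
  · refine le_inf (Subobject.mk_le_mk_of_comm (kernel.ι _) rfl) ?_
    have h : infHom a b ≫ cokernel.π b = 0 := by
      unfold infHom
      rw [Category.assoc, kernel.condition]
    exact Subobject.mk_le_mk_of_comm (Abelian.monoLift b (infHom a b) h)
      (Abelian.monoLift_comp b (infHom a b) h)
  · -- the intersection factors through the kernel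
    let K := Subobject.mk a ⊓ Subobject.mk b
    have h1 : K ≤ Subobject.mk a := inf_le_left
    have h2 : K ≤ Subobject.mk b := inf_le_right
    let p : (K : X.Modules) ⟶ A := Subobject.ofLE _ _ h1 ≫ (Subobject.underlyingIso a).hom
    let q : (K : X.Modules) ⟶ B := Subobject.ofLE _ _ h2 ≫ (Subobject.underlyingIso b).hom
    have hp : p ≫ a = K.arrow := by
      simp only [p, Category.assoc, Subobject.underlyingIso_hom_comp_eq_mk,
        Subobject.ofLE_arrow]
    have hq : q ≫ b = K.arrow := by
      simp only [q, Category.assoc, Subobject.underlyingIso_hom_comp_eq_mk,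
        Subobject.ofLE_arrow]
    have hz : p ≫ (a ≫ cokernel.π b) = 0 := by
      rw [← Category.assoc, hp, ← hq, Category.assoc, cokernel.condition, comp_zero]
    have hle : K ≤ Subobject.mk (infHom a b) := by
      refine Subobject.le_mk_of_comm (kernel.lift _ p hz) ?_
      unfold infHom
      rw [← Category.assoc, kernel.lift_ι, hp]
    exact hle

end Inf

section QCoh

/-- `I · F` is quasi-coherent for quasi-coherent `F` -/
theorem isQuasicoherent_idealMul (J : X.IdealSheafData) (F : X.Modules) [F.IsQuasicoherent] :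
    ((Dual3.idealMul J).obj F).IsQuasicoherent := by
  haveI : ((Scheme.Modules.pullback J.subschemeι).obj F).IsQuasicoherent := inferInstance
  haveI : ((Scheme.Modules.pushforward J.subschemeι).obj
      ((Scheme.Modules.pullback J.subschemeι).obj F)).IsQuasicoherent :=
    Groth.Agent.H8.isQuasicoherent_pushforward_of_isAffineHom J.subschemeι _
  exact Groth.Agent.H12.QCohAbelian.isQuasicoherent_kernel (η J F)

theorem isQuasicoherent_infHom {A B F : X.Modules} [A.IsQuasicoherent] [B.IsQuasicoherent]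
    [F.IsQuasicoherent] (a : A ⟶ F) (b : B ⟶ F) :
    (kernel (a ≫ cokernel.π b)).IsQuasicoherent := by
  haveI : (cokernel b).IsQuasicoherent :=
    Groth.Agent.H12.QCohAbelian.isQuasicoherent_cokernel b
  exact Groth.Agent.H12.QCohAbelian.isQuasicoherent_kernel _

/-- the arrow of an intersection of subobjects has the expected sections -/
theorem rng_inf_arrow {A B F : X.Modules} (a : A ⟶ F) (b : B ⟶ F) [Mono a] [Mono b]
    (U : X.Opens) :
    rng (Subobject.mk a ⊓ Subobject.mk b).arrow U = rng a U ⊓ rng b U := by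
  have h := Subobject.arrow_congr _ _ (mk_infHom a b)
  have h1 : rng (Subobject.mk a ⊓ Subobject.mk b).arrow U =
      rng (Subobject.mk (infHom a b)).arrow U := by
    rw [← h, rng_eq_of_isIso_comp]
  rw [h1, ← rng_infHom a b U, ← Subobject.underlyingIso_hom_comp_eq_mk (infHom a b),
    rng_eq_of_isIso_comp]

theorem isQuasicoherent_inf {A B F : X.Modules} [A.IsQuasicoherent] [B.IsQuasicoherent]
    [F.IsQuasicoherent] (a : A ⟶ F) (b : B ⟶ F) [Mono a] [Mono b] :
    (Subobject.underlying.obj (Subobject.mk a ⊓ Subobject.mk b)).IsQuasicoherent := by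
  haveI := isQuasicoherent_infHom a b
  have e : kernel (a ≫ cokernel.π b) ≅
      Subobject.underlying.obj (Subobject.mk a ⊓ Subobject.mk b) :=
    (Subobject.underlyingIso (infHom a b)).symm ≪≫
      eqToIso (congrArg (fun S : Subobject F => Subobject.underlying.obj S) (mk_infHom a b))
  exact Groth.Agent.H12.QCohAbelian.isQuasicoherent_of_iso e

end QCoh

end Groth.Agent.Lead.SubRange
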