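import Mathlib

/-!
Lead library (Zariski cohomology project): an abstract "five lemma up to powers of an endomorphism".

All groups carry an additive endomorphism `τ`.  For an equivariant map `ρ : A → B`:
* `L1 ρ τB`: for every `y : B` some `τ^k y` lifts to `A`;
* `L2 ρ τA`: every `x : A` with `ρ x = 0` is killed by some `τ^k`.
Together they say that `ρ` becomes an isomorphism after inverting `τ`.  The two five-lemma halves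
below propagate these properties through a ladder of exact sequences.
-/

set_option autoImplicit false

namespace Groth.Agent.Lead.LocFive

variable {A B : Type*} [AddCommGroup A] [AddCommGroup B]

/-- every element of the target lifts after applying a power of the endomorphism -/
def L1 (ρ : A →+ B) (τB : B →+ B) : Prop :=
  ∀ y : B, ∃ (k : ℕ) (x : A), ρ x = (τB)^[k] y

/-- every element of the kernel is killed by a power of the endomorphism -/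
def L2 (ρ : A →+ B) (τA : A →+ A) : Prop :=
  ∀ x : A, ρ x = 0 → ∃ k : ℕ, (τA)^[k] x = 0

theorem iter_zero (τ : A →+ A) (k : ℕ) : (τ)^[k] (0 : A) = 0 := iterate_map_zero τ k

theorem iter_add (τ : A →+ A) (k : ℕ) (x y : A) : (τ)^[k] (x + y) = (τ)^[k] x + (τ)^[k] y :=
  iterate_map_add τ k x y

theorem iter_sub (τ : A →+ A) (k : ℕ) (x y : A) : (τ)^[k] (x - y) = (τ)^[k] x - (τ)^[k] y :=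
  iterate_map_sub τ k x y

theorem iter_comm {ρ : A →+ B} {τA : A →+ A} {τB : B →+ B}
    (h : ∀ x, ρ (τA x) = τB (ρ x)) (k : ℕ) (x : A) : ρ ((τA)^[k] x) = (τB)^[k] (ρ x) :=
  (Function.Semiconj.iterate_right (f := ρ) (ga := τA) (gb := τB) h k).eq x

theorem iter_iter (τ : A →+ A) (k m : ℕ) (x : A) : (τ)^[k] ((τ)^[m] x) = (τ)^[k + m] x :=
  (Function.iterate_add_apply τ k m x).symm

theorem iter_eq_zero_of_le (τ : A →+ A) {k m : ℕ} (h : k ≤ m) {x : A} (hx : (τ)^[k] x = 0) :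
    (τ)^[m] x = 0 := by
  obtain ⟨d, rfl⟩ := Nat.exists_eq_add_of_le h
  rw [add_comm, ← iter_iter, hx, iter_zero]

section prod

variable {A' B' : Type*} [AddCommGroup A'] [AddCommGroup B']

theorem L1.prod {ρ : A →+ B} {τB : B →+ B} {τA : A →+ A} {ρ' : A' →+ B'} {τB' : B' →+ B'}
    {τA' : A' →+ A'} (hρ : ∀ x, ρ (τA x) = τB (ρ x)) (hρ' : ∀ x, ρ' (τA' x) = τB' (ρ' x))
    (h : L1 ρ τB) (h' : L1 ρ' τB') : L1 (ρ.prodMap ρ') (τB.prodMap τB') := by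
  rintro ⟨y, y'⟩
  obtain ⟨k, x, hx⟩ := h y
  obtain ⟨k', x', hx'⟩ := h' y'
  refine ⟨k + k', ((τA)^[k'] x, (τA')^[k] x'), ?_⟩
  have e : ∀ (n : ℕ) (p : B × B'), (τB.prodMap τB')^[n] p = ((τB)^[n] p.1, (τB')^[n] p.2) := by
    intro n
    induction n with
    | zero => intro p; rfl
    | succ n ih => intro p; rw [Function.iterate_succ_apply, ih]; rfl
  rw [e]
  ext
  · change ρ ((τA)^[k'] x) = (τB)^[k + k'] y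
    rw [iter_comm hρ, hx, iter_iter, add_comm]
  · change ρ' ((τA')^[k] x') = (τB')^[k + k'] y'
    rw [iter_comm hρ', hx', iter_iter]

theorem L2.prod {ρ : A →+ B} {τA : A →+ A} {ρ' : A' →+ B'} {τA' : A' →+ A'}
    (h : L2 ρ τA) (h' : L2 ρ' τA') : L2 (ρ.prodMap ρ') (τA.prodMap τA') := by
  rintro ⟨x, x'⟩ hxx
  have h1 : ρ x = 0 := congrArg Prod.fst hxx
  have h2 : ρ' x' = 0 := congrArg Prod.snd hxx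
  obtain ⟨k, hk⟩ := h x h1
  obtain ⟨k', hk'⟩ := h' x' h2
  refine ⟨k + k', ?_⟩
  have e : ∀ (n : ℕ) (p : A × A'), (τA.prodMap τA')^[n] p = ((τA)^[n] p.1, (τA')^[n] p.2) := by
    intro n
    induction n with
    | zero => intro p; rfl
    | succ n ih => intro p; rw [Function.iterate_succ_apply, ih]; rfl
  rw [e]
  ext
  · exact iter_eq_zero_of_le τA (Nat.le_add_right k k') hk
  · exact iter_eq_zero_of_le τA' (Nat.le_add_left k' k) hk'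

end prod

section five

variable {A₁ A₂ A₃ A₄ A₅ B₁ B₂ B₃ B₄ B₅ : Type*}
  [AddCommGroup A₁] [AddCommGroup A₂] [AddCommGroup A₃] [AddCommGroup A₄] [AddCommGroup A₅]
  [AddCommGroup B₁] [AddCommGroup B₂] [AddCommGroup B₃] [AddCommGroup B₄] [AddCommGroup B₅]

/-- five lemma, kernel half -/
theorem five_L2
    (a₁₂ : A₁ →+ A₂) (a₂₃ : A₂ →+ A₃) (a₃₄ : A₃ →+ A₄)
    (b₁₂ : B₁ →+ B₂) (b₂₃ : B₂ →+ B₃) (b₃₄ : B₃ →+ B₄)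
    (ρ₁ : A₁ →+ B₁) (ρ₂ : A₂ →+ B₂) (ρ₃ : A₃ →+ B₃) (ρ₄ : A₄ →+ B₄)
    (τA₁ : A₁ →+ A₁) (τA₂ : A₂ →+ A₂) (τA₃ : A₃ →+ A₃) (τA₄ : A₄ →+ A₄)
    (τB₁ : B₁ →+ B₁) (τB₂ : B₂ →+ B₂) (τB₃ : B₃ →+ B₃)
    (exA₃ : ∀ x : A₃, a₃₄ x = 0 → ∃ y : A₂, a₂₃ y = x)
    (exB₂ : ∀ y : B₂, b₂₃ y = 0 → ∃ z : B₁, b₁₂ z = y)
    (zA : ∀ w : A₁, a₂₃ (a₁₂ w) = 0)
    (c₁₂ : ∀ w, ρ₂ (a₁₂ w) = b₁₂ (ρ₁ w)) (c₂₃ : ∀ y, ρ₃ (a₂₃ y) = b₂₃ (ρ₂ y))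
    (c₃₄ : ∀ x, ρ₄ (a₃₄ x) = b₃₄ (ρ₃ x))
    (ta₁₂ : ∀ x, a₁₂ (τA₁ x) = τA₂ (a₁₂ x)) (ta₂₃ : ∀ x, a₂₃ (τA₂ x) = τA₃ (a₂₃ x))
    (ta₃₄ : ∀ x, a₃₄ (τA₃ x) = τA₄ (a₃₄ x))
    (tb₁₂ : ∀ x, b₁₂ (τB₁ x) = τB₂ (b₁₂ x))
    (tρ₂ : ∀ x, ρ₂ (τA₂ x) = τB₂ (ρ₂ x)) (tρ₃ : ∀ x, ρ₃ (τA₃ x) = τB₃ (ρ₃ x))
    (h₄ : L2 ρ₄ τA₄) (h₁ : L1 ρ₁ τB₁) (h₂ : L2 ρ₂ τA₂) : L2 ρ₃ τA₃ := by
  intro x hx
  obtain ⟨n, hn⟩ := h₄ (a₃₄ x) (by rw [c₃₄, hx, map_zero])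
  rw [← iter_comm ta₃₄] at hn
  obtain ⟨y, hy⟩ := exA₃ _ hn
  have h2 : b₂₃ (ρ₂ y) = 0 := by
    rw [← c₂₃, hy, iter_comm tρ₃, hx, iter_zero]
  obtain ⟨z, hz⟩ := exB₂ _ h2
  obtain ⟨m, w, hw⟩ := h₁ z
  have h3 : ρ₂ ((τA₂)^[m] y - a₁₂ w) = 0 := by
    rw [map_sub, iter_comm tρ₂, c₁₂, hw, ← hz, iter_comm tb₁₂, sub_self]
  obtain ⟨k, hk⟩ := h₂ _ h3
  refine ⟨k + m + n, ?_⟩
  rw [← iter_iter, ← hy, ← iter_iter, ← iter_comm ta₂₃, ← iter_comm ta₂₃]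
  rw [iter_sub, sub_eq_zero] at hk
  rw [hk, ← iter_comm ta₁₂, zA]

/-- five lemma, image half -/
theorem five_L1
    (a₂₃ : A₂ →+ A₃) (a₃₄ : A₃ →+ A₄) (a₄₅ : A₄ →+ A₅)
    (b₂₃ : B₂ →+ B₃) (b₃₄ : B₃ →+ B₄) (b₄₅ : B₄ →+ B₅)
    (ρ₂ : A₂ →+ B₂) (ρ₃ : A₃ →+ B₃) (ρ₄ : A₄ →+ B₄) (ρ₅ : A₅ →+ B₅)
    (τA₂ : A₂ →+ A₂) (τA₃ : A₃ →+ A₃) (τA₄ : A₄ →+ A₄) (τA₅ : A₅ →+ A₅)
    (τB₂ : B₂ →+ B₂) (τB₃ : B₃ →+ B₃) (τB₄ : B₄ →+ B₄) (τB₅ : B₅ →+ B₅)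
    (exA₄ : ∀ x : A₄, a₄₅ x = 0 → ∃ y : A₃, a₃₄ y = x)
    (exB₃ : ∀ y : B₃, b₃₄ y = 0 → ∃ z : B₂, b₂₃ z = y)
    (zB : ∀ w : B₃, b₄₅ (b₃₄ w) = 0)
    (c₂₃ : ∀ y, ρ₃ (a₂₃ y) = b₂₃ (ρ₂ y)) (c₃₄ : ∀ x, ρ₄ (a₃₄ x) = b₃₄ (ρ₃ x))
    (c₄₅ : ∀ x, ρ₅ (a₄₅ x) = b₄₅ (ρ₄ x))
    (ta₃₄ : ∀ x, a₃₄ (τA₃ x) = τA₄ (a₃₄ x)) (ta₄₅ : ∀ x, a₄₅ (τA₄ x) = τA₅ (a₄₅ x))
    (tb₂₃ : ∀ x, b₂₃ (τB₂ x) = τB₃ (b₂₃ x)) (tb₃₄ : ∀ x, b₃₄ (τB₃ x) = τB₄ (b₃₄ x))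
    (tb₄₅ : ∀ x, b₄₅ (τB₄ x) = τB₅ (b₄₅ x))
    (tρ₃ : ∀ x, ρ₃ (τA₃ x) = τB₃ (ρ₃ x)) (tρ₄ : ∀ x, ρ₄ (τA₄ x) = τB₄ (ρ₄ x))
    (h₄ : L1 ρ₄ τB₄) (h₅ : L2 ρ₅ τA₅) (h₂ : L1 ρ₂ τB₂) : L1 ρ₃ τB₃ := by
  intro y
  obtain ⟨n, u, hu⟩ := h₄ (b₃₄ y)
  have h1 : ρ₅ (a₄₅ u) = 0 := by
    rw [c₄₅, hu, iter_comm tb₄₅, zB, iter_zero]
  obtain ⟨m, hm⟩ := h₅ _ h1
  rw [← iter_comm ta₄₅] at hm
  obtain ⟨v, hv⟩ := exA₄ _ hm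
  have h2 : b₃₄ (ρ₃ v - (τB₃)^[m + n] y) = 0 := by
    rw [map_sub, ← c₃₄, hv, iter_comm tρ₄, hu, iter_iter, iter_comm tb₃₄, sub_self]
  obtain ⟨z, hz⟩ := exB₃ _ h2
  obtain ⟨k, w, hw⟩ := h₂ z
  refine ⟨k + (m + n), (τA₃)^[k] v - a₂₃ w, ?_⟩
  rw [map_sub, iter_comm tρ₃, c₂₃, hw, iter_comm tb₂₃, hz, iter_sub, iter_iter]
  abel

end five

end Groth.Agent.Lead.LocFive
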