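import Mathlib

/-!
Lead library (Zariski cohomology project), part 1: degree zero cohomology `H'^0(U, F)` of an
abelian sheaf on a site is the group of sections `F(U)`, naturally in `U` and `F`.
-/

set_option autoImplicit false

open CategoryTheory Opposite Abelian

namespace Groth.Agent.Lead.Coh

universe w v u

variable {C : Type u} [Category.{v} C] (J : GrothendieckTopology C)
  [HasWeakSheafify J (Type v)] [HasSheafify J AddCommGrpCat.{v}]

/-- the free abelian sheaf on a representable presheaf -/
noncomputable abbrev freeSheaf (U : C) : Sheaf J AddCommGrpCat.{v} :=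
  (presheafToSheaf J AddCommGrpCat.{v}).obj (yoneda.obj U ⋙ AddCommGrpCat.free)

/-- functoriality of the free abelian sheaf -/
noncomputable abbrev freeSheafMap {U V : C} (f : V ⟶ U) : freeSheaf J V ⟶ freeSheaf J U :=
  (presheafToSheaf J AddCommGrpCat.{v}).map (Functor.whiskerRight (yoneda.map f) AddCommGrpCat.free)

variable {J}

/-- morphisms from the free sheaf on `U` are sections over `U` -/
noncomputable def homEquivSections (U : C) (F : Sheaf J AddCommGrpCat.{v}) :
    (freeSheaf J U ⟶ F) ≃ F.obj.obj (op U) :=
  ((sheafificationAdjunction J AddCommGrpCat.{v}).homEquiv _ _).trans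
    (((Adjunction.whiskerRight Cᵒᵖ AddCommGrpCat.adj).homEquiv _ _).trans yonedaEquiv)

theorem homEquivSections_naturality_right (U : C) {F G : Sheaf J AddCommGrpCat.{v}}
    (φ : F ⟶ G) (g : freeSheaf J U ⟶ F) :
    homEquivSections U G (g ≫ φ) = φ.hom.app (op U) (homEquivSections U F g) := by
  simp only [homEquivSections, Equiv.trans_apply]
  rw [Adjunction.homEquiv_naturality_right, Adjunction.homEquiv_naturality_right]
  rfl

theorem homEquivSections_naturality_left {U V : C} (f : V ⟶ U) (F : Sheaf J AddCommGrpCat.{v})
    (g : freeSheaf J U ⟶ F) :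
    homEquivSections V F (freeSheafMap J f ≫ g) = F.obj.map f.op (homEquivSections U F g) := by
  simp only [homEquivSections, Equiv.trans_apply, freeSheafMap]
  rw [Adjunction.homEquiv_naturality_left]
  erw [Adjunction.homEquiv_naturality_left]
  exact (yonedaEquiv_naturality _ f).symm

theorem homEquivSections_add (U : C) (F : Sheaf J AddCommGrpCat.{v})
    (g₁ g₂ : freeSheaf J U ⟶ F) :
    homEquivSections U F (g₁ + g₂) = homEquivSections U F g₁ + homEquivSections U F g₂ := by
  simp only [homEquivSections, Equiv.trans_apply, Adjunction.homEquiv_unit, yonedaEquiv_apply]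
  simp only [Functor.map_add, Preadditive.comp_add]
  rfl

theorem homEquivSections_zero (U : C) (F : Sheaf J AddCommGrpCat.{v}) :
    homEquivSections U F 0 = 0 := by
  have h := homEquivSections_add U F 0 0
  rw [add_zero] at h
  exact left_eq_add.mp h

theorem homEquivSections_neg (U : C) (F : Sheaf J AddCommGrpCat.{v})
    (g : freeSheaf J U ⟶ F) :
    homEquivSections U F (-g) = -homEquivSections U F g := by
  have h := homEquivSections_add U F g (-g)
  rw [add_neg_cancel, homEquivSections_zero] at h
  exact (neg_eq_of_add_eq_zero_right h.symm).symm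

theorem homEquivSections_sub (U : C) (F : Sheaf J AddCommGrpCat.{v})
    (g₁ g₂ : freeSheaf J U ⟶ F) :
    homEquivSections U F (g₁ - g₂) = homEquivSections U F g₁ - homEquivSections U F g₂ := by
  rw [sub_eq_add_neg, homEquivSections_add, homEquivSections_neg, ← sub_eq_add_neg]

end Groth.Agent.Lead.Coh
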