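import Mathlib
import Groth.Agent.Lead.Coh.H0

/-!
Lead library (Zariski cohomology project), part 2: a cohomology class of positive degree of an
abelian sheaf on a site vanishes locally.
-/

set_option autoImplicit false

open CategoryTheory Opposite Abelian Limits

namespace Groth.Agent.Lead.Coh

universe v u

variable {C : Type u} [Category.{v} C] {J : GrothendieckTopology C}
  [HasWeakSheafify J (Type v)] [HasSheafify J AddCommGrpCat.{v}]
  [HasExt.{v} (Sheaf J AddCommGrpCat.{v})]

/-- restriction of a cohomology class along `f : V ⟶ U` -/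
noncomputable def res {U V : C} (f : V ⟶ U) {F : Sheaf J AddCommGrpCat.{v}} {n : ℕ}
    (α : Ext (freeSheaf J U) F n) : Ext (freeSheaf J V) F n :=
  (Ext.mk₀ (freeSheafMap J f)).comp α (zero_add n)

theorem res_zero {U V : C} (f : V ⟶ U) (F : Sheaf J AddCommGrpCat.{v}) (n : ℕ) :
    res f (0 : Ext (freeSheaf J U) F n) = 0 := by
  rw [res, Ext.comp_zero]

theorem res_add {U V : C} (f : V ⟶ U) {F : Sheaf J AddCommGrpCat.{v}} {n : ℕ}
    (α β : Ext (freeSheaf J U) F n) : res f (α + β) = res f α + res f β := by
  rw [res, res, res, Ext.comp_add]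

theorem res_res {U V W : C} (f : V ⟶ U) (g : W ⟶ V) {F : Sheaf J AddCommGrpCat.{v}} {n : ℕ}
    (α : Ext (freeSheaf J U) F n) : res g (res f α) = res (g ≫ f) α := by
  rw [res, res, res, Ext.mk₀_comp_mk₀_assoc]
  congr 2
  rw [freeSheafMap, freeSheafMap, freeSheafMap, ← Functor.map_comp]
  congr 1
  rw [← Functor.whiskerRight_comp, ← Functor.map_comp]

theorem res_id {U : C} {F : Sheaf J AddCommGrpCat.{v}} {n : ℕ}
    (α : Ext (freeSheaf J U) F n) : res (𝟙 U) α = α := by
  rw [res]
  have : freeSheafMap J (𝟙 U) = 𝟙 _ := by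
    rw [freeSheafMap, CategoryTheory.Functor.map_id, Functor.whiskerRight_id']
    exact CategoryTheory.Functor.map_id _ _
  rw [this, Ext.mk₀_id_comp]

theorem res_comp {U V : C} (f : V ⟶ U) {F G : Sheaf J AddCommGrpCat.{v}} {n m k : ℕ}
    (α : Ext (freeSheaf J U) F n) (e : Ext F G m) (h : n + m = k) :
    res f (α.comp e h) = (res f α).comp e h := by
  rw [res, res]
  exact (Ext.comp_assoc _ _ _ (zero_add n) h (by omega)).symm

/-- the sieve of arrows along which a class vanishes -/
def vanishingSieve {U : C} {F : Sheaf J AddCommGrpCat.{v}} {n : ℕ}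
    (α : Ext (freeSheaf J U) F n) : Sieve U where
  arrows V f := res f α = 0
  downward_closed := by
    intro V W f hf g
    rw [← res_res, hf, res_zero]

variable [EnoughInjectives (Sheaf J AddCommGrpCat.{v})]
  [J.HasSheafCompose (forget AddCommGrpCat.{v})] [Balanced (Sheaf J AddCommGrpCat.{v})]
  [J.WEqualsLocallyBijective AddCommGrpCat.{v}]

/-- classes of positive degree vanish locally -/
theorem vanishingSieve_mem : ∀ (n : ℕ) (F : Sheaf J AddCommGrpCat.{v}) {U : C}
    (α : Ext (freeSheaf J U) F (n + 1)), vanishingSieve α ∈ J U := by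
  intro n
  induction n with
  | zero =>
    intro F U α
    let S : ShortComplex (Sheaf J AddCommGrpCat.{v}) :=
      ShortComplex.mk (Injective.ι F) (cokernel.π (Injective.ι F)) (cokernel.condition _)
    have hS : S.ShortExact := { exact := ShortComplex.exact_cokernel (Injective.ι F) }
    have h0 : α.comp (Ext.mk₀ S.f) (add_zero 1) = 0 := Ext.eq_zero_of_injective _
    obtain ⟨β, hβ⟩ := Ext.covariant_sequence_exact₁ _ hS α h0 (zero_add 1)
    obtain ⟨b, rfl⟩ := (Ext.mk₀_bijective _ _).2 β
    let s := homEquivSections U S.X₃ b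
    haveI : Sheaf.IsLocallySurjective S.g := (Sheaf.isLocallySurjective_iff_epi' AddCommGrpCat.{v} S.g).mpr hS.epi_g
    have hcov := Presheaf.imageSieve_mem J S.g.hom s
    refine J.superset_covering ?_ hcov
    intro V f hf
    obtain ⟨t, ht⟩ := hf
    change res f α = 0
    let τ : freeSheaf J V ⟶ S.X₂ := (homEquivSections V S.X₂).symm t
    have hτ : τ ≫ S.g = freeSheafMap J f ≫ b := by
      apply (homEquivSections V S.X₃).injective
      rw [homEquivSections_naturality_right, homEquivSections_naturality_left,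
        Equiv.apply_symm_apply]
      exact ht
    rw [← hβ, res_comp, res, Ext.mk₀_comp_mk₀, ← hτ, ← Ext.mk₀_comp_mk₀,
      Ext.comp_assoc_of_second_deg_zero, hS.comp_extClass, Ext.comp_zero]
  | succ n ih =>
    intro F U α
    let S : ShortComplex (Sheaf J AddCommGrpCat.{v}) :=
      ShortComplex.mk (Injective.ι F) (cokernel.π (Injective.ι F)) (cokernel.condition _)
    have hS : S.ShortExact := { exact := ShortComplex.exact_cokernel (Injective.ι F) }
    have h0 : α.comp (Ext.mk₀ S.f) (add_zero (n + 1 + 1)) = 0 := Ext.eq_zero_of_injective _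
    obtain ⟨β, hβ⟩ := Ext.covariant_sequence_exact₁ _ hS α h0 (rfl : n + 1 + 1 = n + 1 + 1)
    refine J.superset_covering ?_ (ih S.X₃ β)
    intro V f hf
    change res f α = 0
    have hf' : res f β = 0 := hf
    rw [← hβ, res_comp, hf', Ext.zero_comp]

end Groth.Agent.Lead.Coh
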