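import Mathlib
import Groth.Agent.Lead.Coh.LocalTriv

/-!
Lead library (Zariski cohomology project), part 3: Mayer–Vietoris consequences for two opens.
-/

set_option autoImplicit false

open CategoryTheory Opposite Abelian Limits TopologicalSpace

namespace Groth.Agent.Lead.Coh

universe u

variable {T : Type u} [TopologicalSpace T]
  [HasExt.{u} (Sheaf (Opens.grothendieckTopology T) AddCommGrpCat.{u})]

/-- restriction along an inclusion of opens -/
noncomputable abbrev resLE {U V : Opens T} (h : V ≤ U)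
    {F : Sheaf (Opens.grothendieckTopology T) AddCommGrpCat.{u}} {n : ℕ}
    (α : Ext (freeSheaf (Opens.grothendieckTopology T) U) F n) :
    Ext (freeSheaf (Opens.grothendieckTopology T) V) F n :=
  res (homOfLE h) α

theorem resLE_eq_map {U V : Opens T} (h : V ≤ U)
    (F : Sheaf (Opens.grothendieckTopology T) AddCommGrpCat.{u}) (n : ℕ)
    (α : Ext (freeSheaf (Opens.grothendieckTopology T) U) F n) :
    resLE h α = (F.cohomologyPresheaf n).map (homOfLE h).op α := rfl

/-- Mayer–Vietoris: a class on `W₁ ⊔ W₂` vanishing on `W₁` and `W₂` is a boundary -/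
theorem exists_δ_eq (W₁ W₂ : Opens T)
    (F : Sheaf (Opens.grothendieckTopology T) AddCommGrpCat.{u}) (n : ℕ)
    (x : Ext (freeSheaf (Opens.grothendieckTopology T) (W₁ ⊔ W₂)) F (n + 1))
    (h₁ : resLE le_sup_left x = 0) (h₂ : resLE le_sup_right x = 0) :
    ∃ y : Ext (freeSheaf (Opens.grothendieckTopology T) (W₁ ⊓ W₂)) F n,
      (Opens.mayerVietorisSquare W₁ W₂).δ F n (n + 1) rfl y = x := by
  let S := Opens.mayerVietorisSquare W₁ W₂
  have hex := (S.sequence_exact F n (n + 1) rfl).exact 2
  rw [ShortComplex.ab_exact_iff] at hex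
  apply hex x
  change S.toBiprod F (n + 1) x = 0
  rw [GrothendieckTopology.MayerVietorisSquare.toBiprod_apply]
  have e1 : (F.cohomologyPresheaf (n + 1)).map S.f₂₄.op x = 0 := h₁
  have e2 : (F.cohomologyPresheaf (n + 1)).map S.f₃₄.op x = 0 := h₂
  rw [e1, e2]
  exact map_zero _

/-- Mayer–Vietoris: the boundary of a difference of restrictions vanishes -/
theorem δ_sub_eq_zero (W₁ W₂ : Opens T)
    (F : Sheaf (Opens.grothendieckTopology T) AddCommGrpCat.{u}) (n : ℕ)
    (a : Ext (freeSheaf (Opens.grothendieckTopology T) W₁) F n)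
    (b : Ext (freeSheaf (Opens.grothendieckTopology T) W₂) F n) :
    (Opens.mayerVietorisSquare W₁ W₂).δ F n (n + 1) rfl
      (resLE inf_le_left a - resLE inf_le_right b) = 0 := by
  let S := Opens.mayerVietorisSquare W₁ W₂
  have h := GrothendieckTopology.MayerVietorisSquare.fromBiprod_biprodIsoProd_inv_apply S F a b
  have h2 : (S.fromBiprod F n ≫ S.δ F n (n + 1) rfl)
      ((AddCommGrpCat.biprodIsoProd _ _).inv ⟨a, b⟩) = 0 := by
    rw [GrothendieckTopology.MayerVietorisSquare.fromBiprod_δ]
    rfl
  rw [ConcreteCategory.comp_apply, h] at h2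
  exact h2

end Groth.Agent.Lead.Coh
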