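import Mathlib
import Groth.Agent.Lead.Coh.MV

/-!
Lead library (Zariski cohomology project), part 4: an abstract vanishing theorem.

Let `T` be a topological space, `F` an abelian sheaf on `T` and `B` a family of quasi-compact opens,
stable under finite intersections, such that
* (split) if `W ∈ B` and `W ≤ V₁ ⊔ V₂` then `W = W₁ ⊔ W₂` with `Wᵢ ∈ B`, `Wᵢ ≤ Vᵢ`;
* (surj) if `W₁, W₂, W₁ ⊔ W₂ ∈ B`, every section of `F` on `W₁ ⊓ W₂` is a difference of a section
  on `W₁` and a section on `W₂`.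
Then `H^{n+1}(W, F) = 0` for all `W ∈ B`.
-/

set_option autoImplicit false

open CategoryTheory Opposite Abelian Limits TopologicalSpace

namespace Groth.Agent.Lead.Coh

universe u

variable {T : Type u} [TopologicalSpace T]
  [HasExt.{u} (Sheaf (Opens.grothendieckTopology T) AddCommGrpCat.{u})]

/-- The hypotheses of the abstract vanishing theorem. -/
structure IsGoodBasis (B : Set (Opens T))
    (F : Sheaf (Opens.grothendieckTopology T) AddCommGrpCat.{u}) : Prop where
  inf_mem : ∀ {U V : Opens T}, U ∈ B → V ∈ B → U ⊓ V ∈ B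
  isCompact : ∀ {U : Opens T}, U ∈ B → IsCompact (U : Set T)
  split : ∀ {W : Opens T} (V₁ V₂ : Opens T), W ∈ B → W ≤ V₁ ⊔ V₂ →
    ∃ W₁ ∈ B, ∃ W₂ ∈ B, W = W₁ ⊔ W₂ ∧ W₁ ≤ V₁ ∧ W₂ ≤ V₂
  surj : ∀ {W₁ W₂ : Opens T}, W₁ ∈ B → W₂ ∈ B → W₁ ⊔ W₂ ∈ B →
    ∀ s : F.obj.obj (op (W₁ ⊓ W₂)), ∃ (a : F.obj.obj (op W₁)) (b : F.obj.obj (op W₂)),
      s = F.obj.map (homOfLE (inf_le_left : W₁ ⊓ W₂ ≤ W₁)).op a -
        F.obj.map (homOfLE (inf_le_right : W₁ ⊓ W₂ ≤ W₂)).op b

theorem ext_eq_zero_of_isZero {A : Type*} [Category A] [Abelian A] [HasExt A]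
    {X Y : A} (hX : IsZero X) {n : ℕ} (x : Ext X Y n) : x = 0 := by
  rw [← Ext.mk₀_id_comp x, hX.eq_of_src (𝟙 X) 0, Ext.mk₀_zero, Ext.zero_comp]

theorem isZero_freeSheaf_bot :
    IsZero (freeSheaf (Opens.grothendieckTopology T) (⊥ : Opens T)) := by
  rw [IsZero.iff_id_eq_zero]
  apply (homEquivSections (⊥ : Opens T) _).injective
  have h := TopCat.Sheaf.isTerminalOfEmpty (X := TopCat.of T)
    (freeSheaf (Opens.grothendieckTopology T) (⊥ : Opens T))
  have hz : IsZero ((freeSheaf (Opens.grothendieckTopology T) (⊥ : Opens T)).obj.obj (op ⊥)) :=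
    (isZero_zero _).of_iso (h.uniqueUpToIso (HasZeroObject.zeroIsTerminal))
  haveI := AddCommGrpCat.subsingleton_of_isZero hz
  exact Subsingleton.elim _ _

theorem ext_bot_eq_zero (F : Sheaf (Opens.grothendieckTopology T) AddCommGrpCat.{u}) {n : ℕ}
    (x : Ext (freeSheaf (Opens.grothendieckTopology T) (⊥ : Opens T)) F n) : x = 0 :=
  ext_eq_zero_of_isZero isZero_freeSheaf_bot x

/-- degree-zero classes are sections -/
theorem exists_mk₀_symm_eq {W : Opens T}
    (F : Sheaf (Opens.grothendieckTopology T) AddCommGrpCat.{u})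
    (y : Ext (freeSheaf (Opens.grothendieckTopology T) W) F 0) :
    ∃ s : F.obj.obj (op W), y = Ext.mk₀ ((homEquivSections W F).symm s) := by
  obtain ⟨g, rfl⟩ := (Ext.mk₀_bijective _ _).2 y
  exact ⟨homEquivSections W F g, by rw [Equiv.symm_apply_apply]⟩

theorem resLE_mk₀_symm {W V : Opens T} (h : V ≤ W)
    (F : Sheaf (Opens.grothendieckTopology T) AddCommGrpCat.{u}) (a : F.obj.obj (op W)) :
    resLE h (Ext.mk₀ ((homEquivSections W F).symm a)) =
      Ext.mk₀ ((homEquivSections V F).symm (F.obj.map (homOfLE h).op a)) := by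
  rw [resLE, res, Ext.mk₀_comp_mk₀]
  congr 1
  apply (homEquivSections V F).injective
  rw [homEquivSections_naturality_left, Equiv.apply_symm_apply, Equiv.apply_symm_apply]

theorem mk₀_symm_sub {W : Opens T}
    (F : Sheaf (Opens.grothendieckTopology T) AddCommGrpCat.{u}) (a b : F.obj.obj (op W)) :
    Ext.mk₀ ((homEquivSections W F).symm (a - b)) =
      Ext.mk₀ ((homEquivSections W F).symm a) - Ext.mk₀ ((homEquivSections W F).symm b) := by
  rw [sub_eq_add_neg (Ext.mk₀ _), ← Ext.mk₀_neg, ← Ext.mk₀_add]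
  congr 1
  apply (homEquivSections W F).injective
  rw [Equiv.apply_symm_apply, homEquivSections_add, homEquivSections_neg, Equiv.apply_symm_apply,
    Equiv.apply_symm_apply, sub_eq_add_neg]

variable {B : Set (Opens T)} {F : Sheaf (Opens.grothendieckTopology T) AddCommGrpCat.{u}}

/-- the two-open case -/
theorem IsGoodBasis.eq_zero_of_two (hB : IsGoodBasis B F) (n : ℕ)
    (ih : ∀ m < n, ∀ W ∈ B, ∀ x : Ext (freeSheaf (Opens.grothendieckTopology T) W) F (m + 1),
      x = 0)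
    {W₁ W₂ : Opens T} (h₁ : W₁ ∈ B) (h₂ : W₂ ∈ B) (h₁₂ : W₁ ⊔ W₂ ∈ B)
    (x : Ext (freeSheaf (Opens.grothendieckTopology T) (W₁ ⊔ W₂)) F (n + 1))
    (hx₁ : resLE le_sup_left x = 0) (hx₂ : resLE le_sup_right x = 0) : x = 0 := by
  obtain ⟨y, rfl⟩ := exists_δ_eq W₁ W₂ F n x hx₁ hx₂
  cases n with
  | zero =>
    obtain ⟨s, rfl⟩ := exists_mk₀_symm_eq F y
    obtain ⟨a, b, rfl⟩ := hB.surj h₁ h₂ h₁₂ s
    rw [mk₀_symm_sub, ← resLE_mk₀_symm, ← resLE_mk₀_symm]
    exact δ_sub_eq_zero W₁ W₂ F 0 _ _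
  | succ m =>
    rw [ih m (Nat.lt_succ_self m) _ (hB.inf_mem h₁ h₂) y]
    exact map_zero _

theorem resLE_resLE {U V W : Opens T} (h : V ≤ U) (h' : W ≤ V) {n : ℕ}
    (α : Ext (freeSheaf (Opens.grothendieckTopology T) U) F n) :
    resLE h' (resLE h α) = resLE (h'.trans h) α :=
  res_res _ _ _

theorem resLE_zero {U V : Opens T} (h : V ≤ U) (n : ℕ) :
    resLE h (0 : Ext (freeSheaf (Opens.grothendieckTopology T) U) F n) = 0 :=
  res_zero _ _ _

/-- finite covers -/
theorem IsGoodBasis.eq_zero_of_finset (hB : IsGoodBasis B F) (n : ℕ)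
    (ih : ∀ m < n, ∀ W ∈ B, ∀ x : Ext (freeSheaf (Opens.grothendieckTopology T) W) F (m + 1),
      x = 0)
    (t : Finset (Opens T)) : ∀ {W : Opens T} (_ : W ∈ B)
      (x : Ext (freeSheaf (Opens.grothendieckTopology T) W) F (n + 1)),
      W ≤ t.sup id → (∀ V ∈ t, resLE (inf_le_left : W ⊓ V ≤ W) x = 0) → x = 0 := by
  classical
  induction t using Finset.induction_on with
  | empty =>
    intro W hW x hle _
    have : W = ⊥ := le_bot_iff.mp (by simpa using hle)
    subst this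
    exact ext_bot_eq_zero F x
  | insert V₁ t' hV₁ iht =>
    intro W hW x hle hx
    rw [Finset.sup_insert] at hle
    obtain ⟨W₁, hW₁, W₂, hW₂, rfl, hle₁, hle₂⟩ := hB.split V₁ (t'.sup id) hW hle
    apply hB.eq_zero_of_two n ih hW₁ hW₂ hW x
    · have h0 := hx V₁ (Finset.mem_insert_self _ _)
      have : resLE le_sup_left x =
          resLE (le_inf le_sup_left hle₁ : W₁ ≤ (W₁ ⊔ W₂) ⊓ V₁) (resLE inf_le_left x) := by
        rw [resLE_resLE]
      rw [this, h0, resLE_zero]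
    · apply iht hW₂ _ hle₂
      intro V hV
      have h0 := hx V (Finset.mem_insert_of_mem hV)
      have : resLE (inf_le_left : W₂ ⊓ V ≤ W₂) (resLE le_sup_right x) =
          resLE (inf_le_inf_right V le_sup_right : W₂ ⊓ V ≤ (W₁ ⊔ W₂) ⊓ V)
            (resLE inf_le_left x) := by
        rw [resLE_resLE, resLE_resLE]
      rw [this, h0, resLE_zero]

variable [EnoughInjectives (Sheaf (Opens.grothendieckTopology T) AddCommGrpCat.{u})]

/-- **Abstract vanishing theorem**: higher cohomology of `F` vanishes on all members of a good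
basis. -/
theorem IsGoodBasis.ext_eq_zero (hB : IsGoodBasis B F) (n : ℕ) : ∀ {W : Opens T} (_ : W ∈ B)
    (x : Ext (freeSheaf (Opens.grothendieckTopology T) W) F (n + 1)), x = 0 := by
  induction n using Nat.strong_induction_on with
  | _ n ih =>
    intro W hW x
    have hcov : vanishingSieve x ∈ Opens.grothendieckTopology T W := vanishingSieve_mem n F x
    let S : Set (Opens T) := {V | ∃ h : V ≤ W, resLE h x = 0}
    have hsub : (W : Set T) ⊆ ⋃ V ∈ S, (V : Set T) := by
      intro p hp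
      obtain ⟨U, f, hf, hpU⟩ := hcov p hp
      exact Set.mem_iUnion₂.mpr ⟨U, ⟨leOfHom f, hf⟩, hpU⟩
    obtain ⟨b, hbS, hbfin, hb⟩ := (hB.isCompact hW).elim_finite_subcover_image
      (fun V _ => V.isOpen) hsub
    refine hB.eq_zero_of_finset n (fun m hm W' hW' x' => ih m hm hW' x') hbfin.toFinset hW x ?_ ?_
    · intro p hp
      obtain ⟨V, hV, hpV⟩ := Set.mem_iUnion₂.mp (hb hp)
      have : V ≤ hbfin.toFinset.sup id := Finset.le_sup (f := id) (hbfin.mem_toFinset.mpr hV)
      exact this hpV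
    · intro V hV
      obtain ⟨h, h0⟩ := hbS (hbfin.mem_toFinset.mp hV)
      have : resLE (inf_le_left : W ⊓ V ≤ W) x = resLE (inf_le_right : W ⊓ V ≤ V) (resLE h x) := by
        rw [resLE_resLE]
      rw [this, h0, resLE_zero]

end Groth.Agent.Lead.Coh
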