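import Mathlib
import Groth.Agent.Lead.Coh.MVVanish

/-!
Lead library (Zariski cohomology project): the Mayer–Vietoris sequence of an arbitrary
Mayer–Vietoris square of opens in elementwise form, and its naturality in the sheaf and in the
square.
-/

set_option autoImplicit false

open CategoryTheory Opposite Abelian Limits TopologicalSpace

namespace Groth.Agent.Lead.Coh

universe u

variable {T : Type u} [TopologicalSpace T]
  [HasExt.{u} (Sheaf (Opens.grothendieckTopology T) AddCommGrpCat.{u})]

/-- composition of the functoriality maps of free sheaves -/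
theorem freeSheafMap_comp_opens {U V W : Opens T} (f : V ⟶ U) (g : W ⟶ V) :
    freeSheafMap (Opens.grothendieckTopology T) g ≫ freeSheafMap (Opens.grothendieckTopology T) f =
      freeSheafMap (Opens.grothendieckTopology T) (g ≫ f) := by
  rw [freeSheafMap, freeSheafMap, freeSheafMap, ← Functor.map_comp]
  congr 1
  rw [← Functor.whiskerRight_comp, ← Functor.map_comp]

/-- all squares of functoriality maps of free sheaves on opens commute -/
theorem freeSheafMap_comm {U V V' W : Opens T} (f : V ⟶ U) (g : W ⟶ V) (f' : V' ⟶ U)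
    (g' : W ⟶ V') :
    freeSheafMap (Opens.grothendieckTopology T) g ≫ freeSheafMap (Opens.grothendieckTopology T) f =
      freeSheafMap (Opens.grothendieckTopology T) g' ≫
        freeSheafMap (Opens.grothendieckTopology T) f' := by
  rw [freeSheafMap_comp_opens, freeSheafMap_comp_opens]
  congr 1

section general

variable (S : (Opens.grothendieckTopology T).MayerVietorisSquare)
  (F : Sheaf (Opens.grothendieckTopology T) AddCommGrpCat.{u})

/-- classes vanishing on both pieces are boundaries -/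
theorem mv_exists_δ_eq (n : ℕ)
    (x : Ext (freeSheaf (Opens.grothendieckTopology T) S.X₄) F (n + 1))
    (h₁ : res S.f₂₄ x = 0) (h₂ : res S.f₃₄ x = 0) :
    ∃ y : Ext (freeSheaf (Opens.grothendieckTopology T) S.X₁) F n,
      S.δ F n (n + 1) rfl y = x := by
  have hex := (S.sequence_exact F n (n + 1) rfl).exact 2
  rw [ShortComplex.ab_exact_iff] at hex
  apply hex x
  change S.toBiprod F (n + 1) x = 0
  rw [GrothendieckTopology.MayerVietorisSquare.toBiprod_apply]
  have e1 : (F.cohomologyPresheaf (n + 1)).map S.f₂₄.op x = 0 := h₁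
  have e2 : (F.cohomologyPresheaf (n + 1)).map S.f₃₄.op x = 0 := h₂
  rw [e1, e2]
  exact map_zero _

/-- the boundary of a difference of restrictions vanishes -/
theorem mv_δ_sub (n : ℕ)
    (a : Ext (freeSheaf (Opens.grothendieckTopology T) S.X₂) F n)
    (b : Ext (freeSheaf (Opens.grothendieckTopology T) S.X₃) F n) :
    S.δ F n (n + 1) rfl (res S.f₁₂ a - res S.f₁₃ b) = 0 := by
  have h := GrothendieckTopology.MayerVietorisSquare.fromBiprod_biprodIsoProd_inv_apply S F a b
  have h2 : (S.fromBiprod F n ≫ S.δ F n (n + 1) rfl)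
      ((AddCommGrpCat.biprodIsoProd _ _).inv ⟨a, b⟩) = 0 := by
    rw [GrothendieckTopology.MayerVietorisSquare.fromBiprod_δ]
    rfl
  rw [ConcreteCategory.comp_apply, h] at h2
  exact h2

/-- classes with vanishing boundary are differences of restrictions -/
theorem mv_exists_sub_eq (n : ℕ)
    (y : Ext (freeSheaf (Opens.grothendieckTopology T) S.X₁) F n)
    (h : S.δ F n (n + 1) rfl y = 0) :
    ∃ (a : Ext (freeSheaf (Opens.grothendieckTopology T) S.X₂) F n)
      (b : Ext (freeSheaf (Opens.grothendieckTopology T) S.X₃) F n),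
      res S.f₁₂ a - res S.f₁₃ b = y := by
  have hex := (S.sequence_exact F n (n + 1) rfl).exact 1
  rw [ShortComplex.ab_exact_iff] at hex
  obtain ⟨z, hz⟩ := hex y h
  obtain ⟨⟨a, b⟩, rfl⟩ :=
    (AddCommGrpCat.biprodIsoProd _ _).addCommGroupIsoToAddEquiv.symm.surjective z
  refine ⟨a, b, ?_⟩
  have h := GrothendieckTopology.MayerVietorisSquare.fromBiprod_biprodIsoProd_inv_apply S F a b
  exact h.symm.trans hz

/-- compatible classes on the two pieces glue -/
theorem mv_exists_glue (n : ℕ)
    (a : Ext (freeSheaf (Opens.grothendieckTopology T) S.X₂) F n)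
    (b : Ext (freeSheaf (Opens.grothendieckTopology T) S.X₃) F n)
    (h : res S.f₁₂ a = res S.f₁₃ b) :
    ∃ x : Ext (freeSheaf (Opens.grothendieckTopology T) S.X₄) F n,
      res S.f₂₄ x = a ∧ res S.f₃₄ x = b := by
  have hex := (S.sequence_exact F n (n + 1) rfl).exact 0
  rw [ShortComplex.ab_exact_iff] at hex
  have h0 : S.fromBiprod F n ((AddCommGrpCat.biprodIsoProd _ _).inv ⟨a, b⟩) = 0 := by
    rw [GrothendieckTopology.MayerVietorisSquare.fromBiprod_biprodIsoProd_inv_apply]
    exact sub_eq_zero.mpr h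
  obtain ⟨x, hx⟩ := hex _ h0
  have hx' : S.toBiprod F n x = (AddCommGrpCat.biprodIsoProd _ _).inv ⟨a, b⟩ := hx
  rw [GrothendieckTopology.MayerVietorisSquare.toBiprod_apply] at hx'
  have hinj := (AddCommGrpCat.biprodIsoProd
    (F.H' n S.X₂) (F.H' n S.X₃)).addCommGroupIsoToAddEquiv.symm.injective hx'
  exact ⟨x, congrArg Prod.fst hinj, congrArg Prod.snd hinj⟩

/-- boundaries restrict to zero on the two pieces -/
theorem mv_res_δ (n : ℕ) (y : Ext (freeSheaf (Opens.grothendieckTopology T) S.X₁) F n) :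
    res S.f₂₄ (S.δ F n (n + 1) rfl y) = 0 ∧ res S.f₃₄ (S.δ F n (n + 1) rfl y) = 0 := by
  have h : (S.δ F n (n + 1) rfl ≫ S.toBiprod F (n + 1)) y = 0 := by
    rw [GrothendieckTopology.MayerVietorisSquare.δ_toBiprod]
    rfl
  rw [ConcreteCategory.comp_apply, GrothendieckTopology.MayerVietorisSquare.toBiprod_apply] at h
  have hinj := (AddCommGrpCat.biprodIsoProd
    (F.H' (n + 1) S.X₂) (F.H' (n + 1) S.X₃)).addCommGroupIsoToAddEquiv.symm.injective
    (h.trans (map_zero (AddCommGrpCat.biprodIsoProd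
      (F.H' (n + 1) S.X₂) (F.H' (n + 1) S.X₃)).addCommGroupIsoToAddEquiv.symm).symm)
  exact ⟨congrArg Prod.fst hinj, congrArg Prod.snd hinj⟩

/-- a degree zero class vanishing on both pieces vanishes -/
theorem mv_eq_zero_of_res (x : Ext (freeSheaf (Opens.grothendieckTopology T) S.X₄) F 0)
    (h₁ : res S.f₂₄ x = 0) (h₂ : res S.f₃₄ x = 0) : x = 0 := by
  obtain ⟨φ, rfl⟩ := (Ext.mk₀_bijective _ _).2 x
  rw [res, Ext.mk₀_comp_mk₀] at h₁ h₂
  have e₁ : freeSheafMap _ S.f₂₄ ≫ φ = 0 :=
    (Ext.mk₀_bijective _ _).1 (by rw [h₁, Ext.mk₀_zero])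
  have e₂ : freeSheafMap _ S.f₃₄ ≫ φ = 0 :=
    (Ext.mk₀_bijective _ _).1 (by rw [h₂, Ext.mk₀_zero])
  have hepi : Epi (biprod.desc (freeSheafMap (Opens.grothendieckTopology T) S.f₂₄)
      (freeSheafMap (Opens.grothendieckTopology T) S.f₃₄)) :=
    inferInstanceAs (Epi S.shortComplex.g)
  have hg : biprod.desc (freeSheafMap (Opens.grothendieckTopology T) S.f₂₄)
      (freeSheafMap (Opens.grothendieckTopology T) S.f₃₄) ≫ φ = 0 := by
    apply biprod.hom_ext'
    · rw [biprod.inl_desc_assoc, comp_zero]; exact e₁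
    · rw [biprod.inr_desc_assoc, comp_zero]; exact e₂
  have : φ = 0 := by
    rw [← cancel_epi (biprod.desc (freeSheafMap (Opens.grothendieckTopology T) S.f₂₄)
      (freeSheafMap (Opens.grothendieckTopology T) S.f₃₄)), hg, comp_zero]
  rw [this, Ext.mk₀_zero]

/-- the Mayer–Vietoris extension class, typed with free sheaves -/
noncomputable def mvClass : Ext (freeSheaf (Opens.grothendieckTopology T) S.X₄)
    (freeSheaf (Opens.grothendieckTopology T) S.X₁) 1 :=
  S.shortComplex_shortExact.extClass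

theorem mv_δ_apply (n : ℕ) (y : Ext (freeSheaf (Opens.grothendieckTopology T) S.X₁) F n) :
    S.δ F n (n + 1) rfl y = (mvClass S).comp y (Nat.add_comm 1 n) := rfl

/-- the boundary map is natural in the sheaf -/
theorem mv_δ_comp {G : Sheaf (Opens.grothendieckTopology T) AddCommGrpCat.{u}} (n m k : ℕ)
    (y : Ext (freeSheaf (Opens.grothendieckTopology T) S.X₁) F n) (e : Ext F G m)
    (h : n + m = k) :
    S.δ G k (k + 1) rfl (y.comp e h) = (S.δ F n (n + 1) rfl y).comp e (by omega) := by
  rw [mv_δ_apply, mv_δ_apply]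
  exact (Ext.comp_assoc (mvClass S) y e (Nat.add_comm 1 n) h (by omega)).symm

end general

section squares

variable (S S' : (Opens.grothendieckTopology T).MayerVietorisSquare)
  (h₁ : S'.X₁ ≤ S.X₁) (h₂ : S'.X₂ ≤ S.X₂) (h₃ : S'.X₃ ≤ S.X₃) (h₄ : S'.X₄ ≤ S.X₄)

/-- the morphism of Mayer–Vietoris short complexes attached to an inclusion of squares -/
noncomputable def mvShortComplexMap : S'.shortComplex ⟶ S.shortComplex where
  τ₁ := freeSheafMap _ (homOfLE h₁)
  τ₂ := biprod.map (freeSheafMap _ (homOfLE h₂)) (freeSheafMap _ (homOfLE h₃))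
  τ₃ := freeSheafMap _ (homOfLE h₄)
  comm₁₂ := by
    dsimp only [GrothendieckTopology.MayerVietorisSquare.shortComplex]
    apply biprod.hom_ext
    · simp only [Category.assoc, biprod.lift_fst, biprod.map_fst, biprod.lift_fst_assoc]
      exact freeSheafMap_comm _ _ _ _
    · simp only [Category.assoc, biprod.lift_snd, biprod.map_snd, biprod.lift_snd_assoc]
      refine (Preadditive.comp_neg _ _).trans (Eq.trans ?_ (Preadditive.neg_comp _ _).symm)
      exact congrArg Neg.neg (freeSheafMap_comm _ _ _ _)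
  comm₂₃ := by
    dsimp only [GrothendieckTopology.MayerVietorisSquare.shortComplex]
    apply biprod.hom_ext'
    · simp only [biprod.inl_map_assoc, biprod.inl_desc, biprod.inl_desc_assoc]
      exact freeSheafMap_comm _ _ _ _
    · simp only [biprod.inr_map_assoc, biprod.inr_desc, biprod.inr_desc_assoc]
      exact freeSheafMap_comm _ _ _ _

include h₂ h₃ in
theorem mvClass_naturality :
    (mvClass S').comp (Ext.mk₀ (freeSheafMap (Opens.grothendieckTopology T) (homOfLE h₁)))
        (add_zero 1) =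
      (Ext.mk₀ (freeSheafMap (Opens.grothendieckTopology T) (homOfLE h₄))).comp (mvClass S)
        (zero_add 1) :=
  ShortComplex.ShortExact.extClass_naturality S'.shortComplex_shortExact
    S.shortComplex_shortExact (mvShortComplexMap S S' h₁ h₂ h₃ h₄)

include h₂ h₃ in
/-- the boundary map is natural in the square -/
theorem mv_res_δ_eq (F : Sheaf (Opens.grothendieckTopology T) AddCommGrpCat.{u}) (n : ℕ)
    (y : Ext (freeSheaf (Opens.grothendieckTopology T) S.X₁) F n) :
    res (homOfLE h₄) (S.δ F n (n + 1) rfl y) = S'.δ F n (n + 1) rfl (res (homOfLE h₁) y) := by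
  rw [mv_δ_apply, mv_δ_apply, res, res]
  rw [← Ext.comp_assoc (a₁₂ := 1) (a₂₃ := n + 1) (a := n + 1) _ _ _ (zero_add 1) (by omega)
    (by omega)]
  rw [← Ext.comp_assoc (a₁₂ := 1) (a₂₃ := n) (a := n + 1) _ _ _ (add_zero 1) (by omega)
    (by omega)]
  rw [mvClass_naturality S S' h₁ h₂ h₃ h₄]

end squares

end Groth.Agent.Lead.Coh
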