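import Mathlib
import Groth.Agent.Lead.Coh.MVNat
import Groth.Agent.Lead.Coh.LocFive

/-!
Lead library (Zariski cohomology project): "localization" of cohomology with respect to an
endomorphism of the sheaf, and its propagation along Mayer–Vietoris squares.

For an abelian sheaf `F` with an endomorphism `t`, and opens `V ≤ W`, `LocPair t h` says that the
restriction `H^n(W, F) → H^n(V, F)` becomes an isomorphism after inverting `t` (in the elementwise
form `L1`/`L2` of `LocFive`), for all `n`.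
-/

set_option autoImplicit false

open CategoryTheory Opposite Abelian Limits TopologicalSpace

namespace Groth.Agent.Lead.Coh

open LocFive

universe u

variable {T : Type u} [TopologicalSpace T]
  [HasExt.{u} (Sheaf (Opens.grothendieckTopology T) AddCommGrpCat.{u})]
  {F : Sheaf (Opens.grothendieckTopology T) AddCommGrpCat.{u}}

/-- multiplication by `t` on the cohomology of an open -/
noncomputable def tmul (t : F ⟶ F) (W : Opens T) (n : ℕ) :
    Ext (freeSheaf (Opens.grothendieckTopology T) W) F n →+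
      Ext (freeSheaf (Opens.grothendieckTopology T) W) F n :=
  (Ext.mk₀ t).postcomp _ (add_zero n)

theorem tmul_apply (t : F ⟶ F) (W : Opens T) (n : ℕ)
    (x : Ext (freeSheaf (Opens.grothendieckTopology T) W) F n) :
    tmul t W n x = x.comp (Ext.mk₀ t) (add_zero n) := rfl

/-- restriction along a morphism of opens, as an additive map -/
noncomputable def resM {W V : Opens T} (f : V ⟶ W) (n : ℕ) :
    Ext (freeSheaf (Opens.grothendieckTopology T) W) F n →+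
      Ext (freeSheaf (Opens.grothendieckTopology T) V) F n :=
  (Ext.mk₀ (freeSheafMap (Opens.grothendieckTopology T) f)).precomp F (zero_add n)

theorem resM_apply {W V : Opens T} (f : V ⟶ W) (n : ℕ)
    (x : Ext (freeSheaf (Opens.grothendieckTopology T) W) F n) : resM f n x = res f x := rfl

theorem resM_tmul (t : F ⟶ F) {W V : Opens T} (f : V ⟶ W) (n : ℕ)
    (x : Ext (freeSheaf (Opens.grothendieckTopology T) W) F n) :
    resM f n (tmul t W n x) = tmul t V n (resM f n x) :=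
  res_comp f x (Ext.mk₀ t) (add_zero n)

theorem resM_resM {U V W : Opens T} (f : V ⟶ W) (g : U ⟶ V) (k : U ⟶ W) (n : ℕ)
    (x : Ext (freeSheaf (Opens.grothendieckTopology T) W) F n) :
    resM g n (resM f n x) = resM k n x := by
  rw [resM_apply, resM_apply, resM_apply, res_res]
  congr 1

/-- restriction along an inclusion of opens, as an additive map -/
noncomputable abbrev resHom {W V : Opens T} (h : V ≤ W) (n : ℕ) :
    Ext (freeSheaf (Opens.grothendieckTopology T) W) F n →+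
      Ext (freeSheaf (Opens.grothendieckTopology T) V) F n :=
  resM (homOfLE h) n

section maps

variable (S : (Opens.grothendieckTopology T).MayerVietorisSquare)

/-- `(a, b) ↦ a|X₁ - b|X₁` -/
noncomputable def mvDiff (n : ℕ) :
    Ext (freeSheaf (Opens.grothendieckTopology T) S.X₂) F n ×
      Ext (freeSheaf (Opens.grothendieckTopology T) S.X₃) F n →+
        Ext (freeSheaf (Opens.grothendieckTopology T) S.X₁) F n :=
  (resM S.f₁₂ n).comp (AddMonoidHom.fst _ _) - (resM S.f₁₃ n).comp (AddMonoidHom.snd _ _)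

theorem mvDiff_apply (n : ℕ)
    (p : Ext (freeSheaf (Opens.grothendieckTopology T) S.X₂) F n ×
      Ext (freeSheaf (Opens.grothendieckTopology T) S.X₃) F n) :
    mvDiff S n p = res S.f₁₂ p.1 - res S.f₁₃ p.2 := rfl

/-- `x ↦ (x|X₂, x|X₃)` -/
noncomputable def mvRes (n : ℕ) :
    Ext (freeSheaf (Opens.grothendieckTopology T) S.X₄) F n →+
      Ext (freeSheaf (Opens.grothendieckTopology T) S.X₂) F n ×
        Ext (freeSheaf (Opens.grothendieckTopology T) S.X₃) F n :=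
  (resM S.f₂₄ n).prod (resM S.f₃₄ n)

theorem mvRes_apply (n : ℕ) (x : Ext (freeSheaf (Opens.grothendieckTopology T) S.X₄) F n) :
    mvRes S n x = (res S.f₂₄ x, res S.f₃₄ x) := rfl

/-- the Mayer–Vietoris boundary as an additive map -/
noncomputable def mvδ (n : ℕ) :
    Ext (freeSheaf (Opens.grothendieckTopology T) S.X₁) F n →+
      Ext (freeSheaf (Opens.grothendieckTopology T) S.X₄) F (n + 1) :=
  (S.δ F n (n + 1) rfl).hom

theorem mvδ_apply (n : ℕ) (y : Ext (freeSheaf (Opens.grothendieckTopology T) S.X₁) F n) :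
    mvδ S n y = S.δ F n (n + 1) rfl y := rfl

variable (t : F ⟶ F)

theorem mvDiff_tmul (n : ℕ)
    (p : Ext (freeSheaf (Opens.grothendieckTopology T) S.X₂) F n ×
      Ext (freeSheaf (Opens.grothendieckTopology T) S.X₃) F n) :
    mvDiff S n ((tmul t S.X₂ n).prodMap (tmul t S.X₃ n) p) = tmul t S.X₁ n (mvDiff S n p) := by
  rw [mvDiff_apply, mvDiff_apply, map_sub]
  change resM S.f₁₂ n (tmul t S.X₂ n p.1) - resM S.f₁₃ n (tmul t S.X₃ n p.2) = _
  rw [resM_tmul, resM_tmul]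
  rfl

theorem mvRes_tmul (n : ℕ) (x : Ext (freeSheaf (Opens.grothendieckTopology T) S.X₄) F n) :
    mvRes S n (tmul t S.X₄ n x) = (tmul t S.X₂ n).prodMap (tmul t S.X₃ n) (mvRes S n x) := by
  rw [mvRes_apply, mvRes_apply]
  change (resM S.f₂₄ n (tmul t S.X₄ n x), resM S.f₃₄ n (tmul t S.X₄ n x)) = _
  rw [resM_tmul, resM_tmul]
  rfl

theorem mvδ_tmul (n : ℕ) (y : Ext (freeSheaf (Opens.grothendieckTopology T) S.X₁) F n) :
    mvδ S n (tmul t S.X₁ n y) = tmul t S.X₄ (n + 1) (mvδ S n y) := by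
  rw [mvδ_apply, mvδ_apply, tmul_apply, tmul_apply]
  exact mv_δ_comp S F n 0 n y (Ext.mk₀ t) (add_zero n)

end maps

section squares

variable (S S' : (Opens.grothendieckTopology T).MayerVietorisSquare)
  (h₁ : S'.X₁ ≤ S.X₁) (h₂ : S'.X₂ ≤ S.X₂) (h₃ : S'.X₃ ≤ S.X₃) (h₄ : S'.X₄ ≤ S.X₄)

theorem mvDiff_res (n : ℕ)
    (p : Ext (freeSheaf (Opens.grothendieckTopology T) S.X₂) F n ×
      Ext (freeSheaf (Opens.grothendieckTopology T) S.X₃) F n) :
    resHom h₁ n (mvDiff S n p) = mvDiff S' n ((resHom h₂ n).prodMap (resHom h₃ n) p) := by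
  rw [mvDiff_apply, mvDiff_apply, map_sub]
  change resM (homOfLE h₁) n (resM S.f₁₂ n p.1) - resM (homOfLE h₁) n (resM S.f₁₃ n p.2) =
    resM S'.f₁₂ n (resM (homOfLE h₂) n p.1) - resM S'.f₁₃ n (resM (homOfLE h₃) n p.2)
  rw [resM_resM _ _ (homOfLE h₁ ≫ S.f₁₂), resM_resM _ _ (homOfLE h₁ ≫ S.f₁₃),
    resM_resM _ _ (homOfLE h₁ ≫ S.f₁₂), resM_resM _ _ (homOfLE h₁ ≫ S.f₁₃)]

theorem mvRes_res (n : ℕ) (x : Ext (freeSheaf (Opens.grothendieckTopology T) S.X₄) F n) :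
    (resHom h₂ n).prodMap (resHom h₃ n) (mvRes S n x) = mvRes S' n (resHom h₄ n x) := by
  rw [mvRes_apply, mvRes_apply]
  change (resM (homOfLE h₂) n (resM S.f₂₄ n x), resM (homOfLE h₃) n (resM S.f₃₄ n x)) =
    (resM S'.f₂₄ n (resM (homOfLE h₄) n x), resM S'.f₃₄ n (resM (homOfLE h₄) n x))
  rw [resM_resM _ _ (homOfLE h₂ ≫ S.f₂₄), resM_resM _ _ (homOfLE h₃ ≫ S.f₃₄),
    resM_resM _ _ (homOfLE h₂ ≫ S.f₂₄), resM_resM _ _ (homOfLE h₃ ≫ S.f₃₄)]

include h₂ h₃ in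
theorem mvδ_res (n : ℕ) (y : Ext (freeSheaf (Opens.grothendieckTopology T) S.X₁) F n) :
    resHom h₄ (n + 1) (mvδ S n y) = mvδ S' n (resHom h₁ n y) :=
  mv_res_δ_eq S S' h₁ h₂ h₃ h₄ F n y

end squares

/-- restriction from `W` to `V` is a localization with respect to `t`, in all degrees -/
def LocPair (t : F ⟶ F) {W V : Opens T} (h : V ≤ W) : Prop :=
  ∀ n : ℕ, L1 (resHom (F := F) h n) (tmul t V n) ∧ L2 (resHom (F := F) h n) (tmul t W n)

section step

variable (t : F ⟶ F) (S S' : (Opens.grothendieckTopology T).MayerVietorisSquare)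
  (h₁ : S'.X₁ ≤ S.X₁) (h₂ : S'.X₂ ≤ S.X₂) (h₃ : S'.X₃ ≤ S.X₃) (h₄ : S'.X₄ ≤ S.X₄)

theorem mv_exA₃ (n : ℕ) (x : Ext (freeSheaf (Opens.grothendieckTopology T) S.X₄) F (n + 1))
    (hx : mvRes S (n + 1) x = 0) : ∃ y, mvδ S n y = x := by
  rw [mvRes_apply, Prod.mk_eq_zero] at hx
  exact mv_exists_δ_eq S F n x hx.1 hx.2

theorem mv_exB₂ (n : ℕ) (y : Ext (freeSheaf (Opens.grothendieckTopology T) S.X₁) F n)
    (hy : mvδ S n y = 0) : ∃ z, mvDiff S n z = y := by
  obtain ⟨a, b, hab⟩ := mv_exists_sub_eq S F n y hy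
  exact ⟨(a, b), hab⟩

theorem mv_exA₄ (n : ℕ)
    (p : Ext (freeSheaf (Opens.grothendieckTopology T) S.X₂) F n ×
      Ext (freeSheaf (Opens.grothendieckTopology T) S.X₃) F n)
    (hp : mvDiff S n p = 0) : ∃ x, mvRes S n x = p := by
  rw [mvDiff_apply, sub_eq_zero] at hp
  obtain ⟨x, hx₁, hx₂⟩ := mv_exists_glue S F n p.1 p.2 hp
  exact ⟨x, Prod.ext hx₁ hx₂⟩

theorem mv_zA (n : ℕ)
    (p : Ext (freeSheaf (Opens.grothendieckTopology T) S.X₂) F n ×
      Ext (freeSheaf (Opens.grothendieckTopology T) S.X₃) F n) :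
    mvδ S n (mvDiff S n p) = 0 :=
  mv_δ_sub S F n p.1 p.2

theorem mv_zB (n : ℕ) (x : Ext (freeSheaf (Opens.grothendieckTopology T) S.X₄) F n) :
    mvDiff S n (mvRes S n x) = 0 := by
  rw [mvDiff_apply, mvRes_apply]
  change resM S.f₁₂ n (resM S.f₂₄ n x) - resM S.f₁₃ n (resM S.f₃₄ n x) = 0
  rw [resM_resM _ _ (S.f₁₂ ≫ S.f₂₄), resM_resM _ _ (S.f₁₂ ≫ S.f₂₄), sub_self]

include h₂ h₃ in
/-- **Mayer–Vietoris step**: localization on three corners of a square gives localization on the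
fourth. -/
theorem LocPair.mv (H₁ : LocPair t h₁) (H₂ : LocPair t h₂) (H₃ : LocPair t h₃) :
    LocPair t h₄ := by
  intro n
  have tρ : ∀ {W V : Opens T} (h : V ≤ W) (m : ℕ)
      (x : Ext (freeSheaf (Opens.grothendieckTopology T) W) F m),
      resHom h m (tmul t W m x) = tmul t V m (resHom h m x) := fun h m x => resM_tmul t _ m x
  have tρp : ∀ (m : ℕ) (p : Ext (freeSheaf (Opens.grothendieckTopology T) S.X₂) F m ×
      Ext (freeSheaf (Opens.grothendieckTopology T) S.X₃) F m),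
      (resHom h₂ m).prodMap (resHom h₃ m) ((tmul t S.X₂ m).prodMap (tmul t S.X₃ m) p) =
        (tmul t S'.X₂ m).prodMap (tmul t S'.X₃ m) ((resHom h₂ m).prodMap (resHom h₃ m) p) := by
    intro m p
    exact Prod.ext (tρ h₂ m p.1) (tρ h₃ m p.2)
  cases n with
  | zero =>
    constructor
    · -- L1 in degree 0
      refine five_L1 (A₂ := PUnit.{u+1}) (B₂ := PUnit.{u+1}) 0 (mvRes S 0) (mvDiff S 0) 0 (mvRes S' 0)
        (mvDiff S' 0) 0 (resHom h₄ 0) ((resHom h₂ 0).prodMap (resHom h₃ 0)) (resHom h₁ 0)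
        0 (tmul t S.X₄ 0) ((tmul t S.X₂ 0).prodMap (tmul t S.X₃ 0)) (tmul t S.X₁ 0)
        0 (tmul t S'.X₄ 0) ((tmul t S'.X₂ 0).prodMap (tmul t S'.X₃ 0)) (tmul t S'.X₁ 0)
        (mv_exA₄ S 0) ?_ (mv_zB S' 0) ?_ (mvRes_res S S' h₂ h₃ h₄ 0)
        (fun p => mvDiff_res S S' h₁ h₂ h₃ 0 p) (mvRes_tmul S t 0) (mvDiff_tmul S t 0) ?_
        (mvRes_tmul S' t 0) (mvDiff_tmul S' t 0) (tρ h₄ 0) (tρp 0)
        (L1.prod (tρ h₂ 0) (tρ h₃ 0) (H₂ 0).1 (H₃ 0).1) (H₁ 0).2 ?_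
      · intro y hy
        rw [mvRes_apply, Prod.mk_eq_zero] at hy
        exact ⟨PUnit.unit, (mv_eq_zero_of_res S' F y hy.1 hy.2).symm⟩
      · intro y; simp
      · intro x; simp
      · intro y; exact ⟨0, PUnit.unit, Subsingleton.elim _ _⟩
    · -- L2 in degree 0
      refine five_L2 (A₁ := PUnit.{u+1}) (A₂ := PUnit.{u+1}) (B₁ := PUnit.{u+1}) (B₂ := PUnit.{u+1}) 0 0 (mvRes S 0)
        0 0 (mvRes S' 0) 0 0 (resHom h₄ 0) ((resHom h₂ 0).prodMap (resHom h₃ 0))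
        0 0 (tmul t S.X₄ 0) ((tmul t S.X₂ 0).prodMap (tmul t S.X₃ 0)) 0 0 (tmul t S'.X₄ 0)
        ?_ ?_ ?_ ?_ ?_ (mvRes_res S S' h₂ h₃ h₄ 0) ?_ ?_ (mvRes_tmul S t 0) ?_ ?_
        (tρ h₄ 0) (L2.prod (H₂ 0).2 (H₃ 0).2) ?_ ?_
      · intro x hx
        rw [mvRes_apply, Prod.mk_eq_zero] at hx
        exact ⟨PUnit.unit, (mv_eq_zero_of_res S F x hx.1 hx.2).symm⟩
      · intro y _; exact ⟨PUnit.unit, Subsingleton.elim _ _⟩
      · intro w; simp
      · intro w; exact Subsingleton.elim _ _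
      · intro y; simp
      · intro x; exact Subsingleton.elim _ _
      · intro x; simp
      · intro x; exact Subsingleton.elim _ _
      · intro x; exact Subsingleton.elim _ _
      · intro y; exact ⟨0, PUnit.unit, Subsingleton.elim _ _⟩
      · intro x _; exact ⟨0, Subsingleton.elim _ _⟩
  | succ n =>
    constructor
    · refine five_L1 (mvδ S n) (mvRes S (n + 1)) (mvDiff S (n + 1)) (mvδ S' n)
        (mvRes S' (n + 1)) (mvDiff S' (n + 1)) (resHom h₁ n) (resHom h₄ (n + 1))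
        ((resHom h₂ (n + 1)).prodMap (resHom h₃ (n + 1))) (resHom h₁ (n + 1))
        (tmul t S.X₁ n) (tmul t S.X₄ (n + 1))
        ((tmul t S.X₂ (n + 1)).prodMap (tmul t S.X₃ (n + 1))) (tmul t S.X₁ (n + 1))
        (tmul t S'.X₁ n) (tmul t S'.X₄ (n + 1))
        ((tmul t S'.X₂ (n + 1)).prodMap (tmul t S'.X₃ (n + 1))) (tmul t S'.X₁ (n + 1))
        (mv_exA₄ S (n + 1)) (mv_exA₃ S' n) (mv_zB S' (n + 1))
        (mvδ_res S S' h₁ h₂ h₃ h₄ n) (mvRes_res S S' h₂ h₃ h₄ (n + 1))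
        (fun p => mvDiff_res S S' h₁ h₂ h₃ (n + 1) p) (mvRes_tmul S t (n + 1))
        (mvDiff_tmul S t (n + 1)) (mvδ_tmul S' t n) (mvRes_tmul S' t (n + 1))
        (mvDiff_tmul S' t (n + 1)) (tρ h₄ (n + 1)) (tρp (n + 1))
        (L1.prod (tρ h₂ (n + 1)) (tρ h₃ (n + 1)) (H₂ (n + 1)).1 (H₃ (n + 1)).1)
        (H₁ (n + 1)).2 (H₁ n).1
    · refine five_L2 (mvDiff S n) (mvδ S n) (mvRes S (n + 1)) (mvDiff S' n) (mvδ S' n)
        (mvRes S' (n + 1)) ((resHom h₂ n).prodMap (resHom h₃ n)) (resHom h₁ n)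
        (resHom h₄ (n + 1)) ((resHom h₂ (n + 1)).prodMap (resHom h₃ (n + 1)))
        ((tmul t S.X₂ n).prodMap (tmul t S.X₃ n)) (tmul t S.X₁ n) (tmul t S.X₄ (n + 1))
        ((tmul t S.X₂ (n + 1)).prodMap (tmul t S.X₃ (n + 1)))
        ((tmul t S'.X₂ n).prodMap (tmul t S'.X₃ n)) (tmul t S'.X₁ n) (tmul t S'.X₄ (n + 1))
        (mv_exA₃ S n) (mv_exB₂ S' n) (mv_zA S n)
        (fun p => mvDiff_res S S' h₁ h₂ h₃ n p) (mvδ_res S S' h₁ h₂ h₃ h₄ n)
        (mvRes_res S S' h₂ h₃ h₄ (n + 1))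
        (mvDiff_tmul S t n) (mvδ_tmul S t n) (mvRes_tmul S t (n + 1)) (mvDiff_tmul S' t n)
        (tρ h₁ n) (tρ h₄ (n + 1)) (L2.prod (H₂ (n + 1)).2 (H₃ (n + 1)).2)
        (L1.prod (tρ h₂ n) (tρ h₃ n) (H₂ n).1 (H₃ n).1) (H₁ n).2

end step

end Groth.Agent.Lead.Coh
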