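import Mathlib
import Groth.Agent.Lead.Coh.LocMV

/-!
Lead library (Zariski cohomology project): bijectivity of the action of an endomorphism of the sheaf
on cohomology, propagated along Mayer–Vietoris squares (the classical five lemma, obtained from
`LocFive` with the identity as auxiliary endomorphism).
-/

set_option autoImplicit false

open CategoryTheory Opposite Abelian Limits TopologicalSpace

namespace Groth.Agent.Lead.Coh

open LocFive

universe u

section abstract

variable {A B : Type*} [AddCommGroup A] [AddCommGroup B]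

theorem L1_id_iff (ρ : A →+ B) : L1 ρ (AddMonoidHom.id B) ↔ Function.Surjective ρ := by
  constructor
  · intro h y
    obtain ⟨k, x, hx⟩ := h y
    refine ⟨x, hx.trans ?_⟩
    change (id)^[k] y = y
    rw [Function.iterate_id]; rfl
  · intro h y
    obtain ⟨x, hx⟩ := h y
    exact ⟨0, x, hx⟩

theorem L2_id_iff (ρ : A →+ B) : L2 ρ (AddMonoidHom.id A) ↔ Function.Injective ρ := by
  rw [injective_iff_map_eq_zero]
  constructor
  · intro h x hx
    obtain ⟨k, hk⟩ := h x hx
    have : (id)^[k] x = 0 := hk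
    rwa [Function.iterate_id] at this
  · intro h x hx
    exact ⟨0, h x hx⟩

theorem L1_idProd_iff {A' B' : Type*} [AddCommGroup A'] [AddCommGroup B'] (ρ : A × A' →+ B × B') :
    L1 ρ ((AddMonoidHom.id B).prodMap (AddMonoidHom.id B')) ↔ Function.Surjective ρ := by
  have : (AddMonoidHom.id B).prodMap (AddMonoidHom.id B') = AddMonoidHom.id (B × B') := by
    ext <;> rfl
  rw [this, L1_id_iff]

theorem L2_idProd_iff {A' B' : Type*} [AddCommGroup A'] [AddCommGroup B'] (ρ : A × A' →+ B × B') :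
    L2 ρ ((AddMonoidHom.id A).prodMap (AddMonoidHom.id A')) ↔ Function.Injective ρ := by
  have : (AddMonoidHom.id A).prodMap (AddMonoidHom.id A') = AddMonoidHom.id (A × A') := by
    ext <;> rfl
  rw [this, L2_id_iff]

end abstract

variable {T : Type u} [TopologicalSpace T]
  [HasExt.{u} (Sheaf (Opens.grothendieckTopology T) AddCommGrpCat.{u})]
  {F : Sheaf (Opens.grothendieckTopology T) AddCommGrpCat.{u}}

/-- `t` acts bijectively on the cohomology of `W` in all degrees -/
def BijAt (t : F ⟶ F) (W : Opens T) : Prop :=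
  ∀ n : ℕ, Function.Bijective (tmul t W n)

theorem BijAt.bot (t : F ⟶ F) : BijAt t (⊥ : Opens T) := by
  intro n
  constructor
  · intro x y _
    rw [ext_bot_eq_zero F x, ext_bot_eq_zero F y]
  · intro y
    exact ⟨0, (ext_bot_eq_zero F _).trans (ext_bot_eq_zero F y).symm⟩

theorem BijAt.mv (t : F ⟶ F) (S : (Opens.grothendieckTopology T).MayerVietorisSquare)
    (H₁ : BijAt t S.X₁) (H₂ : BijAt t S.X₂) (H₃ : BijAt t S.X₃) : BijAt t S.X₄ := by
  intro n
  have hp : ∀ m, Function.Bijective ((tmul t S.X₂ m).prodMap (tmul t S.X₃ m)) := fun m =>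
    Function.Bijective.prodMap (H₂ m) (H₃ m)
  cases n with
  | zero =>
    constructor
    · rw [← L2_id_iff]
      refine five_L2 (A₁ := PUnit.{u+1}) (A₂ := PUnit.{u+1}) (B₁ := PUnit.{u+1})
        (B₂ := PUnit.{u+1}) 0 0 (mvRes S 0) 0 0 (mvRes S 0) 0 0 (tmul t S.X₄ 0)
        ((tmul t S.X₂ 0).prodMap (tmul t S.X₃ 0)) 0 0 (AddMonoidHom.id _)
        ((AddMonoidHom.id _).prodMap (AddMonoidHom.id _)) 0 0 (AddMonoidHom.id _)
        ?_ ?_ ?_ ?_ ?_ (fun x => (mvRes_tmul S t 0 x).symm) ?_ ?_ (fun _ => rfl) ?_ ?_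
        (fun _ => rfl) ((L2_idProd_iff _).mpr (hp 0).1) ?_ ?_
      · intro x hx
        rw [mvRes_apply, Prod.mk_eq_zero] at hx
        exact ⟨PUnit.unit, (mv_eq_zero_of_res S F x hx.1 hx.2).symm⟩
      · intro y _; exact ⟨PUnit.unit, Subsingleton.elim _ _⟩
      · intro w; simp
      · intro w; exact Subsingleton.elim _ _
      · intro y; simp
      · intro x; exact Subsingleton.elim _ _
      · intro x; simp
      · intro x; exact Subsingleton.elim _ _
      · intro x; exact Subsingleton.elim _ _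
      · intro y; exact ⟨0, PUnit.unit, Subsingleton.elim _ _⟩
      · intro x _; exact ⟨0, Subsingleton.elim _ _⟩
    · rw [← L1_id_iff]
      refine five_L1 (A₂ := PUnit.{u+1}) (B₂ := PUnit.{u+1}) 0 (mvRes S 0) (mvDiff S 0) 0
        (mvRes S 0) (mvDiff S 0) 0 (tmul t S.X₄ 0) ((tmul t S.X₂ 0).prodMap (tmul t S.X₃ 0))
        (tmul t S.X₁ 0) 0 (AddMonoidHom.id _) ((AddMonoidHom.id _).prodMap (AddMonoidHom.id _))
        (AddMonoidHom.id _) 0 (AddMonoidHom.id _)
        ((AddMonoidHom.id _).prodMap (AddMonoidHom.id _)) (AddMonoidHom.id _)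
        (mv_exA₄ S 0) ?_ (mv_zB S 0) ?_ (fun x => (mvRes_tmul S t 0 x).symm)
        (fun p => (mvDiff_tmul S t 0 p).symm) (fun _ => rfl) (fun _ => rfl) ?_
        (fun _ => rfl) (fun _ => rfl) (fun _ => rfl) (fun _ => rfl)
        ((L1_idProd_iff _).mpr (hp 0).2) ((L2_id_iff _).mpr (H₁ 0).1) ?_
      · intro y hy
        rw [mvRes_apply, Prod.mk_eq_zero] at hy
        exact ⟨PUnit.unit, (mv_eq_zero_of_res S F y hy.1 hy.2).symm⟩
      · intro y; simp
      · intro x; simp
      · intro y; exact ⟨0, PUnit.unit, Subsingleton.elim _ _⟩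
  | succ n =>
    constructor
    · rw [← L2_id_iff]
      exact five_L2 (mvDiff S n) (mvδ S n) (mvRes S (n + 1)) (mvDiff S n) (mvδ S n)
        (mvRes S (n + 1)) ((tmul t S.X₂ n).prodMap (tmul t S.X₃ n)) (tmul t S.X₁ n)
        (tmul t S.X₄ (n + 1)) ((tmul t S.X₂ (n + 1)).prodMap (tmul t S.X₃ (n + 1)))
        ((AddMonoidHom.id _).prodMap (AddMonoidHom.id _)) (AddMonoidHom.id _) (AddMonoidHom.id _)
        ((AddMonoidHom.id _).prodMap (AddMonoidHom.id _))
        ((AddMonoidHom.id _).prodMap (AddMonoidHom.id _)) (AddMonoidHom.id _) (AddMonoidHom.id _)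
        (mv_exA₃ S n) (mv_exB₂ S n) (mv_zA S n)
        (fun p => (mvDiff_tmul S t n p).symm) (fun y => (mvδ_tmul S t n y).symm)
        (fun x => (mvRes_tmul S t (n + 1) x).symm)
        (fun _ => rfl) (fun _ => rfl) (fun _ => rfl) (fun _ => rfl) (fun _ => rfl) (fun _ => rfl)
        ((L2_idProd_iff _).mpr (hp (n + 1)).1) ((L1_idProd_iff _).mpr (hp n).2)
        ((L2_id_iff _).mpr (H₁ n).1)
    · rw [← L1_id_iff]
      exact five_L1 (mvδ S n) (mvRes S (n + 1)) (mvDiff S (n + 1)) (mvδ S n)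
        (mvRes S (n + 1)) (mvDiff S (n + 1)) (tmul t S.X₁ n) (tmul t S.X₄ (n + 1))
        ((tmul t S.X₂ (n + 1)).prodMap (tmul t S.X₃ (n + 1))) (tmul t S.X₁ (n + 1))
        (AddMonoidHom.id _) (AddMonoidHom.id _)
        ((AddMonoidHom.id _).prodMap (AddMonoidHom.id _)) (AddMonoidHom.id _)
        (AddMonoidHom.id _) (AddMonoidHom.id _)
        ((AddMonoidHom.id _).prodMap (AddMonoidHom.id _)) (AddMonoidHom.id _)
        (mv_exA₄ S (n + 1)) (mv_exA₃ S n) (mv_zB S (n + 1))
        (fun y => (mvδ_tmul S t n y).symm) (fun x => (mvRes_tmul S t (n + 1) x).symm)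
        (fun p => (mvDiff_tmul S t (n + 1) p).symm)
        (fun _ => rfl) (fun _ => rfl) (fun _ => rfl) (fun _ => rfl) (fun _ => rfl)
        (fun _ => rfl) (fun _ => rfl)
        ((L1_idProd_iff _).mpr (hp (n + 1)).2) ((L2_id_iff _).mpr (H₁ (n + 1)).1)
        ((L1_id_iff _).mpr (H₁ n).2)

theorem BijAt.sup (t : F ⟶ F) {W₁ W₂ : Opens T} (H₁ : BijAt t W₁) (H₂ : BijAt t W₂)
    (H₁₂ : BijAt t (W₁ ⊓ W₂)) : BijAt t (W₁ ⊔ W₂) :=
  BijAt.mv t (Opens.mayerVietorisSquare W₁ W₂) H₁₂ H₁ H₂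

end Groth.Agent.Lead.Coh
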