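import Mathlib
import Groth.Agent.Lead.Coh.LocMV

/-!
Lead library (Zariski cohomology project): localization of cohomology on `W ⊓ D`, propagated to
finite unions.
-/

set_option autoImplicit false

open CategoryTheory Opposite Abelian Limits TopologicalSpace

namespace Groth.Agent.Lead.Coh

open LocFive

universe u

variable {T : Type u} [TopologicalSpace T]
  [HasExt.{u} (Sheaf (Opens.grothendieckTopology T) AddCommGrpCat.{u})]
  {F : Sheaf (Opens.grothendieckTopology T) AddCommGrpCat.{u}}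

/-- restriction from `W` to `W ⊓ D` is a localization with respect to `t` -/
def LocAt (t : F ⟶ F) (D W : Opens T) : Prop :=
  LocPair t (inf_le_left : W ⊓ D ≤ W)

theorem ext_eq_zero_of_eq_bot {W : Opens T} (h : W = ⊥) {n : ℕ}
    (x : Ext (freeSheaf (Opens.grothendieckTopology T) W) F n) : x = 0 := by
  subst h
  exact ext_bot_eq_zero F x

theorem LocAt.bot (t : F ⟶ F) (D : Opens T) : LocAt t D ⊥ := by
  intro n
  constructor
  · intro y
    exact ⟨0, 0, by rw [map_zero]; exact (ext_eq_zero_of_eq_bot (bot_inf_eq D) _).symm⟩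
  · intro x _
    exact ⟨0, ext_bot_eq_zero F x⟩

/-- the Mayer–Vietoris square cut out by `D` -/
noncomputable def mvSquareInf (W₁ W₂ D : Opens T) :
    (Opens.grothendieckTopology T).MayerVietorisSquare :=
  Opens.mayerVietorisSquare'
    { X₁ := (W₁ ⊓ W₂) ⊓ D
      X₂ := W₁ ⊓ D
      X₃ := W₂ ⊓ D
      X₄ := (W₁ ⊔ W₂) ⊓ D
      f₁₂ := homOfLE (inf_le_inf_right D inf_le_left)
      f₁₃ := homOfLE (inf_le_inf_right D inf_le_right)
      f₂₄ := homOfLE (inf_le_inf_right D le_sup_left)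
      f₃₄ := homOfLE (inf_le_inf_right D le_sup_right)
      fac := Subsingleton.elim _ _ } (inf_sup_right W₁ W₂ D) (inf_inf_distrib_right W₁ W₂ D)

theorem LocAt.sup (t : F ⟶ F) (D : Opens T) {W₁ W₂ : Opens T} (H₁ : LocAt t D W₁)
    (H₂ : LocAt t D W₂) (H₁₂ : LocAt t D (W₁ ⊓ W₂)) : LocAt t D (W₁ ⊔ W₂) :=
  LocPair.mv t (Opens.mayerVietorisSquare W₁ W₂) (mvSquareInf W₁ W₂ D)
    (inf_le_left : (W₁ ⊓ W₂) ⊓ D ≤ W₁ ⊓ W₂) (inf_le_left : W₁ ⊓ D ≤ W₁)
    (inf_le_left : W₂ ⊓ D ≤ W₂) (inf_le_left : (W₁ ⊔ W₂) ⊓ D ≤ W₁ ⊔ W₂) H₁₂ H₁ H₂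

/-- localization for finite unions of members of a class closed under binary intersections -/
theorem LocAt.finset_sup (t : F ⟶ F) (D : Opens T) (𝒜 : Set (Opens T))
    (hinf : ∀ V ∈ 𝒜, ∀ W ∈ 𝒜, V ⊓ W ∈ 𝒜) (h𝒜 : ∀ V ∈ 𝒜, LocAt t D V)
    {ι : Type*} (s : Finset ι) :
    ∀ (U : ι → Opens T), (∀ i ∈ s, U i ∈ 𝒜) → LocAt t D (s.sup U) := by
  classical
  induction s using Finset.induction_on with
  | empty =>
    intro U _
    rw [Finset.sup_empty]
    exact LocAt.bot t D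
  | insert a s ha ih =>
    intro U hU
    rw [Finset.sup_insert]
    have hUa : U a ∈ 𝒜 := hU a (Finset.mem_insert_self _ _)
    refine LocAt.sup t D (h𝒜 _ hUa) (ih U (fun i hi => hU i (Finset.mem_insert_of_mem hi))) ?_
    rw [Finset.sup_inf_distrib_left]
    exact ih (fun i => U a ⊓ U i)
      (fun i hi => hinf _ hUa _ (hU i (Finset.mem_insert_of_mem hi)))

end Groth.Agent.Lead.Coh
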