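import Mathlib
import Groth.Agent.Lead.Coh.H0

/-!
Lead library (Zariski cohomology project), part 5: on a site with a terminal object `T₀`,
vanishing of `Ext^n(freeSheaf T₀, F)` implies vanishing of `Sheaf.H F n`.
-/

set_option autoImplicit false

open CategoryTheory Opposite Abelian Limits

namespace Groth.Agent.Lead.Coh

universe v u

variable {C : Type u} [Category.{v} C] {J : GrothendieckTopology C}
  [HasWeakSheafify J (Type v)] [HasSheafify J AddCommGrpCat.{v}]
  [HasExt.{v} (Sheaf J AddCommGrpCat.{v})]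

/-- the constant sheaf `ℤ` is a retract (in degree-zero Ext terms) of the free sheaf on a terminal
object -/
theorem exists_retract_constant {T₀ : C} (hT : IsTerminal T₀) :
    ∃ (i : Sheaf.H (freeSheaf J T₀) 0)
      (r : freeSheaf J T₀ ⟶
        (constantSheaf J AddCommGrpCat.{v}).obj (AddCommGrpCat.of (ULift ℤ))),
      i.comp (Ext.mk₀ r) (add_zero 0) = Ext.mk₀ (𝟙 _) := by
  let K := (constantSheaf J AddCommGrpCat.{v}).obj (AddCommGrpCat.of (ULift ℤ))
  let u : K.obj.obj (op T₀) := Sheaf.H.equiv₀ K hT (Ext.mk₀ (𝟙 K))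
  let r : freeSheaf J T₀ ⟶ K := (homEquivSections T₀ K).symm u
  let e : (freeSheaf J T₀).obj.obj (op T₀) := homEquivSections T₀ _ (𝟙 _)
  let i : Sheaf.H (freeSheaf J T₀) 0 := (Sheaf.H.equiv₀ (freeSheaf J T₀) hT).symm e
  refine ⟨i, r, ?_⟩
  apply (Sheaf.H.equiv₀ K hT).injective
  have h1 : i.comp (Ext.mk₀ r) (add_zero 0) = Sheaf.H.map r 0 i := rfl
  rw [h1, ← Sheaf.H.equiv₀_naturality, AddEquiv.apply_symm_apply]
  change r.hom.app (op T₀) (homEquivSections T₀ _ (𝟙 _)) = u
  rw [← homEquivSections_naturality_right, Category.id_comp, Equiv.apply_symm_apply]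

theorem subsingleton_H_of_forall_ext_eq_zero {T₀ : C} (hT : IsTerminal T₀)
    (F : Sheaf J AddCommGrpCat.{v}) (n : ℕ)
    (h : ∀ x : Ext (freeSheaf J T₀) F n, x = 0) : Subsingleton (Sheaf.H F n) := by
  obtain ⟨i, r, hir⟩ := exists_retract_constant (J := J) hT
  refine subsingleton_of_forall_eq 0 fun x => ?_
  have h1 : x = (Ext.mk₀ (𝟙 _)).comp x (zero_add n) := (Ext.mk₀_id_comp x).symm
  rw [h1, ← hir, Ext.comp_assoc _ _ _ (add_zero 0) (zero_add n) (by omega),
    h ((Ext.mk₀ r).comp x (zero_add n)), Ext.comp_zero]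

end Groth.Agent.Lead.Coh
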