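import Mathlib
import Groth.Prelude.Def_Coh
import Groth.Agent.H18.QCohLocalize
import Groth.Agent.Lead.Coh.MVVanish
import Groth.Agent.Lead.Coh.Top

/-!
Lead library (Zariski cohomology project), part 7: Serre vanishing for affine opens of an arbitrary
scheme, and Mayer–Vietoris consequences (vanishing above the number of affines in a cover).
-/

set_option autoImplicit false
open CategoryTheory Opposite Limits TopologicalSpace AlgebraicGeometry Abelian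
universe u
namespace Groth.Agent.Lead.Coh
open Groth.Agent.H18

theorem fromSpec_mem_basicOpen_iff {X : Scheme.{u}} {W : X.Opens} (hW : IsAffineOpen W)
    (y : PrimeSpectrum Γ(X, W)) (g : Γ(X, W)) :
    hW.fromSpec y ∈ X.basicOpen g ↔ g ∉ y.asIdeal := by
  have := hW.fromSpec_preimage_basicOpen g
  have h2 : y ∈ hW.fromSpec ⁻¹ᵁ X.basicOpen g ↔ y ∈ PrimeSpectrum.basicOpen g := by
    rw [this]; exact Iff.rfl
  exact h2

theorem exists_ideal_of_open {X : Scheme.{u}} {W : X.Opens} (hW : IsAffineOpen W) (V : X.Opens) :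
    ∃ I : Ideal Γ(X, W), ∀ x ∈ W, x ∈ V ↔ ∃ h ∈ I, x ∈ X.basicOpen h := by
  have hcl : IsClosed (hW.fromSpec ⁻¹' ((V : Set X)ᶜ)) :=
    (V.isOpen.isClosed_compl).preimage hW.fromSpec.continuous
  obtain ⟨I, hI⟩ := (PrimeSpectrum.isClosed_iff_zeroLocus_ideal _).mp hcl
  refine ⟨I, fun x hx => ?_⟩
  have hx' : x ∈ Set.range hW.fromSpec := by rw [hW.range_fromSpec]; exact hx
  obtain ⟨y, rfl⟩ := hx'
  have h1 : hW.fromSpec y ∈ V ↔ (y : PrimeSpectrum Γ(X, W)) ∉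
      PrimeSpectrum.zeroLocus (I : Set Γ(X, W)) := by
    rw [← hI]
    exact not_not.symm
  have h2 : ∀ y' : PrimeSpectrum Γ(X, W), y' ∉ PrimeSpectrum.zeroLocus (I : Set Γ(X, W)) ↔
      ∃ h ∈ I, hW.fromSpec y' ∈ X.basicOpen h := by
    intro y'
    rw [PrimeSpectrum.mem_zeroLocus, Set.not_subset]
    constructor
    · rintro ⟨h, hhI, hhy⟩
      exact ⟨h, hhI, (fromSpec_mem_basicOpen_iff hW y' h).mpr hhy⟩
    · rintro ⟨h, hhI, hhy⟩
      exact ⟨h, hhI, (fromSpec_mem_basicOpen_iff hW y' h).mp hhy⟩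
  exact h1.trans (h2 y)

theorem mem_radical_of_basicOpen_le {X : Scheme.{u}} {W : X.Opens} (hW : IsAffineOpen W)
    (I : Ideal Γ(X, W)) (f : Γ(X, W))
    (h : ∀ x ∈ X.basicOpen f, ∃ g ∈ I, x ∈ X.basicOpen g) : f ∈ I.radical := by
  have hsub : PrimeSpectrum.zeroLocus (I : Set Γ(X, W)) ⊆ PrimeSpectrum.zeroLocus {f} := by
    intro y hy
    rw [PrimeSpectrum.mem_zeroLocus, Set.singleton_subset_iff]
    by_contra hfy
    obtain ⟨g, hgI, hg⟩ := h _ ((fromSpec_mem_basicOpen_iff hW y f).mpr hfy)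
    exact (fromSpec_mem_basicOpen_iff hW y g).mp hg (hy hgI)
  rw [← PrimeSpectrum.zeroLocus_span {f}, PrimeSpectrum.zeroLocus_subset_zeroLocus_iff,
    Ideal.span_le, Set.singleton_subset_iff] at hsub
  exact hsub

theorem affineOpen_split {X : Scheme.{u}} {W : X.Opens} (hW : IsAffineOpen W) (f : Γ(X, W))
    (V₁ V₂ : X.Opens) (h : X.basicOpen f ≤ V₁ ⊔ V₂) :
    ∃ h₁ h₂ : Γ(X, W), X.basicOpen f = X.basicOpen (f * h₁) ⊔ X.basicOpen (f * h₂) ∧
      X.basicOpen (f * h₁) ≤ V₁ ∧ X.basicOpen (f * h₂) ≤ V₂ := by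
  obtain ⟨I₁, hI₁⟩ := exists_ideal_of_open hW V₁
  obtain ⟨I₂, hI₂⟩ := exists_ideal_of_open hW V₂
  have hrad : f ∈ (I₁ ⊔ I₂).radical := by
    apply mem_radical_of_basicOpen_le hW
    intro x hx
    have hxW : x ∈ W := X.basicOpen_le f hx
    rcases h hx with h1 | h2
    · obtain ⟨g, hg, hxg⟩ := (hI₁ x hxW).mp h1
      exact ⟨g, Ideal.mem_sup_left hg, hxg⟩
    · obtain ⟨g, hg, hxg⟩ := (hI₂ x hxW).mp h2
      exact ⟨g, Ideal.mem_sup_right hg, hxg⟩
  obtain ⟨N, hN⟩ := hrad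
  have hN' : f ^ (N + 1) ∈ I₁ ⊔ I₂ := by
    rw [pow_succ]; exact Ideal.mul_mem_right _ _ hN
  obtain ⟨h₁, hh₁, h₂, hh₂, hsum⟩ := Submodule.mem_sup.mp hN'
  have key : ∀ (I : Ideal Γ(X, W)) (V : X.Opens)
      (_ : ∀ x ∈ W, x ∈ V ↔ ∃ h ∈ I, x ∈ X.basicOpen h)
      (g : Γ(X, W)), g ∈ I → X.basicOpen (f * g) ≤ V := by
    intro I V hI g hg x hx
    have hxW : x ∈ W := X.basicOpen_le _ hx
    rw [Scheme.basicOpen_mul] at hx
    exact (hI x hxW).mpr ⟨g, hg, hx.2⟩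
  refine ⟨h₁, h₂, ?_, key I₁ V₁ hI₁ h₁ hh₁, key I₂ V₂ hI₂ h₂ hh₂⟩
  apply le_antisymm
  · intro x hx
    have hx' : x ∈ X.basicOpen (f ^ (N + 1)) := by
      rw [X.basicOpen_pow f (Nat.succ_pos N)]; exact hx
    rw [← hsum] at hx'
    rcases X.basicOpen_add_le h₁ h₂ hx' with h1 | h2
    · left; rw [Scheme.basicOpen_mul]; exact ⟨hx, h1⟩
    · right; rw [Scheme.basicOpen_mul]; exact ⟨hx, h2⟩
  · rw [Scheme.basicOpen_mul, Scheme.basicOpen_mul]
    exact sup_le inf_le_left inf_le_left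

/-- restriction of a function -/
noncomputable abbrev rres (X : Scheme.{u}) {W V : X.Opens} (h : V ≤ W) (f : Γ(X, W)) : Γ(X, V) :=
  X.presheaf.map (homOfLE h).op f

theorem rres_rres (X : Scheme.{u}) {W V V' : X.Opens} (h : V ≤ W) (h' : V' ≤ V) (f : Γ(X, W)) :
    X.presheaf.map (homOfLE h').op (rres X h f) = rres X (h'.trans h) f := by
  simp only [rres, ← ConcreteCategory.comp_apply, ← Functor.map_comp]
  rfl

theorem isCoprime_rres (X : Scheme.{u}) {W : X.Opens} (f₁ f₂ : Γ(X, W)) {U : X.Opens}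
    (hU : IsAffineOpen U) (hUW : U ≤ W)
    (hle : U ≤ X.basicOpen f₁ ⊔ X.basicOpen f₂) : IsCoprime (rres X hUW f₁) (rres X hUW f₂) := by
  have hspan : Ideal.span ({rres X hUW f₁, rres X hUW f₂} : Set Γ(X, U)) = ⊤ := by
    rw [← hU.self_le_iSup_basicOpen_iff]
    intro x hx
    rw [Opens.mem_iSup]
    rcases hle hx with h1 | h2
    · refine ⟨⟨rres X hUW f₁, Set.mem_insert _ _⟩, ?_⟩
      change x ∈ X.basicOpen (rres X hUW f₁)
      rw [rres, Scheme.basicOpen_res]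
      exact ⟨hx, h1⟩
    · refine ⟨⟨rres X hUW f₂, Set.mem_insert_of_mem _ rfl⟩, ?_⟩
      change x ∈ X.basicOpen (rres X hUW f₂)
      rw [rres, Scheme.basicOpen_res]
      exact ⟨hx, h2⟩
  have h1 : (1 : Γ(X, U)) ∈ Ideal.span ({rres X hUW f₁, rres X hUW f₂} : Set Γ(X, U)) := by
    rw [hspan]; trivial
  obtain ⟨c, d, hcd⟩ := Ideal.mem_span_pair.mp h1
  exact ⟨c, d, hcd⟩

theorem qcoh_surj_affineOpen (X : Scheme.{u}) (M : X.Modules) [M.IsQuasicoherent]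
    {W : X.Opens} (hW : IsAffineOpen W)
    (f₁ f₂ f : Γ(X, W)) (W₁ W₂ : X.Opens) (h₁ : W₁ = X.basicOpen f₁) (h₂ : W₂ = X.basicOpen f₂)
    (hf : W₁ ⊔ W₂ = X.basicOpen f) (s : Γ(M, W₁ ⊓ W₂)) :
    ∃ (a : Γ(M, W₁)) (b : Γ(M, W₂)),
      s = mres M inf_le_left a - mres M inf_le_right b := by
  have hW₁ : IsAffineOpen W₁ := h₁ ▸ hW.basicOpen f₁
  have hW₂ : IsAffineOpen W₂ := h₂ ▸ hW.basicOpen f₂
  have hU : IsAffineOpen (W₁ ⊔ W₂) := hf ▸ hW.basicOpen f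
  have l₁ : W₁ ≤ W := h₁ ▸ X.basicOpen_le f₁
  have l₂ : W₂ ≤ W := h₂ ▸ X.basicOpen_le f₂
  have l : W₁ ⊔ W₂ ≤ W := sup_le l₁ l₂
  -- first equation
  have e₁ : hW₁.fromSpec ''ᵁ (PrimeSpectrum.basicOpen (rres X l₁ f₂)) = W₁ ⊓ W₂ := by
    rw [hW₁.fromSpec_image_basicOpen, rres, X.basicOpen_res, ← h₂]
  obtain ⟨n₁, t₁, ht₁⟩ := exists_pow_smul_eq_res_aux M hW₁ (rres X l₁ f₂) (W₁ ⊓ W₂) e₁
    inf_le_left s
  have e₂ : hW₂.fromSpec ''ᵁ (PrimeSpectrum.basicOpen (rres X l₂ f₁)) = W₁ ⊓ W₂ := by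
    rw [hW₂.fromSpec_image_basicOpen, rres, X.basicOpen_res, ← h₁, inf_comm]
  obtain ⟨n₂, t₂, ht₂⟩ := exists_pow_smul_eq_res_aux M hW₂ (rres X l₂ f₁) (W₁ ⊓ W₂) e₂
    inf_le_right s
  rw [rres_rres] at ht₁ ht₂
  have hle : W₁ ⊔ W₂ ≤ X.basicOpen f₁ ⊔ X.basicOpen f₂ := by rw [← h₁, ← h₂]
  obtain ⟨c, d, hcd⟩ := ((isCoprime_rres X f₁ f₂ hU l hle).pow (m := n₂) (n := n₁))
  -- restrict the identity to W₁ ⊓ W₂
  have hcd' := congrArg (X.presheaf.map (homOfLE (inf_le_left.trans le_sup_left :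
    W₁ ⊓ W₂ ≤ W₁ ⊔ W₂)).op) hcd
  rw [map_add, map_mul, map_mul, map_pow, map_pow, rres_rres, rres_rres, map_one] at hcd'
  refine ⟨X.presheaf.map (homOfLE le_sup_left).op d • t₁,
    -(X.presheaf.map (homOfLE le_sup_right).op c • t₂), ?_⟩
  rw [map_neg, sub_neg_eq_add, mres_smul, mres_smul, ← ht₁, ← ht₂, smul_smul, smul_smul,
    ← add_smul]
  simp only [← ConcreteCategory.comp_apply, ← Functor.map_comp]
  rw [add_comm]
  conv_lhs => rw [← one_smul Γ(X, W₁ ⊓ W₂) s, ← hcd']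
  rfl


/-- the basic opens of an affine open form a good basis for quasi-coherent modules -/
theorem isGoodBasis_basicOpen_affineOpen (X : Scheme.{u}) (M : X.Modules) [M.IsQuasicoherent]
    {W : X.Opens} (hW : IsAffineOpen W) :
    IsGoodBasis (T := X) (Set.range (X.basicOpen : Γ(X, W) → X.Opens)) (Coh.toAb M) where
  inf_mem := by
    rintro _ _ ⟨f, rfl⟩ ⟨g, rfl⟩
    exact ⟨f * g, X.basicOpen_mul f g⟩
  isCompact := by
    rintro _ ⟨f, rfl⟩
    exact (hW.basicOpen f).isCompact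
  split := by
    rintro _ V₁ V₂ ⟨f, rfl⟩ hle
    obtain ⟨h₁, h₂, e, l₁, l₂⟩ := affineOpen_split hW f V₁ V₂ hle
    exact ⟨_, ⟨_, rfl⟩, _, ⟨_, rfl⟩, e, l₁, l₂⟩
  surj := by
    rintro W₁ W₂ ⟨f₁, h₁⟩ ⟨f₂, h₂⟩ ⟨f, hf⟩ s
    exact qcoh_surj_affineOpen X M hW f₁ f₂ f W₁ W₂ h₁.symm h₂.symm hf.symm s

/-- vanishing of the `n`-th cohomology of `F` on the open `U` (in the `Sheaf.H'` form) -/
def HVanish {T : Type u} [TopologicalSpace T]
    [HasExt.{u} (Sheaf (Opens.grothendieckTopology T) AddCommGrpCat.{u})]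
    (F : Sheaf (Opens.grothendieckTopology T) AddCommGrpCat.{u}) (n : ℕ) (U : Opens T) : Prop :=
  ∀ x : Ext (freeSheaf (Opens.grothendieckTopology T) U) F n, x = 0

/-- Mayer–Vietoris for vanishing -/
theorem HVanish.sup {T : Type u} [TopologicalSpace T]
    [HasExt.{u} (Sheaf (Opens.grothendieckTopology T) AddCommGrpCat.{u})]
    {F : Sheaf (Opens.grothendieckTopology T) AddCommGrpCat.{u}} {n : ℕ} {W₁ W₂ : Opens T}
    (h₁ : HVanish F (n + 1) W₁) (h₂ : HVanish F (n + 1) W₂) (h₁₂ : HVanish F n (W₁ ⊓ W₂)) :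
    HVanish F (n + 1) (W₁ ⊔ W₂) := by
  intro x
  obtain ⟨y, rfl⟩ := exists_δ_eq W₁ W₂ F n x (h₁ _) (h₂ _)
  rw [h₁₂ y]
  exact map_zero _

theorem HVanish.bot {T : Type u} [TopologicalSpace T]
    [HasExt.{u} (Sheaf (Opens.grothendieckTopology T) AddCommGrpCat.{u})]
    (F : Sheaf (Opens.grothendieckTopology T) AddCommGrpCat.{u}) (n : ℕ) :
    HVanish F n (⊥ : Opens T) :=
  fun x => ext_bot_eq_zero F x

/-- **Serre vanishing on affine opens** -/
theorem hVanish_of_isAffineOpen (X : Scheme.{u}) (M : X.Modules) [M.IsQuasicoherent]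
    {W : X.Opens} (hW : IsAffineOpen W) (n : ℕ) : HVanish (T := X) (Coh.toAb M) (n + 1) W :=
  fun x => (isGoodBasis_basicOpen_affineOpen X M hW).ext_eq_zero n ⟨1, X.basicOpen_one⟩ x

theorem subsingleton_HH_of_hVanish_top (X : Scheme.{u}) (M : X.Modules) (n : ℕ)
    (h : HVanish (T := X) (Coh.toAb M) n ⊤) : Subsingleton (Coh.HH X M n) :=
  subsingleton_H_of_forall_ext_eq_zero (T₀ := (⊤ : X.Opens)) isTerminalTop _ n h

/-- vanishing above the number of affines, with affine intersections -/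
theorem hVanish_finset_sup (X : Scheme.{u}) (M : X.Modules) [M.IsQuasicoherent]
    (hd : ∀ V W : X.Opens, IsAffineOpen V → IsAffineOpen W → IsAffineOpen (V ⊓ W))
    {ι : Type*} (s : Finset ι) : ∀ (U : ι → X.Opens), (∀ i ∈ s, IsAffineOpen (U i)) →
      s.Nonempty → ∀ n, s.card ≤ n → HVanish (T := X) (Coh.toAb M) n (s.sup U) := by
  classical
  induction s using Finset.induction_on with
  | empty => intro U _ h; exact absurd h Finset.not_nonempty_empty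
  | insert a s ha ih =>
    intro U hU _ n hn
    rw [Finset.card_insert_of_notMem ha] at hn
    obtain ⟨m, rfl⟩ := Nat.exists_eq_succ_of_ne_zero (by omega : n ≠ 0)
    rw [Finset.sup_insert]
    have hUa : IsAffineOpen (U a) := hU a (Finset.mem_insert_self _ _)
    rcases s.eq_empty_or_nonempty with rfl | hs
    · rw [Finset.sup_empty, sup_bot_eq]
      exact hVanish_of_isAffineOpen X M hUa m
    · apply HVanish.sup (hVanish_of_isAffineOpen X M hUa m)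
      · exact ih U (fun i hi => hU i (Finset.mem_insert_of_mem hi)) hs _ (by omega)
      · rw [Finset.sup_inf_distrib_left]
        exact ih (fun i => U a ⊓ U i)
          (fun i hi => hd _ _ hUa (hU i (Finset.mem_insert_of_mem hi))) hs _ (by omega)

end Groth.Agent.Lead.Coh
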