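import Mathlib
import Groth.Agent.Lead.Coh.AffineOpen

/-!
Lead library (Zariski cohomology project): uniform vanishing bounds for quasi-coherent cohomology on
opens which are finite unions of affines with quasi-compact pairwise intersections.
-/

set_option autoImplicit false
open CategoryTheory Opposite Limits TopologicalSpace AlgebraicGeometry
universe u
namespace Groth.Agent.Lead.Coh

/-- vanishing above the number of members, for a family taken from a class of affine opens closed
under binary intersections -/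
theorem hVanish_finset_sup' (X : Scheme.{u}) (M : X.Modules) [M.IsQuasicoherent]
    (𝒜 : Set X.Opens) (h𝒜 : ∀ V ∈ 𝒜, IsAffineOpen V) (hinf : ∀ V ∈ 𝒜, ∀ W ∈ 𝒜, V ⊓ W ∈ 𝒜)
    {ι : Type*} (s : Finset ι) : ∀ (U : ι → X.Opens), (∀ i ∈ s, U i ∈ 𝒜) →
      s.Nonempty → ∀ n, s.card ≤ n → HVanish (T := X) (Coh.toAb M) n (s.sup U) := by
  classical
  induction s using Finset.induction_on with
  | empty => intro U _ h; exact absurd h Finset.not_nonempty_empty
  | insert a s ha ih =>
    intro U hU _ n hn
    rw [Finset.card_insert_of_notMem ha] at hn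
    obtain ⟨m, rfl⟩ := Nat.exists_eq_succ_of_ne_zero (by omega : n ≠ 0)
    rw [Finset.sup_insert]
    have hUa : U a ∈ 𝒜 := hU a (Finset.mem_insert_self _ _)
    rcases s.eq_empty_or_nonempty with rfl | hs
    · rw [Finset.sup_empty, sup_bot_eq]
      exact hVanish_of_isAffineOpen X M (h𝒜 _ hUa) m
    · apply HVanish.sup (hVanish_of_isAffineOpen X M (h𝒜 _ hUa) m)
      · exact ih U (fun i hi => hU i (Finset.mem_insert_of_mem hi)) hs _ (by omega)
      · rw [Finset.sup_inf_distrib_left]
        exact ih (fun i => U a ⊓ U i)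
          (fun i hi => hinf _ hUa _ (hU i (Finset.mem_insert_of_mem hi))) hs _ (by omega)

/-- vanishing on a union of at most `m` basic opens of an affine open, in degrees `≥ m` -/
theorem hVanish_sup_basicOpen (X : Scheme.{u}) (M : X.Modules) [M.IsQuasicoherent]
    {W : X.Opens} (hW : IsAffineOpen W) (s : Finset Γ(X, W)) (m : ℕ) (hm : s.card ≤ m) :
    HVanish (T := X) (Coh.toAb M) m (s.sup (fun g => X.basicOpen g)) := by
  rcases s.eq_empty_or_nonempty with rfl | hs
  · rw [Finset.sup_empty]
    exact HVanish.bot _ _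
  · refine hVanish_finset_sup' X M (Set.range (fun g : Γ(X, W) => X.basicOpen g)) ?_ ?_ s _
      (fun g _ => ⟨g, rfl⟩) hs m hm
    · rintro _ ⟨g, rfl⟩
      exact hW.basicOpen g
    · rintro _ ⟨g, rfl⟩ _ ⟨g', rfl⟩
      exact ⟨g * g', X.basicOpen_mul g g'⟩

/-- the combinatorial data of a finite affine cover with quasi-compact overlaps -/
structure AffCoverData (X : Scheme.{u}) (κ : Type) [Fintype κ] where
  /-- the affine opens -/
  W : κ → X.Opens
  isAffine : ∀ k, IsAffineOpen (W k)
  /-- generators of the overlaps -/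
  G : ∀ k, κ → Finset Γ(X, W k)
  inf_eq : ∀ k l, W k ⊓ W l = (G k l).sup (fun g => X.basicOpen g)
  /-- the bound -/
  c : ℕ
  card_le : ∀ k, ∑ l, (G k l).card ≤ c

variable {X : Scheme.{u}} {κ : Type} [Fintype κ]

/-- uniform vanishing on `T ⊓ ⋃ W_k` when all `T ⊓ W_k` are affine -/
theorem AffCoverData.hVanish (D : AffCoverData X κ) (M : X.Modules) [M.IsQuasicoherent]
    (T : X.Opens) (hT : ∀ k, IsAffineOpen (T ⊓ D.W k)) (s : Finset κ) :
    ∀ p, D.c + 1 ≤ p → HVanish (T := X) (Coh.toAb M) p (T ⊓ s.sup D.W) := by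
  classical
  induction s using Finset.induction_on with
  | empty =>
    intro p _
    rw [Finset.sup_empty, inf_bot_eq]
    exact HVanish.bot _ _
  | insert a s ha ih =>
    intro p hp
    obtain ⟨m, rfl⟩ := Nat.exists_eq_succ_of_ne_zero (by omega : p ≠ 0)
    rw [Finset.sup_insert, inf_sup_left]
    apply HVanish.sup (hVanish_of_isAffineOpen X M (hT a) m) (ih _ hp)
    -- the overlap
    have hov : (T ⊓ D.W a) ⊓ (T ⊓ s.sup D.W) =
        ((s.biUnion (fun l => D.G a l)).image
          (fun g => X.presheaf.map (homOfLE (inf_le_right : T ⊓ D.W a ≤ D.W a)).op g)).sup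
            (fun g => X.basicOpen g) := by
      rw [Finset.sup_image]
      have h1 : (T ⊓ D.W a) ⊓ (T ⊓ s.sup D.W) = T ⊓ (D.W a ⊓ s.sup D.W) :=
        (inf_inf_distrib_left T _ _).symm
      rw [h1, Finset.sup_inf_distrib_left]
      simp only [D.inf_eq]
      rw [← Finset.sup_biUnion, Finset.sup_inf_distrib_left]
      refine Finset.sup_congr rfl (fun g _ => ?_)
      simp only [Function.comp_apply]
      rw [Scheme.basicOpen_res, inf_assoc, inf_eq_right.mpr (X.basicOpen_le g)]
    rw [hov]
    refine hVanish_sup_basicOpen X M (hT a) _ m ?_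
    calc _ ≤ (s.biUnion (fun l => D.G a l)).card := Finset.card_image_le
      _ ≤ ∑ l ∈ s, (D.G a l).card := Finset.card_biUnion_le
      _ ≤ ∑ l, (D.G a l).card := Finset.sum_le_sum_of_subset (Finset.subset_univ s)
      _ ≤ D.c := D.card_le a
      _ ≤ m := by omega


/-- a quasi-compact open contained in an affine open is a finite union of basic opens -/
theorem exists_finset_basicOpen_eq {W K : X.Opens} (hW : IsAffineOpen W)
    (hK : IsCompact (K : Set X)) (hKW : K ≤ W) :
    ∃ s : Finset Γ(X, W), K = s.sup (fun g => X.basicOpen g) := by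
  classical
  have hex : ∀ x : K, ∃ g : Γ(X, W), X.basicOpen g ≤ K ∧ (x : X) ∈ X.basicOpen g :=
    fun x => hW.exists_basicOpen_le x (hKW x.2)
  choose g hg1 hg2 using hex
  obtain ⟨t, ht⟩ := hK.elim_finite_subcover (fun x : K => (X.basicOpen (g x) : Set X))
    (fun x => (X.basicOpen (g x)).isOpen)
    (fun x hx => Set.mem_iUnion.mpr ⟨⟨x, hx⟩, hg2 ⟨x, hx⟩⟩)
  refine ⟨t.image g, ?_⟩
  apply le_antisymm
  · intro x hx
    obtain ⟨y, hy⟩ := Set.mem_iUnion.mp (ht hx)
    obtain ⟨hyt, hxy⟩ := Set.mem_iUnion.mp hy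
    exact (Finset.le_sup (f := fun g => X.basicOpen g) (Finset.mem_image_of_mem g hyt)) hxy
  · refine Finset.sup_le (fun g' hg' => ?_)
    obtain ⟨y, -, rfl⟩ := Finset.mem_image.mp hg'
    exact hg1 y

/-- existence of the cover data for a quasi-compact quasi-separated open -/
theorem exists_affCoverData (U : X.Opens) (hc : IsCompact (U : Set X))
    (hqs : IsQuasiSeparated (U : Set X)) :
    ∃ (n : ℕ) (D : AffCoverData X (Fin n)), U = Finset.univ.sup D.W := by
  classical
  obtain ⟨s, hs, hU⟩ := isCompact_iff_finite_and_eq_biUnion_affineOpens.mp hc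
  let e := hs.toFinset.equivFin
  let n := hs.toFinset.card
  let W : Fin n → X.Opens := fun k => ((e.symm k : hs.toFinset) : X.affineOpens).1
  have hWaff : ∀ k, IsAffineOpen (W k) := fun k => ((e.symm k : hs.toFinset) : X.affineOpens).2
  have hUW : U = Finset.univ.sup W := by
    rw [hU]
    apply le_antisymm
    · refine iSup₂_le (fun i hi => ?_)
      have him : i ∈ hs.toFinset := hs.mem_toFinset.mpr hi
      have : W (e ⟨i, him⟩) = i.1 := by simp [W]
      rw [← this]
      exact Finset.le_sup (Finset.mem_univ _)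
    · refine Finset.sup_le (fun k _ => ?_)
      have hk : ((e.symm k : hs.toFinset) : X.affineOpens) ∈ s :=
        hs.mem_toFinset.mp (e.symm k).2
      exact le_iSup₂ (f := fun (i : X.affineOpens) (_ : i ∈ s) => (i : X.Opens)) _ hk
  have hWU : ∀ k, W k ≤ U := fun k => by
    rw [hUW]; exact Finset.le_sup (Finset.mem_univ k)
  have hcpt : ∀ k l, IsCompact ((W k ⊓ W l : X.Opens) : Set X) := fun k l =>
    hqs _ _ (hWU k) (W k).isOpen (hWaff k).isCompact (hWU l) (W l).isOpen (hWaff l).isCompact
  have hG : ∀ k l, ∃ G : Finset Γ(X, W k), W k ⊓ W l = G.sup (fun g => X.basicOpen g) :=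
    fun k l => exists_finset_basicOpen_eq (hWaff k) (hcpt k l) inf_le_left
  choose G hG' using hG
  refine ⟨n, { W := W, isAffine := hWaff, G := G, inf_eq := hG',
               c := ∑ k, ∑ l, (G k l).card,
               card_le := fun k => Finset.single_le_sum
                 (f := fun k => ∑ l, (G k l).card) (fun _ _ => Nat.zero_le _)
                 (Finset.mem_univ k) }, hUW⟩

end Groth.Agent.Lead.Coh
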