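import Mathlib
import Groth.Prelude.Def_Coh
import Groth.Agent.Lead.Coh.LocUnion
import Groth.Agent.Lead.Coh.QcqsBound

/-!
Lead library (Zariski cohomology project): localization of the cohomology of a quasi-coherent
module.  For a scheme `X`, a quasi-coherent module `M`, a global function `g` and a quasi-compact
quasi-separated open `W`, the restriction `H^n(W, M) → H^n(W ∩ X_g, M)` becomes an isomorphism after
inverting `g` (in the elementwise form `L1`/`L2` of `LocFive`).
-/

set_option autoImplicit false
open CategoryTheory Opposite Limits TopologicalSpace AlgebraicGeometry Abelian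
universe u
namespace Groth.Agent.Lead.Coh
open Groth.Agent.H18 LocFive

variable {X : Scheme.{u}} (M : X.Modules) (g : Γ(X, ⊤))

/-- restriction of a global function to an open -/
noncomputable abbrev gres (U : X.Opens) : Γ(X, U) :=
  X.presheaf.map (homOfLE (le_top : U ≤ ⊤)).op g

theorem tmul_mk₀_symm (W : X.Opens) (s : (Coh.toAb M).obj.obj (op W)) :
    tmul (T := X) (Coh.smulAb M g) W 0 (Ext.mk₀ ((homEquivSections W (Coh.toAb M)).symm s)) =
      Ext.mk₀ ((homEquivSections W (Coh.toAb M)).symm
        (@HSMul.hSMul (X.ringCatSheaf.obj.obj (op W)) (M.val.obj (op W)) (M.val.obj (op W)) _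
          (Coh.resTop X (op W) g) s)) := by
  rw [tmul_apply, Ext.mk₀_comp_mk₀]
  congr 1
  apply (homEquivSections W (Coh.toAb M)).injective
  rw [homEquivSections_naturality_right, Equiv.apply_symm_apply, Equiv.apply_symm_apply]
  exact Coh.smulAb_app M g (op W) s

theorem tmul_iterate_mk₀_symm (W : X.Opens) (k : ℕ) (s : (Coh.toAb M).obj.obj (op W)) :
    (tmul (T := X) (Coh.smulAb M g) W 0)^[k]
        (Ext.mk₀ ((homEquivSections W (Coh.toAb M)).symm s)) =
      Ext.mk₀ ((homEquivSections W (Coh.toAb M)).symm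
        (@HSMul.hSMul (X.ringCatSheaf.obj.obj (op W)) (M.val.obj (op W)) (M.val.obj (op W)) _
          ((Coh.resTop X (op W) g) ^ k) s)) := by
  induction k with
  | zero =>
    rw [Function.iterate_zero, id, pow_zero]
    congr 2
    exact (@one_smul (X.ringCatSheaf.obj.obj (op W)) (M.val.obj (op W)) _ _ s).symm
  | succ k ih =>
    rw [Function.iterate_succ_apply', ih, tmul_mk₀_symm, pow_succ', mul_smul]

theorem mk₀_symm_eq_zero_iff (W : X.Opens) (s : (Coh.toAb M).obj.obj (op W)) :
    Ext.mk₀ ((homEquivSections W (Coh.toAb M)).symm s) = 0 ↔ s = 0 := by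
  constructor
  · intro h
    have h1 : (homEquivSections W (Coh.toAb M)).symm s = 0 :=
      (Ext.mk₀_bijective _ _).1 (by rw [h, Ext.mk₀_zero])
    have h2 := congrArg (homEquivSections W (Coh.toAb M)) h1
    rw [Equiv.apply_symm_apply, homEquivSections_zero] at h2
    exact h2
  · rintro rfl
    have : (homEquivSections W (Coh.toAb M)).symm 0 = 0 := by
      apply (homEquivSections W (Coh.toAb M)).injective
      rw [Equiv.apply_symm_apply, homEquivSections_zero]
    rw [this, Ext.mk₀_zero]

theorem gres_res {U W : X.Opens} (h : W ≤ U) :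
    X.presheaf.map (homOfLE h).op (gres g U) = gres g W := by
  simp only [gres, ← ConcreteCategory.comp_apply, ← Functor.map_comp]
  rfl

variable [M.IsQuasicoherent]

/-- the base case: affine opens -/
theorem locAt_of_isAffineOpen {U : X.Opens} (hU : IsAffineOpen U) :
    LocAt (T := X) (Coh.smulAb M g) (X.basicOpen g) U := by
  have e₂ : hU.fromSpec ''ᵁ (PrimeSpectrum.basicOpen (gres g U)) = U ⊓ X.basicOpen g := by
    rw [hU.fromSpec_image_basicOpen, gres, X.basicOpen_res]
  intro n
  cases n with
  | zero =>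
    constructor
    · intro y
      obtain ⟨s, rfl⟩ := exists_mk₀_symm_eq _ y
      obtain ⟨k, x, hx⟩ := exists_pow_smul_eq_res_aux M hU (gres g U) (U ⊓ X.basicOpen g) e₂
        inf_le_left s
      refine ⟨k, Ext.mk₀ ((homEquivSections U (Coh.toAb M)).symm x), ?_⟩
      rw [tmul_iterate_mk₀_symm]
      change resLE (inf_le_left : U ⊓ X.basicOpen g ≤ U) _ = _
      rw [resLE_mk₀_symm]
      congr 2
      rw [gres_res] at hx
      exact hx.symm
    · intro x hx
      obtain ⟨s, rfl⟩ := exists_mk₀_symm_eq _ x
      change resLE (inf_le_left : U ⊓ X.basicOpen g ≤ U) _ = _ at hx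
      rw [resLE_mk₀_symm, mk₀_symm_eq_zero_iff] at hx
      obtain ⟨k, hk⟩ := exists_pow_smul_eq_zero_aux M hU (gres g U) (U ⊓ X.basicOpen g) e₂
        inf_le_left s hx
      refine ⟨k, ?_⟩
      rw [tmul_iterate_mk₀_symm, mk₀_symm_eq_zero_iff]
      exact hk
  | succ n =>
    have hUg : IsAffineOpen (U ⊓ X.basicOpen g) := by
      have := hU.basicOpen (gres g U)
      rwa [gres, X.basicOpen_res] at this
    constructor
    · intro y
      exact ⟨0, 0, by rw [map_zero]; exact (hVanish_of_isAffineOpen X M hUg n y).symm⟩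
    · intro x _
      exact ⟨0, hVanish_of_isAffineOpen X M hU n x⟩

/-- finite unions of basic opens of an affine open -/
theorem locAt_sup_basicOpen {U : X.Opens} (hU : IsAffineOpen U) (s : Finset Γ(X, U)) :
    LocAt (T := X) (Coh.smulAb M g) (X.basicOpen g) (s.sup (fun r => X.basicOpen r)) := by
  refine LocAt.finset_sup _ _ (Set.range (fun r : Γ(X, U) => X.basicOpen r)) ?_ ?_ s _
    (fun r _ => ⟨r, rfl⟩)
  · rintro _ ⟨r, rfl⟩ _ ⟨r', rfl⟩
    exact ⟨r * r', X.basicOpen_mul r r'⟩
  · rintro _ ⟨r, rfl⟩
    exact locAt_of_isAffineOpen M g (hU.basicOpen r)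

/-- quasi-compact opens contained in an affine open -/
theorem locAt_of_isCompact_of_le {U K : X.Opens} (hU : IsAffineOpen U)
    (hK : IsCompact (K : Set X)) (hKU : K ≤ U) :
    LocAt (T := X) (Coh.smulAb M g) (X.basicOpen g) K := by
  obtain ⟨s, rfl⟩ := exists_finset_basicOpen_eq hU hK hKU
  exact locAt_sup_basicOpen M g hU s

theorem isCompact_finset_sup {ι : Type*} (s : Finset ι) (U : ι → X.Opens)
    (h : ∀ i ∈ s, IsCompact (U i : Set X)) : IsCompact ((s.sup U : X.Opens) : Set X) := by
  classical
  induction s using Finset.induction_on with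
  | empty =>
    rw [Finset.sup_empty]
    exact isCompact_empty
  | insert a s _ ih =>
    rw [Finset.sup_insert, Opens.coe_sup]
    exact (h a (Finset.mem_insert_self _ _)).union
      (ih (fun i hi => h i (Finset.mem_insert_of_mem hi)))

/-- finite unions of affine opens inside a quasi-separated open -/
theorem locAt_finset_sup_of_isQuasiSeparated (Ω : X.Opens) (hΩ : IsQuasiSeparated (Ω : Set X))
    {ι : Type*} (s : Finset ι) :
    ∀ (U : ι → X.Opens), (∀ i ∈ s, IsAffineOpen (U i)) → (∀ i ∈ s, U i ≤ Ω) →
      LocAt (T := X) (Coh.smulAb M g) (X.basicOpen g) (s.sup U) := by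
  classical
  induction s using Finset.induction_on with
  | empty =>
    intro U _ _
    rw [Finset.sup_empty]
    exact LocAt.bot _ _
  | insert a s _ ih =>
    intro U hU hΩU
    rw [Finset.sup_insert]
    have hUa : IsAffineOpen (U a) := hU a (Finset.mem_insert_self _ _)
    have hs : ∀ i ∈ s, IsAffineOpen (U i) := fun i hi => hU i (Finset.mem_insert_of_mem hi)
    have hsΩ : ∀ i ∈ s, U i ≤ Ω := fun i hi => hΩU i (Finset.mem_insert_of_mem hi)
    refine LocAt.sup _ _ (locAt_of_isAffineOpen M g hUa) (ih U hs hsΩ) ?_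
    refine locAt_of_isCompact_of_le M g hUa ?_ inf_le_left
    have hc : IsCompact ((s.sup U : X.Opens) : Set X) :=
      isCompact_finset_sup s U (fun i hi => (hs i hi).isCompact)
    have hle : s.sup U ≤ Ω := Finset.sup_le hsΩ
    exact hΩ _ _ (hΩU a (Finset.mem_insert_self _ _)) (U a).isOpen hUa.isCompact hle
      (s.sup U).isOpen hc

/-- **Localization of quasi-coherent cohomology** on a quasi-compact quasi-separated open. -/
theorem locAt_of_isCompact_of_isQuasiSeparated (W : X.Opens) (hc : IsCompact (W : Set X))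
    (hqs : IsQuasiSeparated (W : Set X)) :
    LocAt (T := X) (Coh.smulAb M g) (X.basicOpen g) W := by
  classical
  obtain ⟨s, hs, hW⟩ := isCompact_iff_finite_and_eq_biUnion_affineOpens.mp hc
  have hW' : W = hs.toFinset.sup (fun i : X.affineOpens => (i : X.Opens)) := by
    rw [hW]
    apply le_antisymm
    · refine iSup₂_le (fun i hi => ?_)
      exact Finset.le_sup (f := fun i : X.affineOpens => (i : X.Opens)) (hs.mem_toFinset.mpr hi)
    · refine Finset.sup_le (fun i hi => ?_)
      exact le_iSup₂ (f := fun (i : X.affineOpens) (_ : i ∈ s) => (i : X.Opens)) i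
        (hs.mem_toFinset.mp hi)
  rw [hW']
  refine locAt_finset_sup_of_isQuasiSeparated M g W hqs _ _ (fun i _ => i.2) (fun i hi => ?_)
  rw [hW]
  exact le_iSup₂ (f := fun (i : X.affineOpens) (_ : i ∈ s) => (i : X.Opens)) i
    (hs.mem_toFinset.mp hi)

end Groth.Agent.Lead.Coh
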