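import Mathlib
import Groth.Agent.Lead.Coh.QcqsBound

/-!
Lead library (Zariski cohomology project): a Mayer–Vietoris induction principle for quasi-compact
opens inside a quasi-separated open of a scheme.
-/

set_option autoImplicit false
open CategoryTheory Opposite Limits TopologicalSpace AlgebraicGeometry
universe u
namespace Groth.Agent.Lead.Coh

/-- finite unions of members of a class of opens closed under binary intersections -/
theorem finset_sup_induction {T : Type*} [TopologicalSpace T] (P : Opens T → Prop) (hbot : P ⊥)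
    (hsup : ∀ W₁ W₂ : Opens T, P W₁ → P W₂ → P (W₁ ⊓ W₂) → P (W₁ ⊔ W₂))
    (𝒜 : Set (Opens T)) (hinf : ∀ V ∈ 𝒜, ∀ W ∈ 𝒜, V ⊓ W ∈ 𝒜) (h𝒜 : ∀ V ∈ 𝒜, P V)
    {ι : Type*} (s : Finset ι) :
    ∀ (U : ι → Opens T), (∀ i ∈ s, U i ∈ 𝒜) → P (s.sup U) := by
  classical
  induction s using Finset.induction_on with
  | empty =>
    intro U _
    rw [Finset.sup_empty]
    exact hbot
  | insert a s ha ih =>
    intro U hU
    rw [Finset.sup_insert]
    have hUa : U a ∈ 𝒜 := hU a (Finset.mem_insert_self _ _)
    refine hsup _ _ (h𝒜 _ hUa) (ih U (fun i hi => hU i (Finset.mem_insert_of_mem hi))) ?_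
    rw [Finset.sup_inf_distrib_left]
    exact ih (fun i => U a ⊓ U i)
      (fun i hi => hinf _ hUa _ (hU i (Finset.mem_insert_of_mem hi)))

variable {X : Scheme.{u}}

theorem isCompact_finset_sup' {ι : Type*} (s : Finset ι) (U : ι → X.Opens)
    (h : ∀ i ∈ s, IsCompact (U i : Set X)) : IsCompact ((s.sup U : X.Opens) : Set X) := by
  classical
  induction s using Finset.induction_on with
  | empty =>
    rw [Finset.sup_empty]
    exact isCompact_empty
  | insert a s _ ih =>
    rw [Finset.sup_insert, Opens.coe_sup]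
    exact (h a (Finset.mem_insert_self _ _)).union
      (ih (fun i hi => h i (Finset.mem_insert_of_mem hi)))

/-- **Mayer–Vietoris induction** for quasi-compact opens inside a quasi-separated open. -/
theorem qcqs_induction (P : X.Opens → Prop) (hbot : P ⊥)
    (hsup : ∀ W₁ W₂ : X.Opens, P W₁ → P W₂ → P (W₁ ⊓ W₂) → P (W₁ ⊔ W₂))
    (Ω : X.Opens) (hΩ : IsQuasiSeparated (Ω : Set X))
    (haff : ∀ U : X.Opens, IsAffineOpen U → U ≤ Ω → P U) :
    ∀ W : X.Opens, W ≤ Ω → IsCompact (W : Set X) → P W := by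
  classical
  -- quasi-compact opens inside an affine open
  have h1 : ∀ (U K : X.Opens), IsAffineOpen U → U ≤ Ω → IsCompact (K : Set X) → K ≤ U → P K := by
    intro U K hU hUΩ hK hKU
    obtain ⟨s, rfl⟩ := exists_finset_basicOpen_eq hU hK hKU
    refine finset_sup_induction P hbot hsup (Set.range (fun r : Γ(X, U) => X.basicOpen r)) ?_ ?_ s _
      (fun r _ => ⟨r, rfl⟩)
    · rintro _ ⟨r, rfl⟩ _ ⟨r', rfl⟩
      exact ⟨r * r', X.basicOpen_mul r r'⟩
    · rintro _ ⟨r, rfl⟩
      exact haff _ (hU.basicOpen r) ((X.basicOpen_le r).trans hUΩ)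
  -- finite unions of affine opens
  have h2 : ∀ (s : Finset X.affineOpens), (∀ i ∈ s, (i : X.Opens) ≤ Ω) →
      P (s.sup (fun i : X.affineOpens => (i : X.Opens))) := by
    intro s
    induction s using Finset.induction_on with
    | empty =>
      intro _
      rw [Finset.sup_empty]
      exact hbot
    | insert a s _ ih =>
      intro hs
      rw [Finset.sup_insert]
      have hsΩ : ∀ i ∈ s, (i : X.Opens) ≤ Ω := fun i hi => hs i (Finset.mem_insert_of_mem hi)
      have haΩ : (a : X.Opens) ≤ Ω := hs a (Finset.mem_insert_self _ _)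
      refine hsup _ _ (haff _ a.2 haΩ) (ih hsΩ) ?_
      refine h1 a _ a.2 haΩ ?_ inf_le_left
      have hc : IsCompact ((s.sup (fun i : X.affineOpens => (i : X.Opens)) : X.Opens) : Set X) :=
        isCompact_finset_sup' s _ (fun i _ => i.2.isCompact)
      exact hΩ _ _ haΩ (a : X.Opens).isOpen a.2.isCompact (Finset.sup_le hsΩ)
        (s.sup (fun i : X.affineOpens => (i : X.Opens))).isOpen hc
  intro W hWΩ hc
  obtain ⟨s, hs, hW⟩ := isCompact_iff_finite_and_eq_biUnion_affineOpens.mp hc
  have hW' : W = hs.toFinset.sup (fun i : X.affineOpens => (i : X.Opens)) := by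
    rw [hW]
    apply le_antisymm
    · refine iSup₂_le (fun i hi => ?_)
      exact Finset.le_sup (f := fun i : X.affineOpens => (i : X.Opens)) (hs.mem_toFinset.mpr hi)
    · refine Finset.sup_le (fun i hi => ?_)
      exact le_iSup₂ (f := fun (i : X.affineOpens) (_ : i ∈ s) => (i : X.Opens)) i
        (hs.mem_toFinset.mp hi)
  rw [hW']
  refine h2 _ (fun i hi => le_trans ?_ hWΩ)
  rw [hW]
  exact le_iSup₂ (f := fun (i : X.affineOpens) (_ : i ∈ s) => (i : X.Opens)) i
    (hs.mem_toFinset.mp hi)

end Groth.Agent.Lead.Coh
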