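import Mathlib
import Groth.Agent.Lead.Coh.H0

/-!
Lead library (Zariski cohomology project): on a site with a terminal object `T₀`, the free sheaf
on `T₀` is isomorphic to the constant sheaf `ℤ`, hence `Ext^n(freeSheaf T₀, F) ≃+ Sheaf.H F n`.
-/

set_option autoImplicit false

open CategoryTheory Opposite Abelian Limits

namespace Groth.Agent.Lead.Coh

universe v u

variable {C : Type u} [Category.{v} C] {J : GrothendieckTopology C}
  [HasWeakSheafify J (Type v)] [HasSheafify J AddCommGrpCat.{v}]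

/-- the free sheaf on a terminal object is the constant sheaf `ℤ` -/
theorem exists_iso_constant {T₀ : C} (hT : IsTerminal T₀) :
    Nonempty (freeSheaf J T₀ ≅
      (constantSheaf J AddCommGrpCat.{v}).obj (AddCommGrpCat.of (ULift ℤ))) := by
  let K := (constantSheaf J AddCommGrpCat.{v}).obj (AddCommGrpCat.of (ULift ℤ))
  let adj := constantSheafAdj J AddCommGrpCat.{v} hT
  -- sections of `G` over `T₀` as morphisms from `K`
  let eK : ∀ G : Sheaf J AddCommGrpCat.{v}, (K ⟶ G) ≃ (G.obj.obj (op T₀) : Type v) := fun G =>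
    ((adj.homEquiv _ G).trans
      (AddCommGrpCat.uliftZMultiplesAddEquiv (G.obj.obj (op T₀))).toEquiv)
  have eK_nat : ∀ {G G' : Sheaf J AddCommGrpCat.{v}} (φ : G ⟶ G') (a : K ⟶ G),
      eK G' (a ≫ φ) = φ.hom.app (op T₀) (eK G a) := by
    intro G G' φ a
    simp only [eK, Equiv.trans_apply]
    rw [Adjunction.homEquiv_naturality_right]
    rfl
  let u : K.obj.obj (op T₀) := eK K (𝟙 K)
  let r : freeSheaf J T₀ ⟶ K := (homEquivSections T₀ K).symm u
  let e : (freeSheaf J T₀).obj.obj (op T₀) := homEquivSections T₀ _ (𝟙 _)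
  let i : K ⟶ freeSheaf J T₀ := (eK _).symm e
  refine ⟨⟨r, i, ?_, ?_⟩⟩
  · apply (homEquivSections T₀ _).injective
    rw [homEquivSections_naturality_right, Equiv.apply_symm_apply]
    change i.hom.app (op T₀) (eK K (𝟙 K)) = e
    rw [← eK_nat, Category.id_comp, Equiv.apply_symm_apply]
  · apply (eK K).injective
    rw [eK_nat, Equiv.apply_symm_apply]
    change r.hom.app (op T₀) (homEquivSections T₀ _ (𝟙 _)) = u
    rw [← homEquivSections_naturality_right, Category.id_comp, Equiv.apply_symm_apply]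

variable [HasExt.{v} (Sheaf J AddCommGrpCat.{v})]

/-- `H'^n(T₀, F) ≃+ H^n(F)` for a terminal object `T₀` -/
theorem nonempty_ext_freeSheaf_addEquiv_H {T₀ : C} (hT : IsTerminal T₀)
    (F : Sheaf J AddCommGrpCat.{v}) (n : ℕ) :
    Nonempty (Ext (freeSheaf J T₀) F n ≃+ Sheaf.H F n) := by
  obtain ⟨e⟩ := exists_iso_constant (J := J) hT
  refine ⟨{ toFun := fun x => (Ext.mk₀ e.inv).comp x (zero_add n)
            invFun := fun y => (Ext.mk₀ e.hom).comp y (zero_add n)
            left_inv := fun x => ?_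
            right_inv := fun y => ?_
            map_add' := fun x y => Ext.comp_add _ _ _ _ }⟩
  · change (Ext.mk₀ e.hom).comp ((Ext.mk₀ e.inv).comp x (zero_add n)) (zero_add n) = x
    rw [Ext.mk₀_comp_mk₀_assoc, e.hom_inv_id, Ext.mk₀_id_comp]
  · change (Ext.mk₀ e.inv).comp ((Ext.mk₀ e.hom).comp y (zero_add n)) (zero_add n) = y
    rw [Ext.mk₀_comp_mk₀_assoc, e.inv_hom_id, Ext.mk₀_id_comp]

end Groth.Agent.Lead.Coh
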