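import Mathlib
import Groth.Prelude.Def_Coh
import Groth.Prelude.Def_CohTop
import Groth.Agent.Lead.Coh.LocScheme
import Groth.Agent.Lead.Coh.LocBij
import Groth.Agent.Lead.Coh.QcqsInd
import Groth.Agent.Lead.Coh.TopIso
import Groth.Agent.H30.RestrOpen

/-!
Lead library (Zariski cohomology project): the localization theorem for the cohomology of a
quasi-coherent module, in module form:  for a quasi-compact quasi-separated open `W` and a global
function `g`, `H^q(W ∩ X_g, M)` is the localization of `H^q(W, M)` at the powers of `g`.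
-/

set_option autoImplicit false
open CategoryTheory Opposite Limits TopologicalSpace AlgebraicGeometry Abelian
universe u
namespace Groth.Agent.Lead.Coh
open Groth.Agent.H18 LocFive

variable {X : Scheme.{u}} (M : X.Modules)

/-- the cohomology `H^q(W, M)` of an open, as a module over the global functions -/
def EM (W : X.Opens) (q : ℕ) : Type u :=
  Ext (freeSheaf (Opens.grothendieckTopology X) W) (Coh.toAb M) q

noncomputable instance (W : X.Opens) (q : ℕ) : AddCommGroup (EM M W q) :=
  inferInstanceAs (AddCommGroup (Ext (freeSheaf (Opens.grothendieckTopology X) W) (Coh.toAb M) q))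

/-- the tautological identification -/
def EM.of {W : X.Opens} {q : ℕ}
    (x : Ext (freeSheaf (Opens.grothendieckTopology X) W) (Coh.toAb M) q) : EM M W q := x

/-- the tautological identification -/
def EM.val {W : X.Opens} {q : ℕ} (x : EM M W q) :
    Ext (freeSheaf (Opens.grothendieckTopology X) W) (Coh.toAb M) q := x

theorem tmul_smulAb_one (W : X.Opens) (q : ℕ)
    (x : Ext (freeSheaf (Opens.grothendieckTopology X) W) (Coh.toAb M) q) :
    tmul (T := X) (Coh.smulAb M 1) W q x = x := by
  rw [Coh.smulAb_one, tmul_apply]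
  exact Ext.comp_mk₀_id x

theorem tmul_smulAb_mul (W : X.Opens) (q : ℕ) (r s : Coh.Γtop X)
    (x : Ext (freeSheaf (Opens.grothendieckTopology X) W) (Coh.toAb M) q) :
    tmul (T := X) (Coh.smulAb M (r * s)) W q x =
      tmul (T := X) (Coh.smulAb M r) W q (tmul (T := X) (Coh.smulAb M s) W q x) := by
  rw [Coh.smulAb_mul, tmul_apply, tmul_apply, tmul_apply, ← Ext.mk₀_comp_mk₀]
  exact (Ext.comp_assoc _ _ _ (add_zero q) (add_zero 0) (by omega)).symm

theorem tmul_smulAb_add (W : X.Opens) (q : ℕ) (r s : Coh.Γtop X)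
    (x : Ext (freeSheaf (Opens.grothendieckTopology X) W) (Coh.toAb M) q) :
    tmul (T := X) (Coh.smulAb M (r + s)) W q x =
      tmul (T := X) (Coh.smulAb M r) W q x + tmul (T := X) (Coh.smulAb M s) W q x := by
  rw [Coh.smulAb_add, tmul_apply, tmul_apply, tmul_apply, Ext.mk₀_add, Ext.comp_add]

theorem tmul_smulAb_zero (W : X.Opens) (q : ℕ)
    (x : Ext (freeSheaf (Opens.grothendieckTopology X) W) (Coh.toAb M) q) :
    tmul (T := X) (Coh.smulAb M 0) W q x = 0 := by
  rw [Coh.smulAb_zero, tmul_apply, Ext.mk₀_zero, Ext.comp_zero]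

noncomputable instance moduleEM (W : X.Opens) (q : ℕ) : Module Γ(X, ⊤) (EM M W q) where
  smul r x := tmul (T := X) (Coh.smulAb M r) W q x
  one_smul x := tmul_smulAb_one M W q x
  mul_smul r s x := tmul_smulAb_mul M W q r s x
  smul_zero r := map_zero (tmul (T := X) (Coh.smulAb M r) W q)
  smul_add r x y := map_add (tmul (T := X) (Coh.smulAb M r) W q) x y
  add_smul r s x := tmul_smulAb_add M W q r s x
  zero_smul x := tmul_smulAb_zero M W q x

theorem smul_EM_def (W : X.Opens) (q : ℕ) (r : Γ(X, ⊤)) (x : EM M W q) :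
    r • x = tmul (T := X) (Coh.smulAb M r) W q x := rfl

theorem pow_smul_EM (W : X.Opens) (q : ℕ) (r : Γ(X, ⊤)) (k : ℕ) (x : EM M W q) :
    r ^ k • x = (tmul (T := X) (Coh.smulAb M r) W q)^[k] x := by
  induction k with
  | zero => rw [pow_zero, one_smul]; rfl
  | succ k ih => rw [pow_succ', mul_smul, ih, Function.iterate_succ_apply']; rfl

/-- restriction as a linear map -/
noncomputable def resLin {W V : X.Opens} (h : V ≤ W) (q : ℕ) :
    EM M W q →ₗ[Γ(X, ⊤)] EM M V q where
  toFun x := resHom (T := X) h q x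
  map_add' x y := map_add (resHom (T := X) h q) x y
  map_smul' r x := resM_tmul (T := X) (Coh.smulAb M r) (homOfLE h) q x

variable [M.IsQuasicoherent] (g : Γ(X, ⊤))

/-- on an affine open inside `X_g`, multiplication by `g` is bijective on cohomology -/
theorem bijAt_of_isAffineOpen {U : X.Opens} (hU : IsAffineOpen U) (hUg : U ≤ X.basicOpen g) :
    BijAt (T := X) (Coh.smulAb M g) U := by
  intro n
  cases n with
  | succ n =>
    constructor
    · intro x y _
      rw [hVanish_of_isAffineOpen X M hU n x, hVanish_of_isAffineOpen X M hU n y]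
    · intro y
      exact ⟨0, (hVanish_of_isAffineOpen X M hU n _).trans
        (hVanish_of_isAffineOpen X M hU n y).symm⟩
  | zero =>
    have h0 : IsUnit (X.presheaf.map (homOfLE (X.basicOpen_le g)).op g) :=
      X.toRingedSpace.isUnit_res_basicOpen g
    have hu : IsUnit (Coh.resTop X (op U) g) := by
      have h1 := h0.map (X.presheaf.map (homOfLE hUg).op).hom
      have h2 : (X.presheaf.map (homOfLE hUg).op).hom
          (X.presheaf.map (homOfLE (X.basicOpen_le g)).op g) = gres g U := by
        simp only [gres, ← ConcreteCategory.comp_apply, ← Functor.map_comp]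
        rfl
      rw [h2] at h1
      exact h1
    constructor
    · rw [injective_iff_map_eq_zero]
      intro x hx
      obtain ⟨s, rfl⟩ := exists_mk₀_symm_eq _ x
      rw [tmul_mk₀_symm, mk₀_symm_eq_zero_iff] at hx
      rw [mk₀_symm_eq_zero_iff]
      have h3 := congrArg (fun z => @HSMul.hSMul (X.ringCatSheaf.obj.obj (op U))
        (M.val.obj (op U)) (M.val.obj (op U)) _ (↑hu.unit⁻¹ : X.ringCatSheaf.obj.obj (op U)) z) hx
      simp only [smul_smul, IsUnit.val_inv_mul, one_smul] at h3
      exact h3.trans (@smul_zero (X.ringCatSheaf.obj.obj (op U)) (M.val.obj (op U)) _ _ _)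
    · intro y
      obtain ⟨s, rfl⟩ := exists_mk₀_symm_eq _ y
      refine ⟨Ext.mk₀ ((homEquivSections U (Coh.toAb M)).symm
        (@HSMul.hSMul (X.ringCatSheaf.obj.obj (op U)) (M.val.obj (op U)) (M.val.obj (op U)) _
          (↑hu.unit⁻¹ : X.ringCatSheaf.obj.obj (op U)) s)), ?_⟩
      rw [tmul_mk₀_symm]
      congr 2
      rw [smul_smul, IsUnit.mul_val_inv, one_smul]

/-- multiplication by `g` is bijective on the cohomology of quasi-compact opens of `X_g` contained
in a quasi-separated open -/
theorem bijAt_of_isCompact (Ω : X.Opens) (hΩ : IsQuasiSeparated (Ω : Set X))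
    (hΩg : Ω ≤ X.basicOpen g) (W : X.Opens) (hW : W ≤ Ω) (hc : IsCompact (W : Set X)) :
    BijAt (T := X) (Coh.smulAb M g) W :=
  qcqs_induction (fun W => BijAt (T := X) (Coh.smulAb M g) W) (BijAt.bot _)
    (fun _ _ h₁ h₂ h₁₂ => BijAt.sup _ h₁ h₂ h₁₂) Ω hΩ
    (fun U hU hUΩ => bijAt_of_isAffineOpen M g hU (hUΩ.trans hΩg)) W hW hc

/-- **Localization theorem**: `H^q(W ∩ X_g, M) = H^q(W, M)_g` for `W` quasi-compact and
quasi-separated. -/
theorem isLocalizedModule_resLin (W : X.Opens) (hc : IsCompact (W : Set X))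
    (hqs : IsQuasiSeparated (W : Set X)) (q : ℕ) :
    IsLocalizedModule (Submonoid.powers g)
      (resLin M (inf_le_left : W ⊓ X.basicOpen g ≤ W) q) := by
  have hloc := locAt_of_isCompact_of_isQuasiSeparated M g W hc hqs q
  have hcg : IsCompact ((W ⊓ X.basicOpen g : X.Opens) : Set X) := by
    have := isCompact_basicOpen X hc (gres g W)
    rwa [gres, X.basicOpen_res] at this
  have hbij := bijAt_of_isCompact M g (W ⊓ X.basicOpen g)
    (hqs.of_subset Set.inter_subset_left) inf_le_right _ le_rfl hcg q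
  refine ⟨?_, ?_, ?_⟩
  · rintro ⟨_, k, rfl⟩
    change IsUnit (algebraMap Γ(X, ⊤) (Module.End Γ(X, ⊤) (EM M _ q)) (g ^ k))
    rw [map_pow]
    apply IsUnit.pow
    rw [Module.End.isUnit_iff]
    exact hbij
  · intro y
    obtain ⟨k, x, hx⟩ := hloc.1 y
    refine ⟨(x, ⟨g ^ k, k, rfl⟩), ?_⟩
    change g ^ k • y = _
    rw [pow_smul_EM]
    exact hx.symm
  · intro x₁ x₂ h
    have h0 : resLin M (inf_le_left : W ⊓ X.basicOpen g ≤ W) q (x₁ - x₂) = 0 := by
      rw [map_sub]
      exact sub_eq_zero.mpr h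
    obtain ⟨k, hk⟩ := hloc.2 (x₁ - x₂) h0
    refine ⟨⟨g ^ k, k, rfl⟩, ?_⟩
    change g ^ k • x₁ = g ^ k • x₂
    rw [← sub_eq_zero, ← smul_sub, pow_smul_EM]
    exact hk

end Groth.Agent.Lead.Coh
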