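import Mathlib
import Groth.Agent.Lead.Coh.LocModule

/-!
Lead library (Zariski cohomology project): a cohomology class of a quasi-coherent module on a
quasi-compact quasi-separated open `U ⊆ X_g` which dies on `U ∩ X_a` and `U ∩ X_b`, where
`g^N = c a + d b`, is zero.
-/

set_option autoImplicit false
open CategoryTheory Opposite Limits TopologicalSpace AlgebraicGeometry Abelian
universe u
namespace Groth.Agent.Lead.Coh
open LocFive

variable {X : Scheme.{u}} (M : X.Modules) [M.IsQuasicoherent]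

theorem eq_zero_of_pow_smul_eq_zero (g : Γ(X, ⊤)) (U : X.Opens) (hc : IsCompact (U : Set X))
    (hqs : IsQuasiSeparated (U : Set X)) (hUg : U ≤ X.basicOpen g) (n : ℕ) (x : EM M U n) (m : ℕ)
    (hx : g ^ m • x = 0) : x = 0 := by
  have hbij := bijAt_of_isCompact M g U hqs hUg U le_rfl hc n
  rw [pow_smul_EM] at hx
  have hinj : Function.Injective (tmul (T := X) (Coh.smulAb M g) U n)^[m] := hbij.1.iterate m
  apply hinj
  rw [hx]
  exact (iterate_map_zero (tmul (T := X) (Coh.smulAb M g) U n) m).symm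

theorem exists_pow_smul_eq_zero_of_res (a : Γ(X, ⊤)) (U U₁ : X.Opens) (hc : IsCompact (U : Set X))
    (hqs : IsQuasiSeparated (U : Set X)) (h₁ : U₁ ≤ U) (ha : U ⊓ X.basicOpen a ≤ U₁) (n : ℕ)
    (x : EM M U n) (hx : resHom (T := X) h₁ n x = 0) : ∃ k : ℕ, a ^ k • x = 0 := by
  have hloc := (locAt_of_isCompact_of_isQuasiSeparated M a U hc hqs n).2
  have h0 : resHom (T := X) (inf_le_left : U ⊓ X.basicOpen a ≤ U) n x = 0 := by
    have : resHom (T := X) (inf_le_left : U ⊓ X.basicOpen a ≤ U) n x =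
        resHom (T := X) ha n (resHom (T := X) h₁ n x) :=
      (resM_resM (T := X) (homOfLE h₁) (homOfLE ha) (homOfLE inf_le_left) n x).symm
    rw [this, hx, map_zero]
  obtain ⟨k, hk⟩ := hloc x h0
  exact ⟨k, by rw [pow_smul_EM]; exact hk⟩

/-- the two-open injectivity statement -/
theorem eq_zero_of_res_eq_zero (g a b c d : Γ(X, ⊤)) (N : ℕ) (hN : g ^ N = c * a + d * b)
    (U U₁ U₂ : X.Opens) (hc : IsCompact (U : Set X)) (hqs : IsQuasiSeparated (U : Set X))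
    (hUg : U ≤ X.basicOpen g) (h₁ : U₁ ≤ U) (h₂ : U₂ ≤ U) (ha : U ⊓ X.basicOpen a ≤ U₁)
    (hb : U ⊓ X.basicOpen b ≤ U₂) (n : ℕ)
    (ξ : Ext (freeSheaf (Opens.grothendieckTopology X) U) (Coh.toAb M) n)
    (hξ₁ : resHom (T := X) h₁ n ξ = 0) (hξ₂ : resHom (T := X) h₂ n ξ = 0) : ξ = 0 := by
  let x : EM M U n := EM.of M ξ
  obtain ⟨k₁, hk₁⟩ := exists_pow_smul_eq_zero_of_res M a U U₁ hc hqs h₁ ha n x hξ₁
  obtain ⟨k₂, hk₂⟩ := exists_pow_smul_eq_zero_of_res M b U U₂ hc hqs h₂ hb n x hξ₂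
  let J : Ideal Γ(X, ⊤) := Ideal.torsionOf Γ(X, ⊤) (EM M U n) x
  have haJ : a ∈ J.radical := ⟨k₁, (Ideal.mem_torsionOf_iff _ _).2 hk₁⟩
  have hbJ : b ∈ J.radical := ⟨k₂, (Ideal.mem_torsionOf_iff _ _).2 hk₂⟩
  have hgJ : g ^ N ∈ J.radical := by
    rw [hN]
    exact J.radical.add_mem (J.radical.mul_mem_left c haJ) (J.radical.mul_mem_left d hbJ)
  obtain ⟨m, hm⟩ := hgJ
  rw [← pow_mul] at hm
  exact eq_zero_of_pow_smul_eq_zero M g U hc hqs hUg n x (N * m) ((Ideal.mem_torsionOf_iff _ _).1 hm)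

end Groth.Agent.Lead.Coh
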