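import Mathlib
import Groth.Prelude.Def_Coh
import Groth.Prelude.Def_CohTop
import Groth.Prelude.Def_ega3
import Groth.Agent.Lead.Coh.LocModule

/-!
Lead library (Zariski cohomology project): bridges between `Coh.HH`, `Coh.HHon` and the cohomology
groups `EM M W q` of opens, and the localization theorem `H^q(X_f, M) = H^q(X, M)_f` for
quasi-compact quasi-separated `X`.
-/

set_option autoImplicit false
open CategoryTheory Opposite Limits TopologicalSpace AlgebraicGeometry Abelian
universe u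
namespace Groth.Agent.Lead.Coh

variable {X : Scheme.{u}} (M : X.Modules)

/-- `H^q(X, M)` is `H^q` of the top open, linearly over the global functions -/
theorem nonempty_linearEquiv_HH_EM (q : ℕ) :
    Nonempty (Coh.HH X M q ≃ₗ[Γ(X, ⊤)] EM M ⊤ q) := by
  obtain ⟨e⟩ := exists_iso_constant (J := Opens.grothendieckTopology X) (T₀ := (⊤ : X.Opens))
    isTerminalTop
  refine ⟨{ toFun := fun y => (Ext.mk₀ e.hom).comp y (zero_add q)
            invFun := fun x => (Ext.mk₀ e.inv).comp x (zero_add q)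
            left_inv := fun y => ?_
            right_inv := fun x => ?_
            map_add' := fun x y => Ext.comp_add _ _ _ _
            map_smul' := fun r y => ?_ }⟩
  · exact (Ext.comp_assoc (Ext.mk₀ e.hom) y (Ext.mk₀ (Coh.smulAb M r)) (zero_add q) (add_zero q)
      (by omega)).symm
  · change (Ext.mk₀ e.inv).comp ((Ext.mk₀ e.hom).comp y (zero_add q)) (zero_add q) = y
    rw [Ext.mk₀_comp_mk₀_assoc, e.inv_hom_id, Ext.mk₀_id_comp]
  · change (Ext.mk₀ e.hom).comp ((Ext.mk₀ e.inv).comp x (zero_add q)) (zero_add q) = x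
    rw [Ext.mk₀_comp_mk₀_assoc, e.hom_inv_id, Ext.mk₀_id_comp]

/-- `H^q(U, M|_U)` computed on the open subscheme `U` is `H^q` of the open `U` -/
theorem nonempty_addEquiv_HHon_EM (U : X.Opens) (q : ℕ) :
    Nonempty (Coh.HHon X M U q ≃+ EM M U q) := by
  obtain ⟨e⟩ := Groth.Agent.H30.RestrOpen.HU_equiv_H_restr (X := X.carrier) U (Coh.toAb M) q
  exact ⟨e.symm⟩

theorem nonempty_addEquiv_EM_of_eq {U V : X.Opens} (h : U = V) (q : ℕ) :
    Nonempty (EM M U q ≃+ EM M V q) := by
  subst h
  exact ⟨AddEquiv.refl _⟩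

/-- **Localization of cohomology on a basic open** of a quasi-compact quasi-separated scheme. -/
theorem nonempty_addEquiv_HHon_basicOpen [CompactSpace X] [QuasiSeparatedSpace X]
    [M.IsQuasicoherent] (f : Γ(X, ⊤)) (q : ℕ) :
    Nonempty (Coh.HHon X M (X.basicOpen f) q ≃+
      LocalizedModule (Submonoid.powers f) (Coh.HH X M q)) := by
  have hc : IsCompact ((⊤ : X.Opens) : Set X) := isCompact_univ
  have hqs : IsQuasiSeparated ((⊤ : X.Opens) : Set X) :=
    IsQuasiSeparated.of_quasiSeparatedSpace _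
  haveI := isLocalizedModule_resLin M f ⊤ hc hqs q
  obtain ⟨e₂⟩ := nonempty_linearEquiv_HH_EM M q
  haveI := IsLocalizedModule.of_linearEquiv_right (Submonoid.powers f)
    (resLin M (inf_le_left : ⊤ ⊓ X.basicOpen f ≤ ⊤) q) e₂
  let iso := IsLocalizedModule.iso (Submonoid.powers f)
    ((resLin M (inf_le_left : ⊤ ⊓ X.basicOpen f ≤ ⊤) q).comp e₂.toLinearMap)
  obtain ⟨e₁⟩ := nonempty_addEquiv_HHon_EM M (X.basicOpen f) q
  obtain ⟨e₃⟩ := nonempty_addEquiv_EM_of_eq M (top_inf_eq (X.basicOpen f)) q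
  exact ⟨(iso.toAddEquiv.trans (e₃.trans e₁.symm)).symm⟩

end Groth.Agent.Lead.Coh
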