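import Mathlib
import Groth.Prelude.Def_Coh
import Groth.Agent.H12.PowKill
import Groth.Agent.H49.SectionsExact

/-!
Lead library: the long exact cohomology sequence of a short exact sequence of `O_X`-modules with
`Γ(X, O_X)`-linear (hence `A`-linear) maps, and two-of-three for finiteness of cohomology.
-/

set_option autoImplicit false
set_option linter.style.haveILetI false
universe u
open CategoryTheory CategoryTheory.Limits AlgebraicGeometry Opposite TopologicalSpace Abelian

namespace Groth.Agent.Lead.FiniteLES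

variable {X : Scheme.{u}}

/-- the scalar action on cohomology, spelled out -/
theorem smul_def (M : X.Modules) (n : ℕ) (r : Coh.Γtop X) (x : Coh.HH X M n) :
    r • x = Sheaf.H.map (Coh.smulAb M r) n x := rfl

/-- the map induced on cohomology by a morphism of modules, as a linear map -/
noncomputable def HHmap {M N : X.Modules} (φ : M ⟶ N) (n : ℕ) :
    Coh.HH X M n →ₗ[Coh.Γtop X] Coh.HH X N n where
  toFun := Sheaf.H.map ((SheafOfModules.toSheaf X.ringCatSheaf).map φ) n
  map_add' := map_add _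
  map_smul' r x := by
    change Sheaf.H.map ((SheafOfModules.toSheaf X.ringCatSheaf).map φ) n
        (Sheaf.H.map (Coh.smulAb M r) n x) =
      Sheaf.H.map (Coh.smulAb N r) n
        (Sheaf.H.map ((SheafOfModules.toSheaf X.ringCatSheaf).map φ) n x)
    rw [← Sheaf.H.map_comp_apply, ← Sheaf.H.map_comp_apply,
      Groth.Agent.H12.PowKill.smulAb_naturality]

theorem HHmap_apply {M N : X.Modules} (φ : M ⟶ N) (n : ℕ) (x : Coh.HH X M n) :
    HHmap φ n x = Sheaf.H.map ((SheafOfModules.toSheaf X.ringCatSheaf).map φ) n x := rfl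

theorem HHmap_comp {M N P : X.Modules} (φ : M ⟶ N) (ψ : N ⟶ P) (n : ℕ) :
    HHmap (φ ≫ ψ) n = (HHmap ψ n).comp (HHmap φ n) := by
  ext x
  have h : (SheafOfModules.toSheaf X.ringCatSheaf).map (φ ≫ ψ) =
      (SheafOfModules.toSheaf X.ringCatSheaf).map φ ≫
        (SheafOfModules.toSheaf X.ringCatSheaf).map ψ := CategoryTheory.Functor.map_comp _ _ _
  exact (congrArg (fun f => Sheaf.H.map f n x) h).trans (Sheaf.H.map_comp_apply _ _ x)

theorem HHmap_id (M : X.Modules) (n : ℕ) : HHmap (𝟙 M) n = LinearMap.id := by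
  ext x
  have h : (SheafOfModules.toSheaf X.ringCatSheaf).map (𝟙 M) = 𝟙 _ := CategoryTheory.Functor.map_id _ _
  exact (congrArg (fun f => Sheaf.H.map f n x) h).trans (Sheaf.H.map_id_apply x)

section LES

variable (E : ShortComplex X.Modules) (hE : E.ShortExact)

/-- the connecting homomorphism, as a linear map -/
noncomputable def HHδ (n : ℕ) : Coh.HH X E.X₃ n →ₗ[Coh.Γtop X] Coh.HH X E.X₁ (n + 1) where
  toFun x := (show Ext _ (Coh.toAb E.X₃) n from x).comp
    (Groth.Agent.H49.SectionsExact.shortExact_toSheaf E hE).extClass rfl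
  map_add' x y := Ext.add_comp _ _ _ _
  map_smul' r x := by
    have hS := Groth.Agent.H49.SectionsExact.shortExact_toSheaf E hE
    have h2 := ShortComplex.ShortExact.extClass_naturality hS hS
      (Groth.Agent.H12.PowKill.smulMap E r)
    have h2' : (Ext.mk₀ (Coh.smulAb E.X₃ r)).comp hS.extClass (zero_add 1) =
        hS.extClass.comp (Ext.mk₀ (Coh.smulAb E.X₁ r)) (add_zero 1) := h2.symm
    let x₃ : Ext ((constantSheaf (Opens.grothendieckTopology X) AddCommGrpCat.{u}).obj
      (AddCommGrpCat.of (ULift ℤ))) (Coh.toAb E.X₃) n := x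
    have h3 : (x₃.comp (Ext.mk₀ (Coh.smulAb E.X₃ r)) (add_zero n)).comp hS.extClass
        (rfl : n + 1 = n + 1) = x₃.comp ((Ext.mk₀ (Coh.smulAb E.X₃ r)).comp hS.extClass
          (zero_add 1)) (rfl : n + 1 = n + 1) :=
      Ext.comp_assoc x₃ (Ext.mk₀ (Coh.smulAb E.X₃ r)) hS.extClass (add_zero n)
        (zero_add 1) (by omega)
    have h4 : x₃.comp (hS.extClass.comp (Ext.mk₀ (Coh.smulAb E.X₁ r)) (add_zero 1))
        (rfl : n + 1 = n + 1) = (x₃.comp hS.extClass (rfl : n + 1 = n + 1)).comp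
          (Ext.mk₀ (Coh.smulAb E.X₁ r)) (add_zero (n + 1)) :=
      (Ext.comp_assoc x₃ hS.extClass (Ext.mk₀ (Coh.smulAb E.X₁ r)) rfl
        (add_zero 1) (by omega)).symm
    change (x₃.comp (Ext.mk₀ (Coh.smulAb E.X₃ r)) (add_zero n)).comp hS.extClass rfl =
      (x₃.comp hS.extClass rfl).comp (Ext.mk₀ (Coh.smulAb E.X₁ r)) (add_zero (n + 1))
    rw [h3, h2']
    exact h4

theorem HHδ_apply (n : ℕ) (x : Coh.HH X E.X₃ n) :
    HHδ E hE n x = (show Ext _ (Coh.toAb E.X₃) n from x).comp
      (Groth.Agent.H49.SectionsExact.shortExact_toSheaf E hE).extClass rfl := rfl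

include hE in
theorem ker_HHmap_g (n : ℕ) :
    LinearMap.ker (HHmap E.g n) = LinearMap.range (HHmap E.f n) := by
  have hS := Groth.Agent.H49.SectionsExact.shortExact_toSheaf E hE
  ext x
  constructor
  · intro hx
    obtain ⟨x₁, hx₁⟩ := Ext.covariant_sequence_exact₂ _ hS
      (show Ext _ (E.map (Groth.Agent.H49.SectionsExact.T X)).X₂ n from x) hx
    exact ⟨x₁, hx₁⟩
  · rintro ⟨x₁, rfl⟩
    change HHmap E.g n (HHmap E.f n x₁) = 0
    rw [← LinearMap.comp_apply, ← HHmap_comp, E.zero]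
    have h0 : (SheafOfModules.toSheaf X.ringCatSheaf).map (0 : E.X₁ ⟶ E.X₃) = 0 :=
      Functor.map_zero _ _ _
    change Sheaf.H.map ((SheafOfModules.toSheaf X.ringCatSheaf).map (0 : E.X₁ ⟶ E.X₃)) n x₁ = 0
    rw [h0]
    change x₁.comp (Ext.mk₀ 0) (add_zero n) = 0
    rw [Ext.mk₀_zero, Ext.comp_zero]

theorem ker_HHδ (n : ℕ) :
    LinearMap.ker (HHδ E hE n) = LinearMap.range (HHmap E.g n) := by
  have hS := Groth.Agent.H49.SectionsExact.shortExact_toSheaf E hE
  ext x
  constructor
  · intro hx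
    obtain ⟨x₂, hx₂⟩ := Ext.covariant_sequence_exact₃ _ hS
      (show Ext _ (E.map (Groth.Agent.H49.SectionsExact.T X)).X₃ n from x) rfl hx
    exact ⟨x₂, hx₂⟩
  · rintro ⟨x₂, rfl⟩
    change ((show Ext _ (E.map (Groth.Agent.H49.SectionsExact.T X)).X₂ n from x₂).comp
      (Ext.mk₀ (E.map (Groth.Agent.H49.SectionsExact.T X)).g) (add_zero n)).comp hS.extClass rfl = 0
    rw [Ext.comp_assoc _ _ _ (add_zero n) (zero_add 1) (by omega),
      ShortComplex.ShortExact.comp_extClass, Ext.comp_zero]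

theorem ker_HHmap_f_succ (n : ℕ) :
    LinearMap.ker (HHmap E.f (n + 1)) = LinearMap.range (HHδ E hE n) := by
  have hS := Groth.Agent.H49.SectionsExact.shortExact_toSheaf E hE
  ext x
  constructor
  · intro hx
    obtain ⟨x₃, hx₃⟩ := Ext.covariant_sequence_exact₁ _ hS
      (show Ext _ (E.map (Groth.Agent.H49.SectionsExact.T X)).X₁ (n + 1) from x) hx rfl
    exact ⟨x₃, hx₃⟩
  · rintro ⟨x₃, rfl⟩
    change ((show Ext _ (E.map (Groth.Agent.H49.SectionsExact.T X)).X₃ n from x₃).comp
      hS.extClass rfl).comp (Ext.mk₀ (E.map (Groth.Agent.H49.SectionsExact.T X)).f)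
        (add_zero (n + 1)) = 0
    rw [Ext.comp_assoc _ _ _ rfl (add_zero 1) (by omega),
      ShortComplex.ShortExact.extClass_comp, Ext.comp_zero]

include hE in
theorem HHmap_f_zero_injective : Function.Injective (HHmap E.f 0) := by
  have hS := Groth.Agent.H49.SectionsExact.shortExact_toSheaf E hE
  haveI := hS.mono_f
  exact Ext.postcomp_mk₀_injective_of_mono _ (E.map (Groth.Agent.H49.SectionsExact.T X)).f

end LES

section OverA

variable (A : Type u) [CommRing A] [X.Over (Spec (CommRingCat.of A))]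

/-- a `Γ(X, O_X)`-linear map between cohomology groups is `A`-linear -/
noncomputable def toA {M N : X.Modules} {m n : ℕ}
    (f : Coh.HH X M m →ₗ[Coh.Γtop X] Coh.HH X N n) : Coh.HH X M m →ₗ[A] Coh.HH X N n where
  toFun := f
  map_add' := f.map_add
  map_smul' a x := f.map_smul (Coh.toGlobal (X ↘ Spec (CommRingCat.of A)) a) x

theorem toA_apply {M N : X.Modules} {m n : ℕ}
    (f : Coh.HH X M m →ₗ[Coh.Γtop X] Coh.HH X N n) (x : Coh.HH X M m) : toA A f x = f x := rfl

theorem ker_toA {M N : X.Modules} {m n : ℕ}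
    (f : Coh.HH X M m →ₗ[Coh.Γtop X] Coh.HH X N n) (x : Coh.HH X M m) :
    x ∈ LinearMap.ker (toA A f) ↔ x ∈ LinearMap.ker f := Iff.rfl

theorem range_toA {M N : X.Modules} {m n : ℕ}
    (f : Coh.HH X M m →ₗ[Coh.Γtop X] Coh.HH X N n) (y : Coh.HH X N n) :
    y ∈ LinearMap.range (toA A f) ↔ y ∈ LinearMap.range f := Iff.rfl

variable [IsNoetherianRing A] (E : ShortComplex X.Modules) (hE : E.ShortExact)

include hE in
theorem finite_X₂ (n : ℕ) (h₁ : Module.Finite A (Coh.HH X E.X₁ n))
    (h₃ : Module.Finite A (Coh.HH X E.X₃ n)) : Module.Finite A (Coh.HH X E.X₂ n) := by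
  haveI : IsNoetherian A (Coh.HH X E.X₁ n) := isNoetherian_of_isNoetherianRing_of_finite A _
  haveI : IsNoetherian A (Coh.HH X E.X₃ n) := isNoetherian_of_isNoetherianRing_of_finite A _
  have h : LinearMap.range (toA A (HHmap E.f n)) = LinearMap.ker (toA A (HHmap E.g n)) := by
    ext x
    rw [ker_toA, range_toA, ker_HHmap_g E hE n]
  haveI := isNoetherian_of_range_eq_ker _ _ h
  exact Module.IsNoetherian.finite A _

include hE in
theorem finite_X₃ (n : ℕ) (h₂ : Module.Finite A (Coh.HH X E.X₂ n))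
    (h₁ : Module.Finite A (Coh.HH X E.X₁ (n + 1))) : Module.Finite A (Coh.HH X E.X₃ n) := by
  haveI : IsNoetherian A (Coh.HH X E.X₂ n) := isNoetherian_of_isNoetherianRing_of_finite A _
  haveI : IsNoetherian A (Coh.HH X E.X₁ (n + 1)) :=
    isNoetherian_of_isNoetherianRing_of_finite A _
  have h : LinearMap.range (toA A (HHmap E.g n)) = LinearMap.ker (toA A (HHδ E hE n)) := by
    ext x
    rw [ker_toA, range_toA, ker_HHδ E hE n]
  haveI := isNoetherian_of_range_eq_ker _ _ h
  exact Module.IsNoetherian.finite A _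

include hE in
theorem finite_X₁_succ (n : ℕ) (h₃ : Module.Finite A (Coh.HH X E.X₃ n))
    (h₂ : Module.Finite A (Coh.HH X E.X₂ (n + 1))) :
    Module.Finite A (Coh.HH X E.X₁ (n + 1)) := by
  haveI : IsNoetherian A (Coh.HH X E.X₃ n) := isNoetherian_of_isNoetherianRing_of_finite A _
  haveI : IsNoetherian A (Coh.HH X E.X₂ (n + 1)) :=
    isNoetherian_of_isNoetherianRing_of_finite A _
  have h : LinearMap.range (toA A (HHδ E hE n)) = LinearMap.ker (toA A (HHmap E.f (n + 1))) := by
    ext x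
    rw [ker_toA, range_toA, ker_HHmap_f_succ E hE n]
  haveI := isNoetherian_of_range_eq_ker _ _ h
  exact Module.IsNoetherian.finite A _

include hE in
theorem finite_X₁_zero (h₂ : Module.Finite A (Coh.HH X E.X₂ 0)) :
    Module.Finite A (Coh.HH X E.X₁ 0) := by
  haveI : IsNoetherian A (Coh.HH X E.X₂ 0) := isNoetherian_of_isNoetherianRing_of_finite A _
  exact Module.Finite.of_injective (toA A (HHmap E.f 0)) (HHmap_f_zero_injective E hE)

include hE in
/-- two-of-three for finiteness of all cohomology groups -/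
theorem finite_two_of_three :
    ((∀ n, Module.Finite A (Coh.HH X E.X₁ n)) → (∀ n, Module.Finite A (Coh.HH X E.X₂ n)) →
      ∀ n, Module.Finite A (Coh.HH X E.X₃ n)) ∧
    ((∀ n, Module.Finite A (Coh.HH X E.X₁ n)) → (∀ n, Module.Finite A (Coh.HH X E.X₃ n)) →
      ∀ n, Module.Finite A (Coh.HH X E.X₂ n)) ∧
    ((∀ n, Module.Finite A (Coh.HH X E.X₂ n)) → (∀ n, Module.Finite A (Coh.HH X E.X₃ n)) →
      ∀ n, Module.Finite A (Coh.HH X E.X₁ n)) := by
  refine ⟨fun h1 h2 n => finite_X₃ A E hE n (h2 n) (h1 (n + 1)),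
    fun h1 h3 n => finite_X₂ A E hE n (h1 n) (h3 n), fun h2 h3 n => ?_⟩
  cases n with
  | zero => exact finite_X₁_zero A E hE (h2 0)
  | succ n => exact finite_X₁_succ A E hE n (h3 n) (h2 (n + 1))

/-- finiteness of cohomology passes to retracts -/
theorem finite_of_retract {M N : X.Modules} (i : N ⟶ M) (r : M ⟶ N) (hir : i ≫ r = 𝟙 N) (n : ℕ)
    (h : Module.Finite A (Coh.HH X M n)) : Module.Finite A (Coh.HH X N n) := by
  haveI : IsNoetherian A (Coh.HH X M n) := isNoetherian_of_isNoetherianRing_of_finite A _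
  refine Module.Finite.of_injective (toA A (HHmap i n)) ?_
  intro x y hxy
  have h1 : HHmap r n (HHmap i n x) = HHmap r n (HHmap i n y) := congrArg _ hxy
  rw [← LinearMap.comp_apply, ← LinearMap.comp_apply, ← HHmap_comp, hir, HHmap_id] at h1
  exact h1

/-- finiteness of cohomology is invariant under isomorphisms -/
theorem finite_of_iso {M N : X.Modules} (e : M ≅ N) (n : ℕ)
    (h : Module.Finite A (Coh.HH X M n)) : Module.Finite A (Coh.HH X N n) :=
  finite_of_retract A e.inv e.hom e.inv_hom_id n h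

end OverA

end Groth.Agent.Lead.FiniteLES
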