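import Groth.Agent.H49.SectionsExact
import Groth.Agent.Lead.Coh.TopIso

/-!
Lead library (Zariski cohomology project): vanishing of `H^1(X, K)` forces surjectivity on global
sections of an epimorphism of modules with kernel `K` (bridge used in Serre's affineness criterion).
-/

set_option autoImplicit false
universe u

open CategoryTheory CategoryTheory.Limits AlgebraicGeometry Opposite TopologicalSpace Abelian

namespace Groth.Agent.Lead.Coh

/-- `H^n(X, M) = 0` in the `Coh.HH` form gives vanishing in the `Ext (freeSheaf ⊤)` form. -/
theorem hVanish_top_of_subsingleton_HH (X : Scheme.{u}) (M : X.Modules) (n : ℕ)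
    (h : Subsingleton (Coh.HH X M n)) : HVanish (T := X) (Coh.toAb M) n ⊤ := by
  obtain ⟨e⟩ := nonempty_ext_freeSheaf_addEquiv_H (J := Opens.grothendieckTopology X)
    (T₀ := (⊤ : X.Opens)) isTerminalTop (Coh.toAb M) n
  intro x
  exact e.injective (Subsingleton.elim _ _)

/-- If `0 → K → F → G → 0` is a short exact sequence of `O_X`-modules and `H^1(X, K) = 0`, then
`Γ(X, F) → Γ(X, G)` is surjective. -/
theorem sections_top_surjective_of_subsingleton_HH_one {X : Scheme.{u}}
    (E : ShortComplex X.Modules) (hE : E.ShortExact)
    (h : Subsingleton (Coh.HH X E.X₁ 1)) :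
    Function.Surjective (E.g.val.app (op (⊤ : X.Opens))).hom := by
  have hS := Groth.Agent.H49.SectionsExact.shortExact_toSheaf E hE
  have hv := hVanish_top_of_subsingleton_HH X E.X₁ 1 h
  have := Groth.Agent.Lead.Cech.app_surjective hS ⊤ hv
  exact this

end Groth.Agent.Lead.Coh
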