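import Mathlib

set_option autoImplicit false
open CategoryTheory Opposite Limits TopologicalSpace
universe u
namespace Groth.Agent.Lead.Cech

variable {X : Type u} [TopologicalSpace X] {ι : Type u} (U : ι → Opens X)
  (P : (Opens X)ᵒᵖ ⥤ AddCommGrpCat.{u})

/-- the open attached to a tuple: the chosen categorical product -/
noncomputable abbrev cechOpen {n : ℕ} (i : Fin (n + 1) → ι) : Opens X := ∏ᶜ (U ∘ i)

theorem cechOpen_le {n : ℕ} (i : Fin (n + 1) → ι) (a : Fin (n + 1)) : cechOpen U i ≤ U (i a) :=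
  leOfHom (Pi.π (U ∘ i) a)

theorem le_cechOpen {n : ℕ} (i : Fin (n + 1) → ι) (V : Opens X) (h : ∀ a, V ≤ U (i a)) :
    V ≤ cechOpen U i :=
  leOfHom (Pi.lift (fun a => homOfLE (h a)))

theorem cechOpen_eq_iInf {n : ℕ} (i : Fin (n + 1) → ι) : cechOpen U i = ⨅ a, U (i a) :=
  le_antisymm (le_iInf (cechOpen_le U i)) (le_cechOpen U i _ (fun a => iInf_le _ a))

theorem cechOpen_le_face {n : ℕ} (i : Fin (n + 2) → ι) (j : Fin (n + 2)) :
    cechOpen U i ≤ cechOpen U (i ∘ j.succAbove) :=
  le_cechOpen U _ _ (fun a => cechOpen_le U i (j.succAbove a))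

/-- the cosimplicial object -/
noncomputable abbrev Y : CosimplicialObject AddCommGrpCat.{u} :=
  (FormalCoproduct.cosimplicialObjectFunctor (FormalCoproduct.mk ι U).cech).obj P

/-- Mathlib's Čech complex -/
noncomputable abbrev K : CochainComplex AddCommGrpCat.{u} ℕ := (cechComplexFunctor U).obj P

/-- component projection -/
noncomputable def proj (n : ℕ) (i : Fin (n + 1) → ι) : (K U P).X n ⟶ P.obj (op (cechOpen U i)) :=
  Pi.π (fun i : Fin (n + 1) → ι => P.obj (op (cechOpen U i))) i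

/-- component projection, cosimplicial form -/
noncomputable def projY (n : ℕ) (i : Fin (n + 1) → ι) :
    (Y U P).obj (SimplexCategory.mk n) ⟶ P.obj (op (cechOpen U i)) :=
  Pi.π (fun i : Fin (n + 1) → ι => P.obj (op (cechOpen U i))) i

theorem δ_projY (n : ℕ) (j : Fin (n + 2)) (i : Fin (n + 2) → ι) :
    (Y U P).δ j ≫ projY U P (n + 1) i =
      projY U P n (i ∘ j.succAbove) ≫ P.map (homOfLE (cechOpen_le_face U i j)).op := by
  change Pi.lift _ ≫ Pi.π _ i = _
  refine (Pi.lift_π _ i).trans ?_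
  rfl

theorem d_eq (n : ℕ) : (K U P).d n (n + 1) =
    ∑ j : Fin (n + 2), (-1 : ℤ) ^ (j : ℕ) • (Y U P).δ j :=
  CochainComplex.of_d (fun n => (Y U P).obj (SimplexCategory.mk n))
    (AlgebraicTopology.AlternatingCofaceMapComplex.objD (Y U P)) n

theorem d_proj (n : ℕ) (i : Fin (n + 2) → ι) :
    (K U P).d n (n + 1) ≫ proj U P (n + 1) i =
      ∑ j : Fin (n + 2), (-1 : ℤ) ^ (j : ℕ) •
        (proj U P n (i ∘ j.succAbove) ≫ P.map (homOfLE (cechOpen_le_face U i j)).op) := by
  rw [d_eq]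
  change (∑ j : Fin (n + 2), (-1 : ℤ) ^ (j : ℕ) • (Y U P).δ j) ≫ projY U P (n + 1) i = _
  rw [Preadditive.sum_comp]
  refine Finset.sum_congr rfl (fun j _ => ?_)
  rw [Preadditive.zsmul_comp, δ_projY]
  rfl



/-! ### element-level access -/

theorem sum_hom_apply {A B : AddCommGrpCat.{u}} {J : Type*} (s : Finset J) (f : J → (A ⟶ B)) (x : A) :
    (∑ j ∈ s, f j) x = ∑ j ∈ s, (f j) x := by
  have h : (∑ j ∈ s, f j).hom = ∑ j ∈ s, (f j).hom :=
    map_sum (AddCommGrpCat.homAddEquiv (M := A) (N := B)) f s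
  change (∑ j ∈ s, f j).hom x = _
  rw [h, AddMonoidHom.finsetSum_apply]

theorem zsmul_hom_apply {A B : AddCommGrpCat.{u}} (m : ℤ) (f : A ⟶ B) (x : A) :
    (m • f) x = m • f x := rfl

/-- the family of components of a Čech cochain -/
noncomputable def coords (n : ℕ) :
    ((K U P).X n : Type u) ≃ ∀ i : Fin (n + 1) → ι, (P.obj (op (cechOpen U i)) : Type u) :=
  Concrete.productEquiv (fun i : Fin (n + 1) → ι => P.obj (op (cechOpen U i)))

theorem coords_apply (n : ℕ) (x : (K U P).X n) (i : Fin (n + 1) → ι) :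
    coords U P n x i = proj U P n i x :=
  Concrete.productEquiv_apply_apply _ x i

theorem proj_coords_symm (n : ℕ) (c : ∀ i : Fin (n + 1) → ι, (P.obj (op (cechOpen U i)) : Type u))
    (i : Fin (n + 1) → ι) : proj U P n i ((coords U P n).symm c) = c i :=
  Concrete.productEquiv_symm_apply_π _ c i

theorem ext_elem {n : ℕ} {x y : (K U P).X n}
    (h : ∀ i : Fin (n + 1) → ι, proj U P n i x = proj U P n i y) : x = y := by
  apply (coords U P n).injective
  funext i
  rw [coords_apply, coords_apply, h]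

theorem d_apply (n : ℕ) (x : (K U P).X n) (i : Fin (n + 2) → ι) :
    proj U P (n + 1) i ((K U P).d n (n + 1) x) =
      ∑ j : Fin (n + 2), (-1 : ℤ) ^ (j : ℕ) •
        P.map (homOfLE (cechOpen_le_face U i j)).op (proj U P n (i ∘ j.succAbove) x) := by
  have h := ConcreteCategory.congr_hom (d_proj U P n i) x
  rw [ConcreteCategory.comp_apply] at h
  rw [h, sum_hom_apply]
  refine Finset.sum_congr rfl (fun j _ => ?_)
  rw [zsmul_hom_apply, ConcreteCategory.comp_apply]

end Groth.Agent.Lead.Cech
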