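import Mathlib
import Groth.Agent.Lead.Coh.CechExplicit

/-!
Lead library (Čech project), part 2: the free presheaf resolution `A_p(V) = ℤ[{σ | V ≤ U_σ}]`,
its contracting homotopy, and the consequence that the Čech complex of an injective presheaf is
exact in positive degrees.
-/

set_option autoImplicit false
open CategoryTheory Opposite Limits TopologicalSpace
universe u
namespace Groth.Agent.Lead.Cech

variable {X : Type u} [TopologicalSpace X] {ι : Type u} (U : ι → Opens X)

/-- tuples `σ` with `V ≤ U (σ a)` for all `a` -/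
def Idx (p : ℕ) (V : Opens X) : Type u := {σ : Fin (p + 1) → ι // ∀ a, V ≤ U (σ a)}

variable {U}

/-- restriction of index tuples to a smaller open -/
def Idx.res {p : ℕ} {V W : Opens X} (h : W ≤ V) (σ : Idx U p V) : Idx U p W :=
  ⟨σ.1, fun a => h.trans (σ.2 a)⟩

/-- faces -/
def Idx.face {p : ℕ} {V : Opens X} (j : Fin (p + 2)) (σ : Idx U (p + 1) V) : Idx U p V :=
  ⟨σ.1 ∘ j.succAbove, fun _ => σ.2 _⟩

/-- cone on a fixed index -/
def Idx.cone {p : ℕ} {V : Opens X} (i₀ : ι) (h₀ : V ≤ U i₀) (σ : Idx U p V) : Idx U (p + 1) V :=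
  ⟨Fin.cons i₀ σ.1, fun a => by
    refine Fin.cases ?_ (fun b => ?_) a
    · simpa using h₀
    · simpa using σ.2 b⟩

theorem Idx.face_zero_cone {p : ℕ} {V : Opens X} (i₀ : ι) (h₀ : V ≤ U i₀) (σ : Idx U (p + 1) V) :
    Idx.face 0 (Idx.cone i₀ h₀ σ) = σ := by
  apply Subtype.ext
  funext a
  simp [Idx.face, Idx.cone]

theorem Idx.face_succ_cone {p : ℕ} {V : Opens X} (i₀ : ι) (h₀ : V ≤ U i₀) (j : Fin (p + 2))
    (σ : Idx U (p + 1) V) :
    Idx.face j.succ (Idx.cone i₀ h₀ σ) = Idx.cone i₀ h₀ (Idx.face j σ) := by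
  apply Subtype.ext
  funext a
  refine Fin.cases ?_ (fun b => ?_) a
  · simp [Idx.face, Idx.cone]
  · simp [Idx.face, Idx.cone, Fin.removeNth]

variable (U)

/-- the free presheaf `V ↦ ℤ[Idx U p V]` -/
noncomputable def A (p : ℕ) : (Opens X)ᵒᵖ ⥤ AddCommGrpCat.{u} where
  obj V := AddCommGrpCat.of (FreeAbelianGroup (Idx U p V.unop))
  map {V W} f := AddCommGrpCat.ofHom (FreeAbelianGroup.map (Idx.res (leOfHom f.unop)))
  map_id V := by
    apply AddCommGrpCat.hom_ext
    apply FreeAbelianGroup.lift_ext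
    intro σ
    rfl
  map_comp f g := by
    apply AddCommGrpCat.hom_ext
    apply FreeAbelianGroup.lift_ext
    intro σ
    rfl

/-- the boundary on free groups -/
noncomputable def bdry (p : ℕ) (V : Opens X) :
    FreeAbelianGroup (Idx U (p + 1) V) →+ FreeAbelianGroup (Idx U p V) :=
  ∑ j : Fin (p + 2), (-1 : ℤ) ^ (j : ℕ) • FreeAbelianGroup.map (Idx.face j)

theorem bdry_of (p : ℕ) (V : Opens X) (σ : Idx U (p + 1) V) :
    bdry U p V (FreeAbelianGroup.of σ) =
      ∑ j : Fin (p + 2), (-1 : ℤ) ^ (j : ℕ) • FreeAbelianGroup.of (Idx.face j σ) := by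
  simp [bdry, AddMonoidHom.finsetSum_apply]

/-- the boundary as a morphism of presheaves -/
noncomputable def bd (p : ℕ) : A U (p + 1) ⟶ A U p where
  app V := AddCommGrpCat.ofHom (bdry U p V.unop)
  naturality V W f := by
    apply AddCommGrpCat.hom_ext
    apply FreeAbelianGroup.lift_ext
    intro σ
    change bdry U p W.unop (FreeAbelianGroup.map (Idx.res (leOfHom f.unop)) (FreeAbelianGroup.of σ)) =
      FreeAbelianGroup.map (Idx.res (leOfHom f.unop)) (bdry U p V.unop (FreeAbelianGroup.of σ))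
    rw [FreeAbelianGroup.map_of_apply, bdry_of, bdry_of, map_sum]
    refine Finset.sum_congr rfl (fun j _ => ?_)
    rw [map_zsmul, FreeAbelianGroup.map_of_apply]
    rfl

theorem bdry_cone (p : ℕ) (V : Opens X) (i₀ : ι) (h₀ : V ≤ U i₀)
    (x : FreeAbelianGroup (Idx U (p + 1) V)) :
    bdry U (p + 1) V (FreeAbelianGroup.map (Idx.cone i₀ h₀) x) +
      FreeAbelianGroup.map (Idx.cone i₀ h₀) (bdry U p V x) = x := by
  have key : ((bdry U (p + 1) V).comp (FreeAbelianGroup.map (Idx.cone i₀ h₀)) +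
      (FreeAbelianGroup.map (Idx.cone i₀ h₀)).comp (bdry U p V)) = AddMonoidHom.id _ := by
    apply FreeAbelianGroup.lift_ext
    intro σ
    simp only [AddMonoidHom.add_apply, AddMonoidHom.comp_apply, AddMonoidHom.id_apply,
      FreeAbelianGroup.map_of_apply]
    rw [bdry_of, bdry_of, Fin.sum_univ_succ, map_sum]
    simp only [Fin.val_zero, pow_zero, one_smul, Idx.face_zero_cone, Fin.val_succ, pow_succ,
      Idx.face_succ_cone, map_zsmul, FreeAbelianGroup.map_of_apply]
    rw [add_assoc, ← Finset.sum_add_distrib]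
    have : ∀ j : Fin (p + 2), ((-1 : ℤ) ^ (j : ℕ) * -1) •
        FreeAbelianGroup.of (Idx.cone i₀ h₀ (Idx.face j σ)) +
        (-1 : ℤ) ^ (j : ℕ) • FreeAbelianGroup.of (Idx.cone i₀ h₀ (Idx.face j σ)) = 0 := by
      intro j
      rw [← add_smul]
      simp
    rw [Finset.sum_eq_zero (fun j _ => this j), add_zero]
  exact DFunLike.congr_fun key x

theorem eq_zero_of_isEmpty {α : Type*} [IsEmpty α] (y : FreeAbelianGroup α) : y = 0 := by
  induction y using FreeAbelianGroup.induction_on with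
  | zero => rfl
  | of x => exact isEmptyElim x
  | neg x _ => exact isEmptyElim x
  | add x y hx hy => rw [hx, hy, add_zero]

theorem exists_bdry_eq (p : ℕ) (V : Opens X) (y : FreeAbelianGroup (Idx U (p + 1) V))
    (hy : bdry U p V y = 0) : ∃ z, bdry U (p + 1) V z = y := by
  by_cases h : ∃ i₀, V ≤ U i₀
  · obtain ⟨i₀, h₀⟩ := h
    refine ⟨FreeAbelianGroup.map (Idx.cone i₀ h₀) y, ?_⟩
    have := bdry_cone U p V i₀ h₀ y
    rwa [hy, map_zero, add_zero] at this
  · have : IsEmpty (Idx U (p + 1) V) := ⟨fun σ => h ⟨σ.1 0, σ.2 0⟩⟩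
    exact ⟨0, by rw [map_zero, eq_zero_of_isEmpty y]⟩

variable (P : (Opens X)ᵒᵖ ⥤ AddCommGrpCat.{u})

/-- a family of sections on the intersections defines a morphism from the free presheaf -/
noncomputable def mkHom (p : ℕ) (c : ∀ σ : Fin (p + 1) → ι, (P.obj (op (cechOpen U σ)) : Type u)) :
    A U p ⟶ P where
  app V := AddCommGrpCat.ofHom (FreeAbelianGroup.lift (fun σ : Idx U p V.unop =>
    P.map (homOfLE (le_cechOpen U σ.1 V.unop σ.2)).op (c σ.1)))
  naturality V W f := by
    apply AddCommGrpCat.hom_ext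
    apply FreeAbelianGroup.lift_ext
    intro σ
    change FreeAbelianGroup.lift _ (FreeAbelianGroup.map (Idx.res (leOfHom f.unop))
      (FreeAbelianGroup.of σ)) = P.map f (FreeAbelianGroup.lift _ (FreeAbelianGroup.of σ))
    rw [FreeAbelianGroup.map_of_apply, FreeAbelianGroup.lift_apply_of,
      FreeAbelianGroup.lift_apply_of, ← ConcreteCategory.comp_apply, ← P.map_comp]
    rfl

omit U in
theorem map_map_apply {V₁ V₂ V₃ : Opens X} (h₁ : V₂ ≤ V₁) (h₂ : V₃ ≤ V₂)
    (x : (P.obj (op V₁) : Type u)) :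
    P.map (homOfLE h₂).op (P.map (homOfLE h₁).op x) = P.map (homOfLE (h₂.trans h₁)).op x := by
  rw [← ConcreteCategory.comp_apply, ← P.map_comp]
  rfl

omit U in
theorem map_self_apply {V : Opens X} (h : V ≤ V) (x : (P.obj (op V) : Type u)) :
    P.map (homOfLE h).op x = x := by
  have : (homOfLE h).op = 𝟙 (op V) := Subsingleton.elim _ _
  rw [this, P.map_id]
  rfl

/-- evaluation of a presheaf morphism on the free group, with the honest type -/
noncomputable def homAt {p : ℕ} (ψ : A U p ⟶ P) (V : Opens X) :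
    FreeAbelianGroup (Idx U p V) →+ (P.obj (op V) : Type u) := (ψ.app (op V)).hom

theorem mkHom_of (p : ℕ) (c : ∀ σ : Fin (p + 1) → ι, (P.obj (op (cechOpen U σ)) : Type u))
    (V : Opens X) (σ : Idx U p V) :
    homAt U P (mkHom U P p c) V (FreeAbelianGroup.of σ) =
      P.map (homOfLE (le_cechOpen U σ.1 V σ.2)).op (c σ.1) :=
  FreeAbelianGroup.lift_apply_of _ σ

/-- the tautological generator over `cechOpen U σ` -/
noncomputable def gen (p : ℕ) (σ : Fin (p + 1) → ι) : Idx U p (cechOpen U σ) :=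
  ⟨σ, cechOpen_le U σ⟩

theorem mkHom_bdry_eq_zero (p : ℕ) (c : (K U P).X (p + 1))
    (hc : (K U P).d (p + 1) (p + 2) c = 0) (V : Opens X)
    (w : FreeAbelianGroup (Idx U (p + 2) V)) :
    homAt U P (mkHom U P (p + 1) (coords U P (p + 1) c)) V (bdry U (p + 1) V w) = 0 := by
  have key : ((homAt U P (mkHom U P (p + 1) (coords U P (p + 1) c)) V).comp
      (bdry U (p + 1) V)) = 0 := by
    apply FreeAbelianGroup.lift_ext
    intro τ
    rw [AddMonoidHom.comp_apply, bdry_of, map_sum, AddMonoidHom.zero_apply]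
    have h0 : proj U P (p + 2) τ.1 ((K U P).d (p + 1) (p + 2) c) = 0 := by
      rw [hc, map_zero]
    rw [d_apply] at h0
    have h1 := congrArg (P.map (homOfLE (le_cechOpen U τ.1 V τ.2)).op) h0
    rw [map_sum, map_zero] at h1
    rw [← h1]
    refine Finset.sum_congr rfl (fun j _ => ?_)
    rw [map_zsmul, map_zsmul]
    congr 1
    rw [mkHom_of, coords_apply]
    exact (map_map_apply P _ _ _).symm
  exact DFunLike.congr_fun key w

theorem exists_d_eq_of_injective [Injective P] (p : ℕ) (c : (K U P).X (p + 1))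
    (hc : (K U P).d (p + 1) (p + 2) c = 0) :
    ∃ b : (K U P).X p, (K U P).d p (p + 1) b = c := by
  let φ := mkHom U P (p + 1) (coords U P (p + 1) c)
  have hφ : kernel.ι (bd U p) ≫ φ = 0 := by
    ext V y
    have hy : bdry U p V.unop ((kernel.ι (bd U p)).app V y) = 0 := by
      have h := NatTrans.congr_app (kernel.condition (bd U p)) V
      rw [NatTrans.comp_app] at h
      have h2 := ConcreteCategory.congr_hom h y
      rw [ConcreteCategory.comp_apply] at h2
      exact h2
    obtain ⟨z, hz⟩ := exists_bdry_eq U p V.unop ((kernel.ι (bd U p)).app V y) hy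
    change homAt U P φ V.unop ((kernel.ι (bd U p)).app V y) = 0
    rw [← hz]
    exact mkHom_bdry_eq_zero U P p c hc V.unop z
  let S : ShortComplex ((Opens X)ᵒᵖ ⥤ AddCommGrpCat.{u}) :=
    ShortComplex.mk (kernel.ι (bd U p)) (bd U p) (kernel.condition _)
  have hS : S.Exact := S.exact_of_f_is_kernel (kernelIsKernel (bd U p))
  let ψ : A U p ⟶ P := hS.descToInjective φ hφ
  have hψ : bd U p ≫ ψ = φ := hS.comp_descToInjective φ hφ
  refine ⟨(coords U P p).symm
    (fun σ => homAt U P ψ (cechOpen U σ) (FreeAbelianGroup.of (gen U p σ))), ?_⟩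
  apply ext_elem
  intro σ
  rw [d_apply]
  simp only [proj_coords_symm]
  have h1 : ∀ j : Fin (p + 2), P.map (homOfLE (cechOpen_le_face U σ j)).op
      (homAt U P ψ _ (FreeAbelianGroup.of (gen U p (σ ∘ j.succAbove)))) =
      homAt U P ψ (cechOpen U σ) (FreeAbelianGroup.of (Idx.face j (gen U (p + 1) σ))) := by
    intro j
    have h := ConcreteCategory.congr_hom (ψ.naturality (homOfLE (cechOpen_le_face U σ j)).op)
      (FreeAbelianGroup.of (gen U p (σ ∘ j.succAbove)))
    rw [ConcreteCategory.comp_apply, ConcreteCategory.comp_apply] at h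
    exact h.symm
  simp only [h1]
  have h2 : homAt U P ψ (cechOpen U σ) (bdry U p (cechOpen U σ)
      (FreeAbelianGroup.of (gen U (p + 1) σ))) =
      homAt U P φ (cechOpen U σ) (FreeAbelianGroup.of (gen U (p + 1) σ)) := by
    rw [← hψ]
    rfl
  rw [bdry_of, map_sum] at h2
  simp only [map_zsmul] at h2
  rw [h2, mkHom_of, coords_apply]
  exact map_self_apply P _ _

end Groth.Agent.Lead.Cech
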