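import Mathlib
import Groth.Agent.Lead.Coh.CechFree

/-!
Lead library (Čech project), part 3: Čech complexes of sheaves on a topological space:
functoriality, injective sheaves are injective presheaves (hence Čech-acyclic), and
`Ȟ^0 = F(⋃ U_i)` naturally.
-/

set_option autoImplicit false
open CategoryTheory Opposite Limits TopologicalSpace
universe u
namespace Groth.Agent.Lead.Cech

section functoriality

variable {X : Type u} [TopologicalSpace X] {ι : Type u} (U : ι → Opens X)
  {P Q : (Opens X)ᵒᵖ ⥤ AddCommGrpCat.{u}} (φ : P ⟶ Q)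

theorem map_proj (n : ℕ) (i : Fin (n + 1) → ι) :
    ((cechComplexFunctor U).map φ).f n ≫ proj U Q n i =
      proj U P n i ≫ φ.app (op (cechOpen U i)) := by
  change Limits.Pi.map (f := fun i : Fin (n + 1) → ι => P.obj (op (cechOpen U i)))
    (g := fun i : Fin (n + 1) → ι => Q.obj (op (cechOpen U i)))
    (fun i => φ.app (op (cechOpen U i))) ≫ Limits.Pi.π _ i = _
  exact Limits.Pi.map_π _ i

theorem map_apply (n : ℕ) (x : (K U P).X n) (i : Fin (n + 1) → ι) :
    proj U Q n i (((cechComplexFunctor U).map φ).f n x) =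
      φ.app (op (cechOpen U i)) (proj U P n i x) := by
  have h := ConcreteCategory.congr_hom (map_proj U φ n i) x
  rwa [ConcreteCategory.comp_apply, ConcreteCategory.comp_apply] at h

end functoriality

variable {X : TopCat.{u}} {ι : Type u} (U : ι → Opens X)

theorem injective_obj_of_injective (I : Sheaf (Opens.grothendieckTopology X) AddCommGrpCat.{u})
    [Injective I] : Injective I.obj :=
  Injective.injective_of_adjoint (sheafificationAdjunction (Opens.grothendieckTopology X)
    AddCommGrpCat.{u}) I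

/-- the Čech complex of an injective sheaf is exact in positive degrees (element form) -/
theorem exists_d_eq_of_injective_sheaf (I : Sheaf (Opens.grothendieckTopology X) AddCommGrpCat.{u})
    [Injective I] (p : ℕ) (c : (K U I.obj).X (p + 1))
    (hc : (K U I.obj).d (p + 1) (p + 2) c = 0) :
    ∃ b : (K U I.obj).X p, (K U I.obj).d p (p + 1) b = c := by
  haveI := injective_obj_of_injective I
  exact exists_d_eq_of_injective U I.obj p c hc

variable (F : Sheaf (Opens.grothendieckTopology X) AddCommGrpCat.{u})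

theorem cechOpen_le_iSup (σ : Fin 1 → ι) : cechOpen U σ ≤ iSup U :=
  (cechOpen_le U σ 0).trans (le_iSup U (σ 0))

/-- the augmentation `F(⋃ U_i) ⟶ C^0` -/
noncomputable def aug : F.obj.obj (op (iSup U)) ⟶ (K U F.obj).X 0 :=
  Pi.lift (fun σ : Fin 1 → ι => F.obj.map (homOfLE (cechOpen_le_iSup U σ)).op)

theorem aug_proj (σ : Fin 1 → ι) :
    aug U F ≫ proj U F.obj 0 σ = F.obj.map (homOfLE (cechOpen_le_iSup U σ)).op :=
  Pi.lift_π _ σ

theorem aug_apply (s : F.obj.obj (op (iSup U))) (σ : Fin 1 → ι) :
    proj U F.obj 0 σ (aug U F s) = F.obj.map (homOfLE (cechOpen_le_iSup U σ)).op s := by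
  have h := ConcreteCategory.congr_hom (aug_proj U F σ) s
  rwa [ConcreteCategory.comp_apply] at h

theorem d_aug_apply (s : F.obj.obj (op (iSup U))) : (K U F.obj).d 0 1 (aug U F s) = 0 := by
  apply ext_elem
  intro σ
  rw [d_apply, map_zero, Fin.sum_univ_two]
  simp only [aug_apply, map_map_apply]
  simp

theorem aug_d : aug U F ≫ (K U F.obj).d 0 1 = 0 := by
  ext s
  rw [ConcreteCategory.comp_apply, d_aug_apply]
  rfl


section presheaf

variable {X : Type u} [TopologicalSpace X] {ι : Type u} (U : ι → Opens X)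
  (P : (Opens X)ᵒᵖ ⥤ AddCommGrpCat.{u})

/-- a degree-zero cocycle has components agreeing on overlaps -/
theorem cocycle_zero_eq (x : (K U P).X 0) (hx : (K U P).d 0 1 x = 0) (τ₁ τ₂ : Fin 1 → ι)
    (V : Opens X) (h₁ : V ≤ cechOpen U τ₁) (h₂ : V ≤ cechOpen U τ₂) :
    P.map (homOfLE h₁).op (proj U P 0 τ₁ x) = P.map (homOfLE h₂).op (proj U P 0 τ₂ x) := by
  have key : ∀ (τ₁ τ₂ : Fin 1 → ι) (σ : Fin 2 → ι), σ ∘ Fin.succAbove 0 = τ₂ →
      σ ∘ Fin.succAbove 1 = τ₁ → ∀ (h₁ : V ≤ cechOpen U τ₁) (h₂ : V ≤ cechOpen U τ₂),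
      P.map (homOfLE h₁).op (proj U P 0 τ₁ x) = P.map (homOfLE h₂).op (proj U P 0 τ₂ x) := by
    intro τ₁ τ₂ σ e₂ e₁
    subst e₁ e₂
    intro h₁ h₂
    have hσ : V ≤ cechOpen U σ := by
      refine le_cechOpen U σ V (fun a => ?_)
      fin_cases a
      · exact h₁.trans (cechOpen_le U _ 0)
      · exact h₂.trans (cechOpen_le U _ 0)
    have h := d_apply U P 0 x σ
    rw [hx, map_zero, Fin.sum_univ_two] at h
    simp only [Fin.val_zero, pow_zero, one_smul, Fin.val_one, pow_one, neg_smul] at h
    have h' := congrArg (P.map (homOfLE hσ).op) h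
    rw [map_zero, map_add, map_neg, map_map_apply, map_map_apply] at h'
    have h'' := (add_neg_eq_zero.mp h'.symm)
    exact h''.symm
  refine key τ₁ τ₂ ![τ₁ 0, τ₂ 0] ?_ ?_ h₁ h₂
  · funext a
    fin_cases a
    rfl
  · funext a
    fin_cases a
    rfl

end presheaf

theorem aug_injective : Function.Injective (aug U F) := by
  intro s t hst
  refine TopCat.Sheaf.eq_of_locally_eq' (F : TopCat.Sheaf AddCommGrpCat.{u} X) U (iSup U)
    (fun i => homOfLE (le_iSup U i)) le_rfl s t (fun i => ?_)
  have h := congrArg (proj U F.obj 0 (fun _ => i)) hst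
  rw [aug_apply, aug_apply] at h
  have hle : U i ≤ cechOpen U (fun _ : Fin 1 => i) := le_cechOpen U _ _ (fun _ => le_rfl)
  have h' := congrArg (F.obj.map (homOfLE hle).op) h
  rw [map_map_apply, map_map_apply] at h'
  exact h'

theorem exists_aug_eq (x : (K U F.obj).X 0) (hx : (K U F.obj).d 0 1 x = 0) :
    ∃ s, aug U F s = x := by
  have hle : ∀ i, U i ≤ cechOpen U (fun _ : Fin 1 => i) :=
    fun i => le_cechOpen U _ _ (fun _ => le_rfl)
  let sf : ∀ i, (F.obj.obj (op (U i)) : Type u) :=
    fun i => F.obj.map (homOfLE (hle i)).op (proj U F.obj 0 (fun _ => i) x)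
  have hsf : TopCat.Presheaf.IsCompatible F.obj U sf := by
    intro i j
    change F.obj.map (homOfLE inf_le_left).op _ = F.obj.map (homOfLE inf_le_right).op _
    simp only [sf]
    rw [map_map_apply, map_map_apply]
    exact cocycle_zero_eq U F.obj x hx _ _ _ _ _
  obtain ⟨s, hs, -⟩ := TopCat.Sheaf.existsUnique_gluing' (F : TopCat.Sheaf AddCommGrpCat.{u} X) U
    (iSup U) (fun i => homOfLE (le_iSup U i)) le_rfl sf hsf
  refine ⟨s, ?_⟩
  apply ext_elem
  intro σ
  rw [aug_apply]
  have h1 : F.obj.map (homOfLE (cechOpen_le_iSup U σ)).op s =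
      F.obj.map (homOfLE (cechOpen_le U σ 0)).op (sf (σ 0)) := by
    rw [← hs (σ 0)]
    exact (map_map_apply F.obj _ _ _).symm
  rw [h1]
  simp only [sf]
  rw [map_map_apply]
  have h2 := cocycle_zero_eq U F.obj x hx (fun _ => σ 0) σ (cechOpen U σ)
    ((cechOpen_le U σ 0).trans (hle (σ 0))) le_rfl
  rw [h2]
  exact map_self_apply F.obj _ _


/-- the augmentation, into cycles -/
noncomputable def augCycles : F.obj.obj (op (iSup U)) ⟶ (K U F.obj).cycles 0 :=
  (K U F.obj).liftCycles (aug U F) 1 (by simp) (aug_d U F)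

theorem augCycles_i : augCycles U F ≫ (K U F.obj).iCycles 0 = aug U F :=
  HomologicalComplex.liftCycles_i _ _ _ _ _

theorem augCycles_bijective : Function.Bijective (augCycles U F) := by
  constructor
  · intro s t hst
    apply aug_injective U F
    have h := congrArg ((K U F.obj).iCycles 0) hst
    rw [← ConcreteCategory.comp_apply, ← ConcreteCategory.comp_apply, augCycles_i] at h
    exact h
  · intro z
    have hz : (K U F.obj).d 0 1 ((K U F.obj).iCycles 0 z) = 0 := by
      rw [← ConcreteCategory.comp_apply, HomologicalComplex.iCycles_d]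
      rfl
    obtain ⟨s, hs⟩ := exists_aug_eq U F _ hz
    refine ⟨s, ?_⟩
    have hmono : Function.Injective ((K U F.obj).iCycles 0) :=
      (AddCommGrpCat.mono_iff_injective _).mp inferInstance
    apply hmono
    rw [← ConcreteCategory.comp_apply, augCycles_i, hs]

/-- the augmentation, into `Ȟ^0` -/
noncomputable def augH : F.obj.obj (op (iSup U)) ⟶ (K U F.obj).homology 0 :=
  augCycles U F ≫ (K U F.obj).homologyπ 0

theorem augH_bijective : Function.Bijective (augH U F) := by
  have h1 : Function.Bijective ((K U F.obj).homologyπ 0) :=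
    (ConcreteCategory.isIso_iff_bijective _).mp inferInstance
  have : (augH U F : _ → _) = (K U F.obj).homologyπ 0 ∘ augCycles U F := by
    funext s
    exact ConcreteCategory.comp_apply _ _ s
  rw [this]
  exact h1.comp (augCycles_bijective U F)

variable {F} in
theorem aug_naturality {G : Sheaf (Opens.grothendieckTopology X) AddCommGrpCat.{u}} (φ : F ⟶ G) :
    aug U F ≫ ((cechComplexFunctor U).map φ.hom).f 0 = φ.hom.app (op (iSup U)) ≫ aug U G := by
  apply Limits.Pi.hom_ext
  intro σ
  have h1 := map_proj U φ.hom 0 σ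
  have h2 := aug_proj U G σ
  have h3 := aug_proj U F σ
  change (aug U F ≫ ((cechComplexFunctor U).map φ.hom).f 0) ≫ proj U G.obj 0 σ =
    (φ.hom.app (op (iSup U)) ≫ aug U G) ≫ proj U G.obj 0 σ
  rw [Category.assoc, Category.assoc, h1, h2, ← Category.assoc, h3]
  exact φ.hom.naturality _

variable {F} in
theorem augH_naturality {G : Sheaf (Opens.grothendieckTopology X) AddCommGrpCat.{u}} (φ : F ⟶ G) :
    augH U F ≫ HomologicalComplex.homologyMap ((cechComplexFunctor U).map φ.hom) 0 =
      φ.hom.app (op (iSup U)) ≫ augH U G := by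
  unfold augH augCycles
  rw [Category.assoc, HomologicalComplex.homologyπ_naturality, ← Category.assoc,
    HomologicalComplex.liftCycles_comp_cyclesMap, ← Category.assoc]
  congr 1
  rw [← cancel_mono ((K U G.obj).iCycles 0), HomologicalComplex.liftCycles_i, Category.assoc,
    HomologicalComplex.liftCycles_i]
  exact aug_naturality U φ

/-- the Čech complex of an injective sheaf is exact in positive degrees -/
theorem exactAt_of_injective (I : Sheaf (Opens.grothendieckTopology X) AddCommGrpCat.{u})
    [Injective I] (p : ℕ) : (K U I.obj).ExactAt (p + 1) := by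
  rw [HomologicalComplex.exactAt_iff' (K U I.obj) p (p + 1) (p + 2) (by simp) (by simp),
    ShortComplex.ab_exact_iff]
  intro c hc
  exact exists_d_eq_of_injective_sheaf U I p c hc

theorem isZero_homology_of_injective (I : Sheaf (Opens.grothendieckTopology X) AddCommGrpCat.{u})
    [Injective I] (p : ℕ) : IsZero ((K U I.obj).homology (p + 1)) :=
  (exactAt_of_injective U I p).isZero_homology

end Groth.Agent.Lead.Cech
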