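import Mathlib
import Groth.Agent.Lead.Coh.CechSheaf
import Groth.Agent.Lead.Coh.H0

/-!
Lead library (Čech project), part 4: Leray's theorem on a topological space. If `F` has vanishing
higher cohomology on all finite intersections of the `U_i`, then Čech cohomology of `F` for the
family `U` is isomorphic to `H^p(⋃ U_i, F)`.
-/

set_option autoImplicit false
open CategoryTheory Opposite Limits TopologicalSpace Abelian
universe u
namespace Groth.Agent.Lead.Cech

open Groth.Agent.Lead.Coh (freeSheaf homEquivSections homEquivSections_add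
  homEquivSections_naturality_right)

variable {X : TopCat.{u}}

/-- sections over `V` as degree-zero Ext classes -/
noncomputable def secEquiv (V : Opens X) (F : Sheaf (Opens.grothendieckTopology X) AddCommGrpCat.{u}) :
    (F.obj.obj (op V) : Type u) ≃+ Ext (freeSheaf (Opens.grothendieckTopology X) V) F 0 :=
  AddEquiv.symm
    (Ext.addEquiv₀.trans
      { toEquiv := homEquivSections V F
        map_add' := homEquivSections_add V F })

theorem secEquiv_apply (V : Opens X) (F : Sheaf (Opens.grothendieckTopology X) AddCommGrpCat.{u})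
    (s : F.obj.obj (op V)) : secEquiv V F s = Ext.mk₀ ((homEquivSections V F).symm s) := rfl

theorem secEquiv_naturality (V : Opens X)
    {F G : Sheaf (Opens.grothendieckTopology X) AddCommGrpCat.{u}} (φ : F ⟶ G)
    (s : F.obj.obj (op V)) :
    (secEquiv V F s).comp (Ext.mk₀ φ) (add_zero 0) = secEquiv V G (φ.hom.app (op V) s) := by
  rw [secEquiv_apply, secEquiv_apply, Ext.mk₀_comp_mk₀]
  congr 1
  apply (homEquivSections V G).injective
  rw [homEquivSections_naturality_right, Equiv.apply_symm_apply, Equiv.apply_symm_apply]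

section sections

variable {S : ShortComplex (Sheaf (Opens.grothendieckTopology X) AddCommGrpCat.{u})}
  (hS : S.ShortExact) (V : Opens X)

include hS

theorem app_injective : Function.Injective (S.f.hom.app (op V)) := by
  intro s t hst
  apply (secEquiv V S.X₁).injective
  haveI := hS.mono_f
  apply Ext.postcomp_mk₀_injective_of_mono _ S.f
  change (secEquiv V S.X₁ s).comp (Ext.mk₀ S.f) (add_zero 0) =
    (secEquiv V S.X₁ t).comp (Ext.mk₀ S.f) (add_zero 0)
  rw [secEquiv_naturality, secEquiv_naturality, hst]

theorem app_exact (y : S.X₂.obj.obj (op V)) (hy : S.g.hom.app (op V) y = 0) :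
    ∃ s, S.f.hom.app (op V) s = y := by
  have h : (secEquiv V S.X₂ y).comp (Ext.mk₀ S.g) (add_zero 0) = 0 := by
    rw [secEquiv_naturality, hy, map_zero]
  obtain ⟨x₁, hx₁⟩ := Ext.covariant_sequence_exact₂ _ hS _ h
  obtain ⟨s, rfl⟩ := (secEquiv V S.X₁).surjective x₁
  refine ⟨s, ?_⟩
  apply (secEquiv V S.X₂).injective
  rw [← secEquiv_naturality, hx₁]

theorem app_surjective (h : ∀ x : Ext (freeSheaf (Opens.grothendieckTopology X) V) S.X₁ 1, x = 0) :
    Function.Surjective (S.g.hom.app (op V)) := by
  intro z
  obtain ⟨x₂, hx₂⟩ := Ext.covariant_sequence_exact₃ _ hS (secEquiv V S.X₃ z) rfl (h _)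
  obtain ⟨y, rfl⟩ := (secEquiv V S.X₂).surjective x₂
  refine ⟨y, ?_⟩
  apply (secEquiv V S.X₃).injective
  rw [← secEquiv_naturality, hx₂]

end sections

variable {ι : Type u} (U : ι → Opens X)

/-- acyclicity on all finite intersections -/
def Acyc (F : Sheaf (Opens.grothendieckTopology X) AddCommGrpCat.{u}) : Prop :=
  ∀ (p : ℕ) (σ : Fin (p + 1) → ι) (q : ℕ)
    (x : Ext (freeSheaf (Opens.grothendieckTopology X) (cechOpen U σ)) F (q + 1)), x = 0

section shift

variable {S : ShortComplex (Sheaf (Opens.grothendieckTopology X) AddCommGrpCat.{u})}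
  (hS : S.ShortExact) [Injective S.X₂]

include hS

theorem acyc_quot (h : Acyc U S.X₁) : Acyc U S.X₃ := by
  intro p σ q x
  obtain ⟨x₂, hx₂⟩ := Ext.covariant_sequence_exact₃ _ hS x rfl (h p σ (q + 1) _)
  rw [← hx₂, Ext.eq_zero_of_injective x₂, Ext.zero_comp]

/-- the connecting map on Ext -/
noncomputable def extδ (Z : Sheaf (Opens.grothendieckTopology X) AddCommGrpCat.{u}) (n : ℕ) :
    Ext Z S.X₃ n →+ Ext Z S.X₁ (n + 1) :=
  hS.extClass.postcomp Z rfl

theorem extδ_surjective (Z : Sheaf (Opens.grothendieckTopology X) AddCommGrpCat.{u}) (n : ℕ) :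
    Function.Surjective (extδ hS Z n) := by
  intro y
  exact Ext.covariant_sequence_exact₁ _ hS y (Ext.eq_zero_of_injective _) rfl

theorem extδ_injective (Z : Sheaf (Opens.grothendieckTopology X) AddCommGrpCat.{u}) (n : ℕ) :
    Function.Injective (extδ hS Z (n + 1)) := by
  rw [injective_iff_map_eq_zero]
  intro x hx
  obtain ⟨x₂, hx₂⟩ := Ext.covariant_sequence_exact₃ _ hS x rfl hx
  rw [← hx₂, Ext.eq_zero_of_injective x₂, Ext.zero_comp]

theorem extδ_eq_zero_iff (Z : Sheaf (Opens.grothendieckTopology X) AddCommGrpCat.{u})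
    (x : Ext Z S.X₃ 0) :
    extδ hS Z 0 x = 0 ↔ ∃ x₂ : Ext Z S.X₂ 0, x₂.comp (Ext.mk₀ S.g) (add_zero 0) = x := by
  constructor
  · intro hx
    exact Ext.covariant_sequence_exact₃ _ hS x rfl hx
  · rintro ⟨x₂, rfl⟩
    change (x₂.comp (Ext.mk₀ S.g) (add_zero 0)).comp hS.extClass rfl = 0
    rw [Ext.comp_assoc_of_second_deg_zero, hS.comp_extClass, Ext.comp_zero]

end shift


section degreewise

variable {Y : Type u} [TopologicalSpace Y] {κ : Type u} (W : κ → Opens Y)
  {P Q R : (Opens Y)ᵒᵖ ⥤ AddCommGrpCat.{u}} (φ : P ⟶ Q) (ψ : Q ⟶ R)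

theorem map_f_injective (n : ℕ)
    (h : ∀ σ : Fin (n + 1) → κ, Function.Injective (φ.app (op (cechOpen W σ)))) :
    Function.Injective (((cechComplexFunctor W).map φ).f n) := by
  intro x y hxy
  apply ext_elem
  intro σ
  apply h σ
  have := congrArg (proj W Q n σ) hxy
  rwa [map_apply, map_apply] at this

theorem map_f_surjective (n : ℕ)
    (h : ∀ σ : Fin (n + 1) → κ, Function.Surjective (φ.app (op (cechOpen W σ)))) :
    Function.Surjective (((cechComplexFunctor W).map φ).f n) := by
  intro z
  choose y hy using fun σ => h σ (proj W Q n σ z)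
  refine ⟨(coords W P n).symm y, ?_⟩
  apply ext_elem
  intro σ
  rw [map_apply, proj_coords_symm, hy]

theorem map_f_exact (n : ℕ)
    (h : ∀ (σ : Fin (n + 1) → κ) (y : Q.obj (op (cechOpen W σ))),
      ψ.app (op (cechOpen W σ)) y = 0 → ∃ s, φ.app (op (cechOpen W σ)) s = y)
    (y : (K W Q).X n) (hy : ((cechComplexFunctor W).map ψ).f n y = 0) :
    ∃ x : (K W P).X n, ((cechComplexFunctor W).map φ).f n x = y := by
  have hex : ∀ σ : Fin (n + 1) → κ, ∃ s, φ.app (op (cechOpen W σ)) s = proj W Q n σ y := by
    intro σ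
    apply h σ
    have := congrArg (proj W R n σ) hy
    rw [map_apply] at this
    rw [this, map_zero]
  choose x hx using hex
  refine ⟨(coords W P n).symm x, ?_⟩
  apply ext_elem
  intro σ
  rw [map_apply, proj_coords_symm, hx]

end degreewise

section cechses

instance cechComplexFunctor_preservesZeroMorphisms :
    (cechComplexFunctor (A := AddCommGrpCat.{u}) U).PreservesZeroMorphisms where
  map_zero P Q := by
    apply HomologicalComplex.hom_ext
    intro n
    apply Limits.Pi.hom_ext
    intro σ
    have h := map_proj U (0 : P ⟶ Q) n σ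
    change ((cechComplexFunctor U).map (0 : P ⟶ Q)).f n ≫ proj U Q n σ = 0 ≫ _
    rw [h, zero_comp]
    exact comp_zero

variable {S : ShortComplex (Sheaf (Opens.grothendieckTopology X) AddCommGrpCat.{u})}
  (hS : S.ShortExact)

/-- the short complex of Čech complexes -/
noncomputable abbrev cechSC {X : TopCat.{u}} {ι : Type u} (U : ι → Opens X)
    (S : ShortComplex (Sheaf (Opens.grothendieckTopology X) AddCommGrpCat.{u})) :
    ShortComplex (CochainComplex AddCommGrpCat.{u} ℕ) :=
  S.map (sheafToPresheaf (Opens.grothendieckTopology X) AddCommGrpCat.{u} ⋙ cechComplexFunctor U)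

include hS in
theorem cech_shortExact (h : Acyc U S.X₁) : (cechSC U S).ShortExact := by
  apply HomologicalComplex.shortExact_of_degreewise_shortExact
  intro n
  have hmono : Mono (((cechSC U S).map (HomologicalComplex.eval _ _ n)).f) := by
    rw [AddCommGrpCat.mono_iff_injective]
    exact map_f_injective U S.f.hom n (fun σ => app_injective hS (cechOpen U σ))
  have hepi : Epi (((cechSC U S).map (HomologicalComplex.eval _ _ n)).g) := by
    rw [AddCommGrpCat.epi_iff_surjective]
    exact map_f_surjective U S.g.hom n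
      (fun σ => app_surjective hS (cechOpen U σ) (h n σ 0))
  have hexact : ((cechSC U S).map (HomologicalComplex.eval _ _ n)).Exact := by
    rw [ShortComplex.ab_exact_iff]
    exact map_f_exact U S.f.hom S.g.hom n (fun σ => app_exact hS (cechOpen U σ))
  exact { exact := hexact, mono_f := hmono, epi_g := hepi }

end cechses

section main

theorem nonempty_addEquiv_of_ker_eq {B C C' : Type*} [AddCommGroup B] [AddCommGroup C]
    [AddCommGroup C'] (g : B →+ C) (g' : B →+ C') (hg : Function.Surjective g)
    (hg' : Function.Surjective g') (h : ∀ b, g b = 0 ↔ g' b = 0) : Nonempty (C ≃+ C') := by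
  have hk : g.ker = g'.ker := by
    ext b
    simp only [AddMonoidHom.mem_ker, h]
  exact ⟨(QuotientAddGroup.quotientKerEquivOfSurjective g hg).symm.trans
    ((QuotientAddGroup.quotientAddEquivOfEq hk).trans
      (QuotientAddGroup.quotientKerEquivOfSurjective g' hg'))⟩

/-- the canonical short exact sequence `0 → F → I → I/F → 0` with `I` injective -/
noncomputable def ses (F : Sheaf (Opens.grothendieckTopology X) AddCommGrpCat.{u}) :
    ShortComplex (Sheaf (Opens.grothendieckTopology X) AddCommGrpCat.{u}) :=
  ShortComplex.mk (Injective.ι F) (cokernel.π (Injective.ι F)) (cokernel.condition _)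

theorem ses_shortExact (F : Sheaf (Opens.grothendieckTopology X) AddCommGrpCat.{u}) :
    (ses F).ShortExact :=
  { exact := ShortComplex.exact_cokernel _
    mono_f := inferInstanceAs (Mono (Injective.ι F))
    epi_g := inferInstanceAs (Epi (cokernel.π (Injective.ι F))) }

instance (F : Sheaf (Opens.grothendieckTopology X) AddCommGrpCat.{u}) : Injective (ses F).X₂ :=
  inferInstanceAs (Injective (Injective.under F))

/-- degree zero -/
theorem leray_zero (F : Sheaf (Opens.grothendieckTopology X) AddCommGrpCat.{u}) :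
    Nonempty ((K U F.obj).homology 0 ≃+
      Ext (freeSheaf (Opens.grothendieckTopology X) (iSup U)) F 0) :=
  ⟨(AddEquiv.ofBijective (augH U F).hom (augH_bijective U F)).symm.trans (secEquiv (iSup U) F)⟩

/-- degree one -/
theorem leray_one (F : Sheaf (Opens.grothendieckTopology X) AddCommGrpCat.{u}) (hF : Acyc U F) :
    Nonempty ((K U F.obj).homology 1 ≃+
      Ext (freeSheaf (Opens.grothendieckTopology X) (iSup U)) F 1) := by
  have hS := ses_shortExact F
  have hC := cech_shortExact U hS hF
  let Z := freeSheaf (Opens.grothendieckTopology X) (iSup U)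
  let g : ((ses F).X₃.obj.obj (op (iSup U)) : Type u) →+ ((K U F.obj).homology 1 : Type u) :=
    (hC.δ 0 1 rfl).hom.comp (augH U (ses F).X₃).hom
  let g' : ((ses F).X₃.obj.obj (op (iSup U)) : Type u) →+ Ext Z F 1 :=
    (extδ hS Z 0).comp (secEquiv (iSup U) (ses F).X₃).toAddMonoidHom
  have hI1 : IsZero ((cechSC U (ses F)).X₂.homology 1) :=
    isZero_homology_of_injective U (ses F).X₂ 0
  have hnat : ∀ t : (ses F).X₂.obj.obj (op (iSup U)),
      augH U (ses F).X₃ ((ses F).g.hom.app (op (iSup U)) t) =
        HomologicalComplex.homologyMap (cechSC U (ses F)).g 0 (augH U (ses F).X₂ t) := by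
    intro t
    have h := ConcreteCategory.congr_hom (augH_naturality U (ses F).g) t
    rw [ConcreteCategory.comp_apply, ConcreteCategory.comp_apply] at h
    exact h.symm
  refine nonempty_addEquiv_of_ker_eq g g' ?_ ?_ ?_
  · -- surjectivity of g
    intro y
    have hex := hC.homology_exact₁ 0 1 rfl
    rw [ShortComplex.ab_exact_iff] at hex
    obtain ⟨x, hx⟩ := hex y
      (@Subsingleton.elim _ (AddCommGrpCat.subsingleton_of_isZero hI1) _ _)
    obtain ⟨s, rfl⟩ := (augH_bijective U (ses F).X₃).2 x
    exact ⟨s, hx⟩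
  · -- surjectivity of g'
    intro y
    obtain ⟨x, hx⟩ := extδ_surjective hS Z 0 y
    obtain ⟨s, rfl⟩ := (secEquiv (iSup U) (ses F).X₃).surjective x
    exact ⟨s, hx⟩
  · intro s
    have h1 : g s = 0 ↔ ∃ t, (ses F).g.hom.app (op (iSup U)) t = s := by
      constructor
      · intro hs
        have hex := hC.homology_exact₃ 0 1 rfl
        rw [ShortComplex.ab_exact_iff] at hex
        obtain ⟨y, hy⟩ := hex (augH U (ses F).X₃ s) hs
        obtain ⟨t, rfl⟩ := (augH_bijective U (ses F).X₂).2 y
        refine ⟨t, ?_⟩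
        apply (augH_bijective U (ses F).X₃).1
        rw [hnat]
        exact hy
      · rintro ⟨t, rfl⟩
        change hC.δ 0 1 rfl (augH U (ses F).X₃ _) = 0
        rw [hnat]
        have h := ConcreteCategory.congr_hom (hC.comp_δ 0 1 rfl) (augH U (ses F).X₂ t)
        rw [ConcreteCategory.comp_apply] at h
        exact h
    have h2 : g' s = 0 ↔ ∃ t, (ses F).g.hom.app (op (iSup U)) t = s := by
      change extδ hS Z 0 (secEquiv (iSup U) (ses F).X₃ s) = 0 ↔ _
      rw [extδ_eq_zero_iff]
      constructor
      · rintro ⟨x₂, hx₂⟩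
        obtain ⟨t, rfl⟩ := (secEquiv (iSup U) (ses F).X₂).surjective x₂
        refine ⟨t, ?_⟩
        apply (secEquiv (iSup U) (ses F).X₃).injective
        rw [← secEquiv_naturality, hx₂]
      · rintro ⟨t, rfl⟩
        exact ⟨secEquiv (iSup U) (ses F).X₂ t, secEquiv_naturality _ _ _⟩
    rw [h1, h2]

/-- **Leray's theorem**: Čech cohomology for a cover which is acyclic for `F` on all finite
intersections computes the cohomology of `F` on the union. -/
theorem leray (p : ℕ) : ∀ (F : Sheaf (Opens.grothendieckTopology X) AddCommGrpCat.{u}),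
    Acyc U F → Nonempty ((K U F.obj).homology p ≃+
      Ext (freeSheaf (Opens.grothendieckTopology X) (iSup U)) F p) := by
  induction p with
  | zero => exact fun F _ => leray_zero U F
  | succ p ih =>
    intro F hF
    cases p with
    | zero => exact leray_one U F hF
    | succ p =>
      have hS := ses_shortExact F
      have hC := cech_shortExact U hS hF
      have hQ := acyc_quot U hS hF
      obtain ⟨e⟩ := ih (ses F).X₃ hQ
      let e1 := (hC.δIso (p + 1) (p + 2) rfl (isZero_homology_of_injective U (ses F).X₂ p)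
        (isZero_homology_of_injective U (ses F).X₂ (p + 1))).addCommGroupIsoToAddEquiv
      let e2 := AddEquiv.ofBijective
        (extδ hS (freeSheaf (Opens.grothendieckTopology X) (iSup U)) (p + 1))
        ⟨extδ_injective hS _ p, extδ_surjective hS _ (p + 1)⟩
      exact ⟨e1.symm.trans (e.trans e2)⟩

end main

end Groth.Agent.Lead.Cech
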