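import Mathlib
import Groth.Agent.H30.ExtSections

set_option autoImplicit false
universe u
open CategoryTheory Limits TopologicalSpace Opposite Abelian

namespace Groth.Agent.Lead.Rpush

open Groth.Agent.H30.FlasqueAcyclic Groth.Agent.H30.ExtSections Groth.Agent.H30.LocalExact

variable {Y : TopCat.{u}}

/-- An epimorphism of abelian sheaves is locally surjective on sections. -/
theorem exists_locally_of_epi {A B : CohTop.Ab Y} (p : A ⟶ B) [Epi p] (V : Opens Y)
    (b : B.obj.obj (op V)) (y : Y) (hy : y ∈ V) :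
    ∃ (V' : Opens Y) (hV' : V' ≤ V), y ∈ V' ∧ ∃ a : A.obj.obj (op V'),
      (p.hom.app (op V')).hom a = (B.obj.map (homOfLE hV').op).hom b := by
  have h1 : TopCat.Presheaf.IsLocallySurjective p.hom :=
    (TopCat.Sheaf.isLocallySurjective_iff_epi p).2 ‹Epi p›
  rw [TopCat.Presheaf.isLocallySurjective_iff] at h1
  obtain ⟨V', hV', ⟨a, ha⟩, hy'⟩ := h1 V b y hy
  exact ⟨V', hV', hy', a, ha⟩

/-- In an exact short complex of abelian sheaves, a section killed by `g` is locally in the image
of `f`. -/
theorem exists_locally_of_exact (S : ShortComplex (CohTop.Ab Y)) (hS : S.Exact) (V : Opens Y)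
    (s : S.X₂.obj.obj (op V)) (hs : (S.g.hom.app (op V)).hom s = 0) (y : Y) (hy : y ∈ V) :
    ∃ (V' : Opens Y) (hV' : V' ≤ V), y ∈ V' ∧ ∃ t : S.X₁.obj.obj (op V'),
      (S.f.hom.app (op V')).hom t = (S.X₂.obj.map (homOfLE hV').op).hom s := by
  have hepi : Epi S.toCycles := S.exact_iff_epi_toCycles.1 hS
  let φ : CohCx.freeSheaf (Opens.grothendieckTopology Y) V ⟶ S.X₂ :=
    CohFree.ofSect _ V _ s
  have hφ : φ ≫ S.g = 0 := by
    rw [ofSect_comp, hs, ofSect_zero]
  let z : S.cycles.obj.obj (op V) := CohFree.evalGen _ V _ (S.liftCycles φ hφ)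
  have hz : (S.iCycles.hom.app (op V)).hom z = s := by
    rw [← evalGen_comp, S.liftCycles_i, CohFree.evalGen_ofSect]
  obtain ⟨V', hV', hy', t, ht⟩ := exists_locally_of_epi S.toCycles V z y hy
  refine ⟨V', hV', hy', t, ?_⟩
  have h2 : S.toCycles.hom.app (op V') ≫ S.iCycles.hom.app (op V') = S.f.hom.app (op V') := by
    rw [← NatTrans.comp_app, ← ObjectProperty.FullSubcategory.comp_hom, S.toCycles_i]
  have h3 := ConcreteCategory.congr_hom h2 t
  have h4 := ConcreteCategory.congr_hom (S.iCycles.hom.naturality (homOfLE hV').op) z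
  have h3' : (S.f.hom.app (op V')).hom t =
      (S.iCycles.hom.app (op V')).hom ((S.toCycles.hom.app (op V')).hom t) := h3.symm
  have h4' : (S.iCycles.hom.app (op V')).hom ((S.cycles.obj.map (homOfLE hV').op).hom z) =
      (S.X₂.obj.map (homOfLE hV').op).hom ((S.iCycles.hom.app (op V)).hom z) := h4
  rw [h3', ht, h4', hz]

variable {X : TopCat.{u}} (f : X ⟶ Y) {F : CohTop.Ab X} (I : InjectiveResolution F)

/-- the direct image of an injective resolution -/
noncomputable abbrev K : CochainComplex (CohTop.Ab Y) ℕ :=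
  ((CohTop.push f).mapHomologicalComplex _).obj I.cocomplex

/-- the morphism to the cycle sheaf defined by a cocycle over `f⁻¹ V` -/
noncomputable def cyc (V : Opens Y) (n : ℕ) (s : ((K f I).X n).obj.obj (op V))
    (hs : (((K f I).d n (n + 1)).hom.app (op V)).hom s = 0) :
    CohCx.freeSheaf (Opens.grothendieckTopology Y) V ⟶ (K f I).cycles n :=
  (K f I).liftCycles (CohFree.ofSect _ V _ s) (n + 1) (by simp) (by
    rw [ofSect_comp, hs, ofSect_zero])

@[reassoc]
theorem cyc_i (V : Opens Y) (n : ℕ) (s : ((K f I).X n).obj.obj (op V))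
    (hs : (((K f I).d n (n + 1)).hom.app (op V)).hom s = 0) :
    cyc f I V n s hs ≫ (K f I).iCycles n = CohFree.ofSect _ V _ s := by
  unfold cyc
  exact (K f I).liftCycles_i _ _ _ _

/-- the section of the homology sheaf `H^n(f_* I)` over `V` defined by a cocycle over `f⁻¹ V` -/
noncomputable def hcls (V : Opens Y) (n : ℕ) (s : ((K f I).X n).obj.obj (op V))
    (hs : (((K f I).d n (n + 1)).hom.app (op V)).hom s = 0) :
    ((K f I).homology n).obj.obj (op V) :=
  CohFree.evalGen _ V _ (cyc f I V n s hs ≫ (K f I).homologyπ n)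

theorem dsub_zero (V : Opens Y) (n : ℕ) (s t : ((K f I).X n).obj.obj (op V))
    (hs : (((K f I).d n (n + 1)).hom.app (op V)).hom s = 0)
    (ht : (((K f I).d n (n + 1)).hom.app (op V)).hom t = 0) :
    (((K f I).d n (n + 1)).hom.app (op V)).hom (s - t) = 0 := by
  rw [map_sub, hs, ht, sub_zero]

theorem hcls_congr (V : Opens Y) (n : ℕ) (s t : ((K f I).X n).obj.obj (op V)) (hst : s = t)
    (hs : (((K f I).d n (n + 1)).hom.app (op V)).hom s = 0)
    (ht : (((K f I).d n (n + 1)).hom.app (op V)).hom t = 0) :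
    hcls f I V n s hs = hcls f I V n t ht := by
  subst hst; rfl

theorem cyc_sub (V : Opens Y) (n : ℕ) (s t : ((K f I).X n).obj.obj (op V))
    (hs : (((K f I).d n (n + 1)).hom.app (op V)).hom s = 0)
    (ht : (((K f I).d n (n + 1)).hom.app (op V)).hom t = 0) :
    cyc f I V n (s - t) (dsub_zero f I V n s t hs ht) =
      cyc f I V n s hs - cyc f I V n t ht := by
  rw [← cancel_mono ((K f I).iCycles n), Preadditive.sub_comp, cyc_i, cyc_i, cyc_i, ofSect_sub]

theorem hcls_sub (V : Opens Y) (n : ℕ) (s t : ((K f I).X n).obj.obj (op V))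
    (hs : (((K f I).d n (n + 1)).hom.app (op V)).hom s = 0)
    (ht : (((K f I).d n (n + 1)).hom.app (op V)).hom t = 0) :
    hcls f I V n (s - t) (dsub_zero f I V n s t hs ht) =
      hcls f I V n s hs - hcls f I V n t ht := by
  unfold hcls
  rw [cyc_sub f I V n s t hs ht, Preadditive.sub_comp, map_sub]

theorem cyc_eq (V : Opens Y) (n : ℕ) (s : ((K f I).X n).obj.obj (op V))
    (hs : (((K f I).d n (n + 1)).hom.app (op V)).hom s = 0)
    (φ : CohCx.freeSheaf (Opens.grothendieckTopology Y) V ⟶ (K f I).cycles n)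
    (hφ : φ ≫ (K f I).iCycles n = CohFree.ofSect _ V _ s) : cyc f I V n s hs = φ := by
  rw [← cancel_mono ((K f I).iCycles n), cyc_i, hφ]

theorem hcls_zero (V : Opens Y) (n : ℕ)
    (h0 : (((K f I).d n (n + 1)).hom.app (op V)).hom 0 = 0) :
    hcls f I V n 0 h0 = 0 := by
  unfold hcls
  rw [cyc_eq f I V n 0 h0 0 (by rw [zero_comp, ofSect_zero]), zero_comp]
  exact map_zero _

theorem d_d_apply (V : Opens Y) (m : ℕ) (t : ((K f I).X m).obj.obj (op V)) :
    (((K f I).d (m + 1) (m + 1 + 1)).hom.app (op V)).hom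
      ((((K f I).d m (m + 1)).hom.app (op V)).hom t) = 0 := by
  have h : (K f I).d m (m + 1) ≫ (K f I).d (m + 1) (m + 1 + 1) = 0 := (K f I).d_comp_d _ _ _
  have h1 : ((K f I).d m (m + 1)).hom.app (op V) ≫
      ((K f I).d (m + 1) (m + 1 + 1)).hom.app (op V) = 0 := by
    rw [← NatTrans.comp_app, ← ObjectProperty.FullSubcategory.comp_hom, h]
    rfl
  exact ConcreteCategory.congr_hom h1 t

/-- boundaries have trivial class -/
theorem hcls_d (V : Opens Y) (m : ℕ) (t : ((K f I).X m).obj.obj (op V))
    (hs : (((K f I).d (m + 1) (m + 1 + 1)).hom.app (op V)).hom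
      ((((K f I).d m (m + 1)).hom.app (op V)).hom t) = 0) :
    hcls f I V (m + 1) ((((K f I).d m (m + 1)).hom.app (op V)).hom t) hs = 0 := by
  unfold hcls
  rw [cyc_eq f I V (m + 1) _ hs (CohFree.ofSect _ V _ t ≫ (K f I).toCycles m (m + 1)) (by
    rw [Category.assoc, HomologicalComplex.toCycles_i, ofSect_comp])]
  rw [Category.assoc, HomologicalComplex.toCycles_comp_homologyπ, comp_zero]
  exact map_zero _

/-- compatibility with restriction -/
theorem hcls_res {V' V : Opens Y} (h : V' ≤ V) (n : ℕ) (s : ((K f I).X n).obj.obj (op V))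
    (hs : (((K f I).d n (n + 1)).hom.app (op V)).hom s = 0)
    (hs' : (((K f I).d n (n + 1)).hom.app (op V')).hom
      ((((K f I).X n).obj.map (homOfLE h).op).hom s) = 0) :
    (((K f I).homology n).obj.map (homOfLE h).op).hom (hcls f I V n s hs) =
      hcls f I V' n ((((K f I).X n).obj.map (homOfLE h).op).hom s) hs' := by
  unfold hcls
  rw [← CohFree.evalGen_freeSheafMap_comp]
  congr 1
  rw [← Category.assoc]
  congr 1
  rw [← cancel_mono ((K f I).iCycles n), Category.assoc, cyc_i, cyc_i, freeSheafMap_ofSect]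

section classes

/-- equal classes on `f⁻¹ V` give equal sections of the homology sheaf -/
theorem hcls_eq_of_cls_eq (V : Opens Y) (n : ℕ)
    (s t : (I.cocomplex.X n).obj.obj (op ((Opens.map f).obj V)))
    (hs : ((I.cocomplex.d n (n + 1)).hom.app (op ((Opens.map f).obj V))).hom s = 0)
    (ht : ((I.cocomplex.d n (n + 1)).hom.app (op ((Opens.map f).obj V))).hom t = 0)
    (h : cls I ((Opens.map f).obj V) n s hs = cls I ((Opens.map f).obj V) n t ht) :
    hcls f I V n s hs = hcls f I V n t ht := by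
  have h1 := cls_sub I ((Opens.map f).obj V) n s t hs ht
  rw [h, sub_self] at h1
  have h2 := hcls_sub f I V n s t hs ht
  rw [← sub_eq_zero, ← h2]
  cases n with
  | zero =>
    have h3 := (cls_eq_zero_iff_zero I ((Opens.map f).obj V) (s - t) _).1 h1.symm
    exact (hcls_congr f I V 0 _ 0 h3 _ (map_zero _)).trans (hcls_zero f I V 0 _)
  | succ m =>
    obtain ⟨r, hr⟩ := (cls_eq_zero_iff_succ I ((Opens.map f).obj V) m (s - t) _).1 h1.symm
    exact (hcls_congr f I V (m + 1) _ ((((K f I).d m (m + 1)).hom.app (op V)).hom r) hr.symm _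
      (d_d_apply f I V m r)).trans (hcls_d f I V m r _)

end classes

section locality

theorem iCycles_d_apply (V : Opens Y) (n : ℕ) (z : ((K f I).cycles n).obj.obj (op V)) :
    (((K f I).d n (n + 1)).hom.app (op V)).hom ((((K f I).iCycles n).hom.app (op V)).hom z) = 0 := by
  have h : (K f I).iCycles n ≫ (K f I).d n (n + 1) = 0 := (K f I).iCycles_d _ _
  have h1 : ((K f I).iCycles n).hom.app (op V) ≫ ((K f I).d n (n + 1)).hom.app (op V) = 0 := by
    rw [← NatTrans.comp_app, ← ObjectProperty.FullSubcategory.comp_hom, h]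
    rfl
  exact ConcreteCategory.congr_hom h1 z

/-- the class of the cocycle underlying a section of the cycle sheaf -/
theorem hcls_iCycles (V : Opens Y) (n : ℕ) (z : ((K f I).cycles n).obj.obj (op V)) :
    hcls f I V n ((((K f I).iCycles n).hom.app (op V)).hom z) (iCycles_d_apply f I V n z) =
      (((K f I).homologyπ n).hom.app (op V)).hom z := by
  unfold hcls
  rw [cyc_eq f I V n _ _ (CohFree.ofSect _ V _ z) (ofSect_comp _ _ _), evalGen_comp,
    CohFree.evalGen_ofSect]

/-- every section of the homology sheaf is locally the class of a cocycle -/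
theorem exists_hcls_eq (V : Opens Y) (n : ℕ) (g : ((K f I).homology n).obj.obj (op V))
    (y : Y) (hy : y ∈ V) :
    ∃ (V' : Opens Y) (hV' : V' ≤ V), y ∈ V' ∧ ∃ (s : ((K f I).X n).obj.obj (op V'))
      (hs : (((K f I).d n (n + 1)).hom.app (op V')).hom s = 0),
      hcls f I V' n s hs = (((K f I).homology n).obj.map (homOfLE hV').op).hom g := by
  obtain ⟨V', hV', hy', z, hz⟩ := exists_locally_of_epi ((K f I).homologyπ n) V g y hy
  exact ⟨V', hV', hy', _, iCycles_d_apply f I V' n z, (hcls_iCycles f I V' n z).trans hz⟩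

theorem evalGen_cyc (V : Opens Y) (n : ℕ) (s : ((K f I).X n).obj.obj (op V))
    (hs : (((K f I).d n (n + 1)).hom.app (op V)).hom s = 0) :
    (((K f I).iCycles n).hom.app (op V)).hom (CohFree.evalGen _ V _ (cyc f I V n s hs)) = s := by
  rw [← evalGen_comp, cyc_i, CohFree.evalGen_ofSect]

theorem isIso_homologyπ_zero : IsIso ((K f I).homologyπ 0) :=
  (K f I).isIso_homologyπ 0 0 (by simp) ((K f I).shape _ _ (by simp))

theorem exact_toCycles_homologyπ (m : ℕ) :
    (ShortComplex.mk ((K f I).toCycles m (m + 1)) ((K f I).homologyπ (m + 1))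
      ((K f I).toCycles_comp_homologyπ m (m + 1))).Exact :=
  ShortComplex.exact_of_g_is_cokernel _ ((K f I).homologyIsCokernel m (m + 1) (by simp))

end locality

section localinj

theorem map_le {V' V : Opens Y} (h : V' ≤ V) : (Opens.map f).obj V' ≤ (Opens.map f).obj V :=
  fun _ hx => h hx

/-- a cocycle whose class in the homology sheaf vanishes has locally trivial cohomology class -/
theorem exists_res_cls_eq_zero (V : Opens Y) (n : ℕ)
    (s : (I.cocomplex.X n).obj.obj (op ((Opens.map f).obj V)))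
    (hs : ((I.cocomplex.d n (n + 1)).hom.app (op ((Opens.map f).obj V))).hom s = 0)
    (h0 : hcls f I V n s hs = 0) (y : Y) (hy : y ∈ V) :
    ∃ (V' : Opens Y) (hV' : V' ≤ V), y ∈ V' ∧
      (CohTop.res F n (map_le f hV') (cls I ((Opens.map f).obj V) n s hs) :
        Ext (CohCx.freeSheaf (Opens.grothendieckTopology X) ((Opens.map f).obj V')) F n) = 0 := by
  cases n with
  | zero =>
    refine ⟨V, le_rfl, hy, ?_⟩
    have h1 : cyc f I V 0 s hs ≫ (K f I).homologyπ 0 = 0 := by
      apply evalGen_injective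
      rw [map_zero]
      exact h0
    have := isIso_homologyπ_zero f I
    have h2 : cyc f I V 0 s hs = 0 := by
      rw [← cancel_mono ((K f I).homologyπ 0), h1, zero_comp]
    have h3 := evalGen_cyc f I V 0 s hs
    rw [h2, map_zero, map_zero] at h3
    have h4 : cls I ((Opens.map f).obj V) 0 s hs = 0 :=
      (cls_eq_zero_iff_zero I _ s hs).2 h3.symm
    rw [h4]
    exact map_zero _
  | succ m =>
    let z := CohFree.evalGen _ V _ (cyc f I V (m + 1) s hs)
    have hz : (((K f I).homologyπ (m + 1)).hom.app (op V)).hom z = 0 := h0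
    obtain ⟨V', hV', hy', t, ht⟩ := exists_locally_of_exact _
      (exact_toCycles_homologyπ f I m) V z hz y hy
    refine ⟨V', hV', hy', ?_⟩
    refine (res_cls I (map_le f hV') (m + 1) s hs).trans ?_
    refine (cls_eq_zero_iff_succ I _ m _ _).2 ⟨t, ?_⟩
    have h1 : (K f I).toCycles m (m + 1) ≫ (K f I).iCycles (m + 1) = (K f I).d m (m + 1) :=
      (K f I).toCycles_i m (m + 1)
    have h2 : ((K f I).toCycles m (m + 1)).hom.app (op V') ≫
        ((K f I).iCycles (m + 1)).hom.app (op V') = ((K f I).d m (m + 1)).hom.app (op V') := by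
      rw [← NatTrans.comp_app, ← ObjectProperty.FullSubcategory.comp_hom, h1]
    have h3 : (((K f I).d m (m + 1)).hom.app (op V')).hom t =
        (((K f I).iCycles (m + 1)).hom.app (op V')).hom
          ((((K f I).toCycles m (m + 1)).hom.app (op V')).hom t) :=
      (ConcreteCategory.congr_hom h2 t).symm
    have h4 : (((K f I).iCycles (m + 1)).hom.app (op V')).hom
        ((((K f I).cycles (m + 1)).obj.map (homOfLE hV').op).hom z) =
        (((K f I).X (m + 1)).obj.map (homOfLE hV').op).hom
          ((((K f I).iCycles (m + 1)).hom.app (op V)).hom z) :=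
      ConcreteCategory.congr_hom (((K f I).iCycles (m + 1)).hom.naturality (homOfLE hV').op) z
    have h5 := evalGen_cyc f I V (m + 1) s hs
    exact h3.trans ((congrArg _ ht).trans (h4.trans (congrArg _ h5)))

end localinj

end Groth.Agent.Lead.Rpush
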