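import Mathlib
import Groth.Agent.Lead.Coh.RpushSect

set_option autoImplicit false
universe u
open CategoryTheory Limits TopologicalSpace Opposite Abelian

namespace Groth.Agent.Lead.Rpush

open Groth.Agent.H30.FlasqueAcyclic Groth.Agent.H30.ExtSections Groth.Agent.H30.LocalExact

variable {X Y : TopCat.{u}} (f : X ⟶ Y) {F : CohTop.Ab X} (I : InjectiveResolution F)

/-- the comparison map `H^n(f⁻¹ V, F) → Γ(V, H^n(f_* I))` -/
noncomputable def cmap (V : Opens Y) (n : ℕ)
    (ξ : Ext (CohCx.freeSheaf (Opens.grothendieckTopology X) ((Opens.map f).obj V)) F n) :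
    ((K f I).homology n).obj.obj (op V) :=
  hcls f I V n (cls_surjective I ((Opens.map f).obj V) n ξ).choose
    (cls_surjective I ((Opens.map f).obj V) n ξ).choose_spec.choose

theorem cmap_cls (V : Opens Y) (n : ℕ)
    (s : (I.cocomplex.X n).obj.obj (op ((Opens.map f).obj V)))
    (hs : ((I.cocomplex.d n (n + 1)).hom.app (op ((Opens.map f).obj V))).hom s = 0) :
    cmap f I V n (cls I ((Opens.map f).obj V) n s hs) = hcls f I V n s hs := by
  unfold cmap
  exact hcls_eq_of_cls_eq f I V n _ _ _ _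
    (cls_surjective I ((Opens.map f).obj V) n (cls I _ n s hs)).choose_spec.choose_spec

theorem cmap_sub (V : Opens Y) (n : ℕ)
    (ξ η : Ext (CohCx.freeSheaf (Opens.grothendieckTopology X) ((Opens.map f).obj V)) F n) :
    cmap f I V n (ξ - η) = cmap f I V n ξ - cmap f I V n η := by
  obtain ⟨s, hs, rfl⟩ := cls_surjective I ((Opens.map f).obj V) n ξ
  obtain ⟨t, ht, rfl⟩ := cls_surjective I ((Opens.map f).obj V) n η
  rw [cls_sub, cmap_cls, cmap_cls, cmap_cls]
  exact hcls_sub f I V n s t hs ht

/-- the comparison map as an additive map -/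
noncomputable def cmapHom (V : Opens Y) (n : ℕ) :
    Ext (CohCx.freeSheaf (Opens.grothendieckTopology X) ((Opens.map f).obj V)) F n →+
      ((K f I).homology n).obj.obj (op V) :=
  AddMonoidHom.ofMapSub (cmap f I V n) (cmap_sub f I V n)

theorem cmapHom_apply (V : Opens Y) (n : ℕ)
    (ξ : Ext (CohCx.freeSheaf (Opens.grothendieckTopology X) ((Opens.map f).obj V)) F n) :
    cmapHom f I V n ξ = cmap f I V n ξ := rfl

theorem cmap_zero (V : Opens Y) (n : ℕ) : cmap f I V n 0 = 0 :=
  map_zero (cmapHom f I V n)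

/-- compatibility with restriction -/
theorem cmap_res {V' V : Opens Y} (h : V' ≤ V) (n : ℕ)
    (ξ : Ext (CohCx.freeSheaf (Opens.grothendieckTopology X) ((Opens.map f).obj V)) F n) :
    (((K f I).homology n).obj.map (homOfLE h).op).hom (cmap f I V n ξ) =
      cmap f I V' n (CohTop.res F n (map_le f h) ξ) := by
  obtain ⟨s, hs, rfl⟩ := cls_surjective I ((Opens.map f).obj V) n ξ
  rw [cmap_cls]
  have h1 := res_cls I (map_le f h) n s hs
  have h2 : cmap f I V' n (CohTop.res F n (map_le f h) (cls I ((Opens.map f).obj V) n s hs)) =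
      cmap f I V' n (cls I ((Opens.map f).obj V') n
        (((I.cocomplex.X n).obj.map (homOfLE (map_le f h)).op).hom s) _) := congrArg _ h1
  rw [h2, cmap_cls]
  exact hcls_res f I h n s hs _

/-- local surjectivity of the comparison map -/
theorem exists_cmap_eq (V : Opens Y) (n : ℕ) (g : ((K f I).homology n).obj.obj (op V))
    (y : Y) (hy : y ∈ V) :
    ∃ (V' : Opens Y) (hV' : V' ≤ V), y ∈ V' ∧
      ∃ ξ : Ext (CohCx.freeSheaf (Opens.grothendieckTopology X) ((Opens.map f).obj V')) F n,
        cmap f I V' n ξ = (((K f I).homology n).obj.map (homOfLE hV').op).hom g := by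
  obtain ⟨V', hV', hy', s, hs, h⟩ := exists_hcls_eq f I V n g y hy
  exact ⟨V', hV', hy', cls I ((Opens.map f).obj V') n s hs, (cmap_cls f I V' n s hs).trans h⟩

/-- local injectivity of the comparison map -/
theorem exists_res_eq_zero (V : Opens Y) (n : ℕ)
    (ξ : Ext (CohCx.freeSheaf (Opens.grothendieckTopology X) ((Opens.map f).obj V)) F n)
    (h0 : cmap f I V n ξ = 0) (y : Y) (hy : y ∈ V) :
    ∃ (V' : Opens Y) (hV' : V' ≤ V), y ∈ V' ∧
      (CohTop.res F n (map_le f hV') ξ :
        Ext (CohCx.freeSheaf (Opens.grothendieckTopology X) ((Opens.map f).obj V')) F n) = 0 := by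
  obtain ⟨s, hs, rfl⟩ := cls_surjective I ((Opens.map f).obj V) n ξ
  rw [cmap_cls] at h0
  exact exists_res_cls_eq_zero f I V n s hs h0 y hy

end Groth.Agent.Lead.Rpush
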