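import Mathlib
import Groth.Agent.Lead.Coh.RpushMap

set_option autoImplicit false
universe u
open CategoryTheory Limits TopologicalSpace Opposite Abelian

namespace Groth.Agent.Lead.Rpush

open Groth.Agent.H30.FlasqueAcyclic Groth.Agent.H30.ExtSections Groth.Agent.H30.LocalExact

variable {X Y : TopCat.{u}} (f : X ⟶ Y) {F : CohTop.Ab X} (I : InjectiveResolution F)

/-- the comparison map as a morphism of presheaves on `Y` -/
noncomputable def cmapNat (n : ℕ) :
    (Opens.map f).op ⋙ Sheaf.cohomologyPresheaf.{u} F n ⟶ ((K f I).homology n).obj where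
  app V := AddCommGrpCat.ofHom (cmapHom f I V.unop n)
  naturality V V' i := by
    ext ξ
    exact (cmap_res f I (leOfHom i.unop) n ξ).symm

theorem cmapNat_app_apply (n : ℕ) (V : (Opens Y)ᵒᵖ)
    (ξ : Ext (CohCx.freeSheaf (Opens.grothendieckTopology X) ((Opens.map f).obj V.unop)) F n) :
    ((cmapNat f I n).app V).hom ξ = cmap f I V.unop n ξ := rfl

instance isLocallyInjective_cmapNat (n : ℕ) :
    Presheaf.IsLocallyInjective (Opens.grothendieckTopology Y) (cmapNat f I n) where
  equalizerSieve_mem {V} ξ η h := by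
    intro y hy
    let ξ' : Ext (CohCx.freeSheaf (Opens.grothendieckTopology X) ((Opens.map f).obj V.unop)) F n := ξ
    let η' : Ext (CohCx.freeSheaf (Opens.grothendieckTopology X) ((Opens.map f).obj V.unop)) F n := η
    have h' : cmap f I V.unop n ξ' = cmap f I V.unop n η' := h
    have h0 : cmap f I V.unop n (ξ' - η') = 0 := by
      rw [cmap_sub, h', sub_self]
    obtain ⟨V', hV', hy', h1⟩ := exists_res_eq_zero f I V.unop n (ξ' - η') h0 y hy
    refine ⟨V', homOfLE hV', ?_, hy'⟩
    have h2 : (CohTop.res F n (map_le f hV') ξ' :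
        Ext (CohCx.freeSheaf (Opens.grothendieckTopology X) ((Opens.map f).obj V')) F n) =
        CohTop.res F n (map_le f hV') η' := by
      rw [← sub_eq_zero, ← map_sub]
      exact h1
    exact h2

instance isLocallySurjective_cmapNat (n : ℕ) :
    Presheaf.IsLocallySurjective (Opens.grothendieckTopology Y) (cmapNat f I n) where
  imageSieve_mem {V} g := by
    intro y hy
    obtain ⟨V', hV', hy', ξ, hξ⟩ := exists_cmap_eq f I V n g y hy
    exact ⟨V', homOfLE hV', ⟨ξ, hξ⟩, hy'⟩

/-- `H^n(f_* I)` is the sheafification of `V ↦ H^n(f⁻¹ V, F)` -/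
theorem isIso_presheafToSheaf_map_cmapNat (n : ℕ) :
    IsIso ((presheafToSheaf (Opens.grothendieckTopology Y) AddCommGrpCat.{u}).map
      (cmapNat f I n)) := by
  rw [← GrothendieckTopology.W_iff]
  exact GrothendieckTopology.W_of_isLocallyBijective _ _

theorem nonempty_iso_sheafify (F : CohTop.Ab X) (n : ℕ) :
    Nonempty ((CohTop.Rpush f n).obj F ≅
      (presheafToSheaf (Opens.grothendieckTopology Y) AddCommGrpCat.{u}).obj
        ((Opens.map f).op ⋙ Sheaf.cohomologyPresheaf.{u} F n)) := by
  let I := injectiveResolution F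
  have := isIso_presheafToSheaf_map_cmapNat f I n
  let e1 : (CohTop.Rpush f n).obj F ≅ (K f I).homology n :=
    I.isoRightDerivedObj (CohTop.push f) n
  let e2 := asIso ((presheafToSheaf (Opens.grothendieckTopology Y) AddCommGrpCat.{u}).map
      (cmapNat f I n))
  let e3 := asIso ((sheafificationAdjunction (Opens.grothendieckTopology Y)
    AddCommGrpCat.{u}).counit.app ((K f I).homology n))
  exact ⟨e1 ≪≫ e3.symm ≪≫ e2.symm⟩

end Groth.Agent.Lead.Rpush
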