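import Groth.Agent.H12.SerreCrit
import Groth.Agent.H12.QCohAbelian
import Groth.Agent.Lead.Coh.H1Surj

/-!
Lead library (Zariski cohomology project): Serre's cohomological criterion of affineness,
on top of helper12's `H12/SerreCrit` (sections-exactness form of the criterion).
-/

set_option autoImplicit false
universe u

open CategoryTheory CategoryTheory.Limits AlgebraicGeometry Opposite TopologicalSpace Abelian

namespace Groth.Agent.Lead.SerreAffine

open Groth.Agent.Lead.Coh

variable {X : Scheme.{u}}

/-- In a short exact sequence of modules, vanishing of `H^n` of the outer terms gives vanishing of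
`H^n` of the middle term. -/
theorem subsingleton_HH_of_shortExact (E : ShortComplex X.Modules) (hE : E.ShortExact) (n : ℕ)
    (h₁ : Subsingleton (Coh.HH X E.X₁ n)) (h₃ : Subsingleton (Coh.HH X E.X₃ n)) :
    Subsingleton (Coh.HH X E.X₂ n) := by
  have hS := Groth.Agent.H49.SectionsExact.shortExact_toSheaf E hE
  refine subsingleton_of_forall_eq 0 fun x => ?_
  let x₂ : Ext ((constantSheaf (Opens.grothendieckTopology X) AddCommGrpCat.{u}).obj
      (AddCommGrpCat.of (ULift ℤ))) (E.map (Groth.Agent.H49.SectionsExact.T X)).X₂ n := x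
  have h0 : x₂.comp (Ext.mk₀ (E.map (Groth.Agent.H49.SectionsExact.T X)).g) (add_zero n) = 0 :=
    h₃.elim _ _
  obtain ⟨x₁, hx₁⟩ := Ext.covariant_sequence_exact₂ _ hS x₂ h0
  have h1 : x₁ = 0 := h₁.elim _ _
  rw [h1, Ext.zero_comp] at hx₁
  exact hx₁.symm

/-- a module all of whose sections vanish has trivial cohomology -/
theorem subsingleton_HH_of_sections_eq_zero (F : X.Modules)
    (h : ∀ (V : X.Opens) (t : Γ(F, V)), t = 0) (n : ℕ) : Subsingleton (Coh.HH X F n) := by
  have hz : IsZero F := by
    rw [IsZero.iff_id_eq_zero]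
    apply Scheme.Modules.hom_ext
    intro V
    ext t
    exact (h V _).trans (h V _).symm
  have hz' : IsZero (Coh.toAb F) :=
    (SheafOfModules.toSheaf.{u} X.ringCatSheaf).map_isZero hz
  exact Sheaf.subsingleton_H_of_isZero hz' n

/-- the short exact sequence `0 → ker ψ → F → im ψ → 0` -/
theorem shortExact_kernel_image {F G : X.Modules} (ψ : F ⟶ G) :
    (ShortComplex.mk (kernel.ι ψ) (Abelian.factorThruImage ψ)
      (by rw [← cancel_mono (Abelian.image.ι ψ), Category.assoc, Abelian.image.fac,
        kernel.condition, zero_comp])).ShortExact := by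
  have hf : kernel.ι ψ ≫ Abelian.factorThruImage ψ = 0 := by
    rw [← cancel_mono (Abelian.image.ι ψ), Category.assoc, Abelian.image.fac,
      kernel.condition, zero_comp]
  have hk : IsLimit (KernelFork.ofι (kernel.ι ψ) hf) :=
    isKernelOfComp (f := Abelian.factorThruImage ψ) (Abelian.image.ι ψ) ψ (kernelIsKernel ψ) hf
      (Abelian.image.fac ψ)
  have hE : (ShortComplex.mk (kernel.ι ψ) (Abelian.factorThruImage ψ) hf).Exact :=
    ShortComplex.exact_of_f_is_kernel _ hk
  exact ShortComplex.ShortExact.mk' hE (inferInstanceAs (Mono (kernel.ι ψ)))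
    (inferInstanceAs (Epi (Abelian.factorThruImage ψ)))

/-- **Key step**: if `H^1` vanishes on quasi-coherent ideals, it vanishes on every quasi-coherent
module admitting finitely many maps to `O_X` which are jointly injective on sections. -/
theorem subsingleton_HH_one_of_jointly_injective
    (h : ∀ (I : X.Modules) (i : I ⟶ Coh.structureModule X), Mono i →
      Coh.IsQCoh I → Subsingleton (Coh.HH X I 1)) :
    ∀ (n : ℕ) (F : X.Modules), F.IsQuasicoherent → ∀ (φ : Fin n → (F ⟶ Coh.structureModule X)),
      (∀ (V : X.Opens) (t : Γ(F, V)), (∀ i, (φ i).app V t = 0) → t = 0) →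
      Subsingleton (Coh.HH X F 1) := by
  intro n
  induction n with
  | zero =>
    intro F _ φ hφ
    exact subsingleton_HH_of_sections_eq_zero F (fun V t => hφ V t (fun i => i.elim0)) 1
  | succ n ih =>
    intro F hF φ hφ
    haveI : (Coh.structureModule X).IsQuasicoherent :=
      Groth.Agent.H44.isQuasicoherent_structureModule
    let ψ := φ 0
    have hqK : (kernel ψ).IsQuasicoherent :=
      Groth.Agent.H12.QCohAbelian.isQuasicoherent_kernel ψ
    have hqI : (Abelian.image ψ).IsQuasicoherent :=
      Groth.Agent.H12.QCohAbelian.isQuasicoherent_image ψ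
    have h₃ : Subsingleton (Coh.HH X (Abelian.image ψ) 1) :=
      h (Abelian.image ψ) (Abelian.image.ι ψ) inferInstance hqI
    have h₁ : Subsingleton (Coh.HH X (kernel ψ) 1) := by
      refine ih (kernel ψ) hqK (fun i => kernel.ι ψ ≫ φ i.succ) ?_
      intro V t ht
      have hinj := Groth.Agent.H12.QCohAbelian.app_injective_of_mono (kernel.ι ψ) V
      apply hinj
      rw [map_zero]
      apply hφ V
      intro j
      refine Fin.cases ?_ (fun i => ?_) j
      · have : (kernel.ι ψ ≫ ψ).app V t = 0 := by
          rw [kernel.condition]; rfl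
        exact this
      · exact ht i
    exact subsingleton_HH_of_shortExact _ (shortExact_kernel_image ψ) 1 h₁ h₃

open Groth.Agent.H18 Groth.Agent.H12.SerreCrit in
/-- **Serre's criterion of affineness**: a quasi-compact scheme on which `H^1` vanishes for
every quasi-coherent ideal is affine. -/
theorem isAffine_of_HH_one_ideals (X : Scheme.{u}) [CompactSpace X]
    (h : ∀ (I : X.Modules) (i : I ⟶ Coh.structureModule X), Mono i →
      Coh.IsQCoh I → Subsingleton (Coh.HH X I 1)) : IsAffine X := by
  have hcl : ∀ x : X, IsClosed ({x} : Set X) →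
      ∃ f : Γ(X, ⊤), IsAffineOpen (X.basicOpen f) ∧ x ∈ X.basicOpen f := by
    refine exists_affine_basicOpen_of_isClosed ?_
    intro J N i k hi hk hqJ hqN
    have hN : Subsingleton (Coh.HH X N 1) := h N (k ≫ i) (mono_comp k i) hqN
    have hS : (ShortComplex.mk k (cokernel.π k) (cokernel.condition k)).ShortExact :=
      ShortComplex.ShortExact.mk' (ShortComplex.exact_cokernel k) hk inferInstance
    have := sections_top_surjective_of_subsingleton_HH_one _ hS hN
    intro b
    obtain ⟨a, ha⟩ := this b
    exact ⟨a, ha⟩
  obtain ⟨n, fs, haff, hcov⟩ := exists_finite_affine_basicOpen_cover hcl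
  have hepi := epi_desc_sectionHom_of_cover n fs hcov
  refine isAffine_of_surjective_desc n fs haff ?_
  set p : FlatMod.freeMod X n ⟶ Coh.structureModule X :=
    Sigma.desc (fun i : Fin n => sectionHom (Coh.structureModule X) (fs i)) with hp
  haveI : (Coh.structureModule X).IsQuasicoherent :=
    Groth.Agent.H44.isQuasicoherent_structureModule
  have hqK : (kernel p).IsQuasicoherent :=
    Groth.Agent.H12.QCohAbelian.isQuasicoherent_kernel p
  have hK : Subsingleton (Coh.HH X (kernel p) 1) := by
    refine subsingleton_HH_one_of_jointly_injective h n (kernel p) hqK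
      (fun i => kernel.ι p ≫ proj n i) ?_
    intro V t ht
    apply Groth.Agent.H12.QCohAbelian.app_injective_of_mono (kernel.ι p) V
    rw [map_zero]
    have h1 := congrArg (evalHom (N := FlatMod.freeMod X n) V ((kernel.ι p).app V t))
      (sum_proj_ι (X := X) n)
    rw [map_sum] at h1
    have h2 : ∀ i : Fin n, evalHom (N := FlatMod.freeMod X n) V ((kernel.ι p).app V t)
        (proj n i ≫ Sigma.ι (fun _ : Fin n => Coh.structureModule X) i) = 0 := by
      intro i
      have h3 : (proj (X := X) n i).app V ((kernel.ι p).app V t) = 0 := ht i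
      change (Sigma.ι (fun _ : Fin n => Coh.structureModule X) i).app V
        ((proj (X := X) n i).app V ((kernel.ι p).app V t)) = 0
      rw [h3, map_zero]
    rw [Finset.sum_eq_zero (fun i _ => h2 i)] at h1
    exact h1.symm
  have hS : (ShortComplex.mk (kernel.ι p) p (kernel.condition p)).ShortExact :=
    ShortComplex.ShortExact.mk' (ShortComplex.exact_kernel p) inferInstance hepi
  have := sections_top_surjective_of_subsingleton_HH_one _ hS hK
  intro b
  obtain ⟨a, ha⟩ := this b
  exact ⟨a, ha⟩

end Groth.Agent.Lead.SerreAffine
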