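import Mathlib

/-!
Lead library (Zariski cohomology project): induction over finite covers for a class of
quasi-compact opens with the splitting property.

Let `𝔅` be a class of opens of a space `T` such that whenever `W ∈ 𝔅` is covered by two opens
`V₁, V₂`, one can write `W = W₁ ⊔ W₂` with `Wᵢ ∈ 𝔅`, `Wᵢ ≤ Vᵢ` and `(W₁, W₂)` a *good pair*.
A hereditary property `A` of opens which holds for `⊥` and glues along good pairs then passes from
the members of a finite cover to `W`.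
-/

set_option autoImplicit false

open TopologicalSpace

namespace Groth.Agent.Lead.Coh

universe u

variable {T : Type u} [TopologicalSpace T]

/-- the splitting property of a class of opens with respect to a notion of good pairs -/
def HasSplit (𝔅 : Set (Opens T)) (Good : Opens T → Opens T → Prop) : Prop :=
  ∀ {W : Opens T} (V₁ V₂ : Opens T), W ∈ 𝔅 → W ≤ V₁ ⊔ V₂ →
    ∃ W₁ ∈ 𝔅, ∃ W₂ ∈ 𝔅, Good W₁ W₂ ∧ W = W₁ ⊔ W₂ ∧ W₁ ≤ V₁ ∧ W₂ ≤ V₂

variable {𝔅 : Set (Opens T)} {Good : Opens T → Opens T → Prop}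

theorem finite_cover_induction (hsplit : HasSplit 𝔅 Good) (A : Opens T → Prop) (hbot : A ⊥)
    (hmono : ∀ V' V : Opens T, V' ≤ V → A V → A V')
    (hpair : ∀ W₁ W₂ : Opens T, W₁ ∈ 𝔅 → W₂ ∈ 𝔅 → W₁ ⊔ W₂ ∈ 𝔅 → Good W₁ W₂ →
      A W₁ → A W₂ → A (W₁ ⊔ W₂))
    (t : Finset (Opens T)) :
    ∀ W ∈ 𝔅, W ≤ t.sup id → (∀ V ∈ t, A (W ⊓ V)) → A W := by
  classical
  induction t using Finset.induction_on with
  | empty =>
    intro W _ hle _
    have : W = ⊥ := le_bot_iff.mp (by simpa using hle)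
    subst this
    exact hbot
  | insert V₁ t' hV₁ iht =>
    intro W hW hle hA
    rw [Finset.sup_insert] at hle
    obtain ⟨W₁, hW₁, W₂, hW₂, hgood, rfl, hle₁, hle₂⟩ := hsplit V₁ (t'.sup id) hW hle
    refine hpair W₁ W₂ hW₁ hW₂ hW hgood ?_ ?_
    · exact hmono _ _ (le_inf le_sup_left hle₁) (hA V₁ (Finset.mem_insert_self _ _))
    · refine iht W₂ hW₂ hle₂ (fun V hV => ?_)
      exact hmono _ _ (inf_le_inf_right V le_sup_right) (hA V (Finset.mem_insert_of_mem hV))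

/-- local-to-global principle for a hereditary property which glues along good pairs -/
theorem local_to_global (hsplit : HasSplit 𝔅 Good)
    (hcompact : ∀ W ∈ 𝔅, IsCompact (W : Set T)) (A : Opens T → Prop) (hbot : A ⊥)
    (hmono : ∀ V' V : Opens T, V' ≤ V → A V → A V')
    (hpair : ∀ W₁ W₂ : Opens T, W₁ ∈ 𝔅 → W₂ ∈ 𝔅 → W₁ ⊔ W₂ ∈ 𝔅 → Good W₁ W₂ →
      A W₁ → A W₂ → A (W₁ ⊔ W₂))
    (W : Opens T) (hW : W ∈ 𝔅) (hloc : ∀ y ∈ W, ∃ V : Opens T, y ∈ V ∧ A V) : A W := by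
  classical
  let S : Set (Opens T) := {V | A V}
  have hsub : (W : Set T) ⊆ ⋃ V ∈ S, (V : Set T) := by
    intro p hp
    obtain ⟨V, hpV, hV⟩ := hloc p hp
    exact Set.mem_iUnion₂.mpr ⟨V, hV, hpV⟩
  obtain ⟨b, hbS, hbfin, hb⟩ := (hcompact W hW).elim_finite_subcover_image
    (fun V _ => V.isOpen) hsub
  refine finite_cover_induction hsplit A hbot hmono hpair hbfin.toFinset W hW ?_ ?_
  · intro p hp
    obtain ⟨V, hV, hpV⟩ := Set.mem_iUnion₂.mp (hb hp)
    have : V ≤ hbfin.toFinset.sup id := Finset.le_sup (f := id) (hbfin.mem_toFinset.mpr hV)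
    exact this hpV
  · intro V hV
    exact hmono _ _ inf_le_right (hbS (hbfin.mem_toFinset.mp hV))

end Groth.Agent.Lead.Coh
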