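import Mathlib
import Groth.Agent.Lead.Coh.CoverInd

/-!
Lead library (Zariski cohomology project): the basic opens of an affine scheme form a class of
quasi-compact opens with the splitting property, where good pairs are `(D(ga), D(gb))` with
`g^N = c a + d b`.
-/

set_option autoImplicit false
open CategoryTheory Opposite TopologicalSpace AlgebraicGeometry
universe u
namespace Groth.Agent.Lead.Coh

variable (S : Scheme.{u})

/-- the class of basic opens `D(g)`, `g` a global function -/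
def basicOpens : Set S.Opens := Set.range (fun g : Γ(S, ⊤) => S.basicOpen g)

/-- good pairs of basic opens -/
def GoodPair (W₁ W₂ : S.Opens) : Prop :=
  ∃ (g a b c d : Γ(S, ⊤)) (N : ℕ), g ^ N = c * a + d * b ∧
    W₁ = S.basicOpen (g * a) ∧ W₂ = S.basicOpen (g * b)

variable {S}

theorem basicOpens_inf_mem {U V : S.Opens} (hU : U ∈ basicOpens S) (hV : V ∈ basicOpens S) :
    U ⊓ V ∈ basicOpens S := by
  obtain ⟨g, rfl⟩ := hU
  obtain ⟨h, rfl⟩ := hV
  exact ⟨g * h, S.basicOpen_mul g h⟩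

theorem isCompact_of_mem_basicOpens [IsAffine S] {U : S.Opens} (hU : U ∈ basicOpens S) :
    IsCompact (U : Set S) := by
  obtain ⟨g, rfl⟩ := hU
  exact ((isAffineOpen_top S).basicOpen g).isCompact

theorem GoodPair.sup_eq {W₁ W₂ : S.Opens} (h : GoodPair S W₁ W₂) :
    ∃ g : Γ(S, ⊤), W₁ ⊔ W₂ = S.basicOpen g := by
  obtain ⟨g, a, b, c, d, N, hN, rfl, rfl⟩ := h
  refine ⟨g, le_antisymm ?_ ?_⟩
  · rw [S.basicOpen_mul, S.basicOpen_mul]
    exact sup_le inf_le_left inf_le_left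
  · intro x hx
    have hx' : x ∈ S.basicOpen (g ^ N) := by
      rcases N.eq_zero_or_pos with rfl | hpos
      · rw [pow_zero, S.basicOpen_of_isUnit isUnit_one]; trivial
      · rwa [S.basicOpen_pow g hpos]
    rw [hN] at hx'
    rcases S.basicOpen_add_le _ _ hx' with h1 | h1
    · rw [S.basicOpen_mul] at h1
      exact Or.inl (by rw [S.basicOpen_mul]; exact ⟨hx, h1.2⟩)
    · rw [S.basicOpen_mul] at h1
      exact Or.inr (by rw [S.basicOpen_mul]; exact ⟨hx, h1.2⟩)

theorem hasSplit_basicOpens [IsAffine S] : HasSplit (basicOpens S) (GoodPair S) := by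
  intro W V₁ V₂ hW hle
  obtain ⟨g, rfl⟩ := hW
  obtain ⟨I₁, hI₁⟩ := (Scheme.eq_zeroLocus_of_isClosed_of_isAffine S ((V₁ : Set S)ᶜ)).1
    V₁.isOpen.isClosed_compl
  obtain ⟨I₂, hI₂⟩ := (Scheme.eq_zeroLocus_of_isClosed_of_isAffine S ((V₂ : Set S)ᶜ)).1
    V₂.isOpen.isClosed_compl
  -- `g` lies in the radical of `I₁ ⊔ I₂`
  have hsub : S.zeroLocus (U := ⊤) ((I₁ ⊔ I₂ : Ideal Γ(S, ⊤)) : Set Γ(S, ⊤)) ⊆
      S.zeroLocus (U := ⊤) ({g} : Set Γ(S, ⊤)) := by
    intro x hx
    rw [Scheme.mem_zeroLocus_iff] at hx ⊢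
    intro f hf
    rw [Set.mem_singleton_iff] at hf
    subst hf
    intro hxg
    have h1 : x ∈ (V₁ : Set S)ᶜ := by
      rw [hI₁, Scheme.mem_zeroLocus_iff]
      exact fun f hf => hx f (Ideal.mem_sup_left hf)
    have h2 : x ∈ (V₂ : Set S)ᶜ := by
      rw [hI₂, Scheme.mem_zeroLocus_iff]
      exact fun f hf => hx f (Ideal.mem_sup_right hf)
    rcases hle hxg with h | h
    · exact h1 h
    · exact h2 h
  have hrad : g ∈ (I₁ ⊔ I₂).radical := by
    have h3 := Set.image_mono (f := S.isoSpec.hom) hsub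
    rw [Scheme.isoSpec_image_zeroLocus, Scheme.isoSpec_image_zeroLocus] at h3
    have h4 : PrimeSpectrum.zeroLocus ((I₁ ⊔ I₂ : Ideal Γ(S, ⊤)) : Set Γ(S, ⊤)) ⊆
        PrimeSpectrum.zeroLocus ({g} : Set Γ(S, ⊤)) := h3
    have h5 := (PrimeSpectrum.subset_zeroLocus_iff_subset_vanishingIdeal (R := Γ(S, ⊤)) _ _).1 h4
    rw [PrimeSpectrum.vanishingIdeal_zeroLocus_eq_radical] at h5
    exact h5 (Set.mem_singleton g)
  obtain ⟨N, hN⟩ := hrad
  obtain ⟨a, ha, b, hb, hab⟩ := Submodule.mem_sup.1 hN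
  have hle₁ : S.basicOpen a ≤ V₁ := by
    intro x hx
    by_contra hxV
    have : x ∈ S.zeroLocus (U := ⊤) (I₁ : Set Γ(S, ⊤)) := hI₁ ▸ hxV
    rw [Scheme.mem_zeroLocus_iff] at this
    exact this a ha hx
  have hle₂ : S.basicOpen b ≤ V₂ := by
    intro x hx
    by_contra hxV
    have : x ∈ S.zeroLocus (U := ⊤) (I₂ : Set Γ(S, ⊤)) := hI₂ ▸ hxV
    rw [Scheme.mem_zeroLocus_iff] at this
    exact this b hb hx
  have hgood : GoodPair S (S.basicOpen (g * a)) (S.basicOpen (g * b)) :=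
    ⟨g, a, b, 1, 1, N, by rw [one_mul, one_mul, hab], rfl, rfl⟩
  refine ⟨S.basicOpen (g * a), ⟨g * a, rfl⟩, S.basicOpen (g * b), ⟨g * b, rfl⟩, hgood, ?_, ?_, ?_⟩
  · apply le_antisymm
    · intro x hx
      have hx' : x ∈ S.basicOpen (g ^ N) := by
        rcases N.eq_zero_or_pos with rfl | hpos
        · rw [pow_zero, S.basicOpen_of_isUnit isUnit_one]; trivial
        · rwa [S.basicOpen_pow g hpos]
      rw [← hab] at hx'
      rcases S.basicOpen_add_le _ _ hx' with h1 | h1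
      · exact Or.inl (by rw [S.basicOpen_mul]; exact ⟨hx, h1⟩)
      · exact Or.inr (by rw [S.basicOpen_mul]; exact ⟨hx, h1⟩)
    · rw [S.basicOpen_mul, S.basicOpen_mul]
      exact sup_le inf_le_left inf_le_left
  · rw [S.basicOpen_mul]
    exact inf_le_right.trans hle₁
  · rw [S.basicOpen_mul]
    exact inf_le_right.trans hle₂

end Groth.Agent.Lead.Coh
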