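import Mathlib
import Groth.Agent.Lead.Coh.RpushMap
import Groth.Agent.Lead.Coh.AffineBasis
import Groth.Agent.Lead.Coh.LocPairInj
import Groth.Agent.Lead.Coh.MVNat

/-!
Lead library (Zariski cohomology project): for `f : X ⟶ S` with `S` affine and `X` quasi-compact
quasi-separated, and `M` quasi-coherent on `X`, the comparison map
`H^n(f⁻¹ V, M) → Γ(V, H^n(f_* I))` is bijective for every basic open `V` of `S`.
-/

set_option autoImplicit false
open CategoryTheory Opposite Limits TopologicalSpace AlgebraicGeometry Abelian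
universe u
namespace Groth.Agent.Lead.Rpush

open Groth.Agent.Lead.Coh

variable {X S : Scheme.{u}} (f : X ⟶ S) (M : X.Modules)

theorem isCompact_preimage_of_mem_basicOpens [CompactSpace X] {W : S.Opens}
    (hW : W ∈ basicOpens S) : IsCompact (((Opens.map f.base).obj W : X.Opens) : Set X) := by
  obtain ⟨g, rfl⟩ := hW
  have h : (Opens.map f.base).obj (S.basicOpen g) = X.basicOpen (f.appTop g) :=
    Scheme.preimage_basicOpen_top f g
  rw [h]
  have := isCompact_basicOpen X (U := ⊤) isCompact_univ (f.appTop g)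
  exact this

theorem isQuasiSeparated_opens [QuasiSeparatedSpace X] (U : X.Opens) :
    IsQuasiSeparated (U : Set X) :=
  (isQuasiSeparated_univ (α := X)).of_subset (Set.subset_univ _)

variable [IsAffine S] [CompactSpace X] [QuasiSeparatedSpace X] [M.IsQuasicoherent]
  (I : InjectiveResolution (Coh.toAb M))

/-- a class on `f⁻¹ W₀` which dies locally over `W₀` is zero, for `W₀` a basic open -/
theorem eq_zero_of_locally_zero (W₀ : S.Opens) (hW₀ : W₀ ∈ basicOpens S) (n : ℕ)
    (ξ₀ : Ext (freeSheaf (Opens.grothendieckTopology X) ((Opens.map f.base).obj W₀)) (Coh.toAb M) n)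
    (hloc : ∀ y ∈ W₀, ∃ (V : S.Opens) (h : V ≤ W₀), y ∈ V ∧
      resHom (T := X) (map_le f.base h) n ξ₀ = 0) : ξ₀ = 0 := by
  let A : S.Opens → Prop := fun V => ∃ h : V ≤ W₀, resHom (T := X) (map_le f.base h) n ξ₀ = 0
  have hA : A W₀ := by
    refine local_to_global (T := S) hasSplit_basicOpens (fun W hW => isCompact_of_mem_basicOpens hW)
      A ?_ ?_ ?_ W₀ hW₀ ?_
    · exact ⟨bot_le, ext_eq_zero_of_eq_bot rfl _⟩
    · rintro V' V hV' ⟨h, e⟩
      refine ⟨hV'.trans h, ?_⟩
      rw [← resM_resM (T := X) (homOfLE (map_le f.base h)) (homOfLE (map_le f.base hV'))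
        (homOfLE (map_le f.base (hV'.trans h))) n ξ₀]
      exact (congrArg _ e).trans (map_zero _)
    · rintro W₁ W₂ _ _ hW₁₂ hgood ⟨h₁, e₁⟩ ⟨h₂, e₂⟩
      refine ⟨sup_le h₁ h₂, ?_⟩
      obtain ⟨g, a, b, c, d, N, hN, rfl, rfl⟩ := hgood
      have hN' : (f.appTop g) ^ N = f.appTop c * f.appTop a + f.appTop d * f.appTop b := by
        rw [← map_pow, hN, map_add, map_mul, map_mul]
      have hle : S.basicOpen (g * a) ⊔ S.basicOpen (g * b) ≤ S.basicOpen g := by
        rw [S.basicOpen_mul, S.basicOpen_mul]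
        exact sup_le inf_le_left inf_le_left
      refine eq_zero_of_res_eq_zero M (f.appTop g) (f.appTop a) (f.appTop b) (f.appTop c)
        (f.appTop d) N hN' ((Opens.map f.base).obj (S.basicOpen (g * a) ⊔ S.basicOpen (g * b)))
        ((Opens.map f.base).obj (S.basicOpen (g * a))) ((Opens.map f.base).obj (S.basicOpen (g * b)))
        (isCompact_preimage_of_mem_basicOpens f hW₁₂) (isQuasiSeparated_opens _) ?_
        (map_le f.base le_sup_left) (map_le f.base le_sup_right) ?_ ?_ n _ ?_ ?_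
      · rw [← Scheme.preimage_basicOpen_top]
        exact map_le f.base hle
      · rintro x ⟨hx₁, hx₂⟩
        rw [← Scheme.preimage_basicOpen_top] at hx₂
        have hx₁' : f.base x ∈ S.basicOpen g := hle hx₁
        change f.base x ∈ S.basicOpen (g * a)
        rw [S.basicOpen_mul]
        exact ⟨hx₁', hx₂⟩
      · rintro x ⟨hx₁, hx₂⟩
        rw [← Scheme.preimage_basicOpen_top] at hx₂
        have hx₁' : f.base x ∈ S.basicOpen g := hle hx₁
        change f.base x ∈ S.basicOpen (g * b)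
        rw [S.basicOpen_mul]
        exact ⟨hx₁', hx₂⟩
      · rw [resM_resM (T := X) (homOfLE (map_le f.base (sup_le h₁ h₂)))
          (homOfLE (map_le f.base le_sup_left)) (homOfLE (map_le f.base h₁)) n ξ₀]
        exact e₁
      · rw [resM_resM (T := X) (homOfLE (map_le f.base (sup_le h₁ h₂)))
          (homOfLE (map_le f.base le_sup_right)) (homOfLE (map_le f.base h₂)) n ξ₀]
        exact e₂
    · intro y hy
      obtain ⟨V, h, hyV, e⟩ := hloc y hy
      exact ⟨V, hyV, h, e⟩
  obtain ⟨h, e⟩ := hA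
  have h1 : resHom (T := X) (map_le f.base h) n ξ₀ = ξ₀ := res_id ξ₀
  rw [← h1, e]

omit [IsAffine S] [CompactSpace X] [QuasiSeparatedSpace X] [M.IsQuasicoherent] in
/-- compatibility of the comparison map with restriction (in terms of `resHom`) -/
theorem cmap_resHom {V' V : S.Opens} (h : V' ≤ V) (n : ℕ)
    (ξ : Ext (freeSheaf (Opens.grothendieckTopology X) ((Opens.map f.base).obj V)) (Coh.toAb M) n) :
    (((K f.base I).homology n).obj.map (homOfLE h).op).hom (cmap f.base I V n ξ) =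
      cmap f.base I V' n (resHom (T := X) (map_le f.base h) n ξ) :=
  cmap_res f.base I h n ξ

/-- injectivity of the comparison map on basic opens -/
theorem cmap_eq_zero (W₀ : S.Opens) (hW₀ : W₀ ∈ basicOpens S) (n : ℕ)
    (ξ : Ext (freeSheaf (Opens.grothendieckTopology X) ((Opens.map f.base).obj W₀)) (Coh.toAb M) n)
    (h0 : cmap f.base I W₀ n ξ = 0) : ξ = 0 := by
  refine eq_zero_of_locally_zero f M W₀ hW₀ n ξ (fun y hy => ?_)
  obtain ⟨V', hV', hy', h1⟩ := exists_res_eq_zero f.base I W₀ n ξ h0 y hy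
  exact ⟨V', hV', hy', h1⟩

omit [IsAffine S] in
theorem subsingleton_sections_bot (G : CohTop.Ab S.toTopCat) :
    Subsingleton (G.obj.obj (op (⊥ : S.Opens))) := by
  have h := TopCat.Sheaf.isTerminalOfEmpty (X := S.toTopCat) G
  have hz : IsZero (G.obj.obj (op (⊥ : S.Opens))) :=
    (isZero_zero _).of_iso (h.uniqueUpToIso (HasZeroObject.zeroIsTerminal))
  exact AddCommGrpCat.subsingleton_of_isZero hz

/-- surjectivity of the comparison map on basic opens -/
theorem exists_cmap_eq_of_mem_basicOpens (W₀ : S.Opens) (hW₀ : W₀ ∈ basicOpens S) (n : ℕ)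
    (g₀ : ((K f.base I).homology n).obj.obj (op W₀)) :
    ∃ ξ : Ext (freeSheaf (Opens.grothendieckTopology X) ((Opens.map f.base).obj W₀)) (Coh.toAb M) n,
      cmap f.base I W₀ n ξ = g₀ := by
  let G := (K f.base I).homology n
  let A : S.Opens → Prop := fun V => ∃ h : V ≤ W₀,
    ∃ ξ : Ext (freeSheaf (Opens.grothendieckTopology X) ((Opens.map f.base).obj V)) (Coh.toAb M) n,
      cmap f.base I V n ξ = (G.obj.map (homOfLE h).op).hom g₀
  have hA : A W₀ := by
    refine local_to_global (T := S) hasSplit_basicOpens (fun W hW => isCompact_of_mem_basicOpens hW)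
      A ?_ ?_ ?_ W₀ hW₀ ?_
    · have := subsingleton_sections_bot (S := S) G
      exact ⟨bot_le, 0, Subsingleton.elim _ _⟩
    · rintro V' V hV' ⟨h, ξ, e⟩
      refine ⟨hV'.trans h, resHom (T := X) (map_le f.base hV') n ξ, ?_⟩
      rw [← cmap_resHom f M I hV' n ξ, e]
      rw [← ConcreteCategory.comp_apply, ← Functor.map_comp]
      rfl
    · rintro W₁ W₂ hW₁ hW₂ _ _ ⟨h₁, ξ₁, e₁⟩ ⟨h₂, ξ₂, e₂⟩
      refine ⟨sup_le h₁ h₂, ?_⟩
      -- the two classes agree on the intersection
      have h12 : resHom (T := X) (map_le f.base (inf_le_left : W₁ ⊓ W₂ ≤ W₁)) n ξ₁ =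
          resHom (T := X) (map_le f.base (inf_le_right : W₁ ⊓ W₂ ≤ W₂)) n ξ₂ := by
        rw [← sub_eq_zero]
        refine cmap_eq_zero f M I (W₁ ⊓ W₂) (basicOpens_inf_mem hW₁ hW₂) n _ ?_
        rw [cmap_sub, ← cmap_resHom f M I (inf_le_left : W₁ ⊓ W₂ ≤ W₁) n ξ₁,
          ← cmap_resHom f M I (inf_le_right : W₁ ⊓ W₂ ≤ W₂) n ξ₂, e₁, e₂, sub_eq_zero]
        rw [← ConcreteCategory.comp_apply, ← ConcreteCategory.comp_apply, ← Functor.map_comp,
          ← Functor.map_comp]
        rfl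
      obtain ⟨ξ, hξ₁, hξ₂⟩ := mv_exists_glue (T := X)
        (Opens.mayerVietorisSquare ((Opens.map f.base).obj W₁) ((Opens.map f.base).obj W₂))
        (Coh.toAb M) n ξ₁ ξ₂ h12
      refine ⟨ξ, ?_⟩
      refine TopCat.Sheaf.eq_of_locally_eq₂ G (homOfLE (le_sup_left : W₁ ≤ W₁ ⊔ W₂))
        (homOfLE (le_sup_right : W₂ ≤ W₁ ⊔ W₂)) le_rfl _ _ ?_ ?_
      · have c1 := cmap_resHom f M I (le_sup_left : W₁ ≤ W₁ ⊔ W₂) n ξ
        refine c1.trans ?_
        have : resHom (T := X) (map_le f.base (le_sup_left : W₁ ≤ W₁ ⊔ W₂)) n ξ = ξ₁ := hξ₁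
        rw [this, e₁]
        rw [← ConcreteCategory.comp_apply, ← Functor.map_comp]
        rfl
      · have c1 := cmap_resHom f M I (le_sup_right : W₂ ≤ W₁ ⊔ W₂) n ξ
        refine c1.trans ?_
        have : resHom (T := X) (map_le f.base (le_sup_right : W₂ ≤ W₁ ⊔ W₂)) n ξ = ξ₂ := hξ₂
        rw [this, e₂]
        rw [← ConcreteCategory.comp_apply, ← Functor.map_comp]
        rfl
    · intro y hy
      obtain ⟨V', hV', hy', ξ, hξ⟩ := exists_cmap_eq f.base I W₀ n g₀ y hy
      exact ⟨V', hy', hV', ξ, hξ⟩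
  obtain ⟨h, ξ, e⟩ := hA
  refine ⟨ξ, e.trans ?_⟩
  have : (homOfLE h).op = 𝟙 (op W₀) := rfl
  rw [this, G.obj.map_id]
  rfl

end Groth.Agent.Lead.Rpush
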