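import Mathlib
import Groth.Prelude.Def_CohB1

set_option autoImplicit false
open CategoryTheory Opposite Limits TopologicalSpace AlgebraicGeometry
universe u
namespace Groth.Agent.Lead.Coh

theorem irrelevant_le_span_X (n : ℕ) (R : Type u) [CommRing R] :
    (HomogeneousIdeal.irrelevant (CohB1.polyGrading n R)).toIdeal ≤
      Ideal.span (Set.range (MvPolynomial.X : Fin (n + 1) → MvPolynomial (Fin (n + 1)) R)) := by
  classical
  intro x hx
  rw [HomogeneousIdeal.mem_iff, HomogeneousIdeal.mem_irrelevant_iff, GradedRing.proj_apply] at hx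
  have h0 : MvPolynomial.homogeneousComponent 0 x = 0 := by
    rw [← MvPolynomial.decomposition.decompose'_apply]
    exact hx
  rw [MvPolynomial.homogeneousComponent_zero, MvPolynomial.C_eq_zero] at h0
  rw [← Set.image_univ, MvPolynomial.mem_ideal_span_X_image]
  intro m hm
  have hm0 : m ≠ 0 := by
    rintro rfl
    exact (MvPolynomial.mem_support_iff.mp hm) h0
  obtain ⟨i, hi⟩ := Finsupp.ne_iff.mp hm0
  exact ⟨i, Set.mem_univ _, by simpa using hi⟩

/-- the standard opens `D₊(Xᵢ)` of projective space -/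
noncomputable def stdOpen (n : ℕ) (R : Type u) [CommRing R] (i : Fin (n + 1)) :
    (CohB1.ProjSpace n R).Opens :=
  Proj.basicOpen (CohB1.polyGrading n R) (MvPolynomial.X i)

theorem isAffineOpen_stdOpen (n : ℕ) (R : Type u) [CommRing R] (i : Fin (n + 1)) :
    IsAffineOpen (stdOpen n R i) :=
  Proj.isAffineOpen_basicOpen (CohB1.polyGrading n R) (MvPolynomial.X i) (m := 1)
    (MvPolynomial.isHomogeneous_X R i) Nat.one_pos

theorem iSup_stdOpen (n : ℕ) (R : Type u) [CommRing R] : ⨆ i, stdOpen n R i = ⊤ :=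
  Proj.iSup_basicOpen_eq_top (CohB1.polyGrading n R) _ (irrelevant_le_span_X n R)

instance (n : ℕ) (R : Type u) [CommRing R] : (CohB1.ProjSpace n R).IsSeparated :=
  inferInstanceAs (Scheme.IsSeparated (Proj (CohB1.polyGrading n R)))

theorem isAffineOpen_inf_projSpace (n : ℕ) (R : Type u) [CommRing R]
    (V W : (CohB1.ProjSpace n R).Opens) (hV : IsAffineOpen V) (hW : IsAffineOpen W) :
    IsAffineOpen (V ⊓ W) :=
  hV.inf hW

theorem irrelevant_le_span_of_adjoin_eq_top {A S : Type u} [CommRing A] [CommRing S] [Algebra A S]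
    (𝒜 : ℕ → Submodule A S) [GradedAlgebra 𝒜] {ι : Type*} (g : ι → S)
    (hg : ∀ i, ∃ n, g i ∈ 𝒜 n) (hgen : Algebra.adjoin A (Set.range g) = ⊤) :
    (HomogeneousIdeal.irrelevant 𝒜).toIdeal ≤ Ideal.span (Set.range g) := by
  classical
  intro x hx
  have hx0 : x = x - GradedRing.projZeroRingHom 𝒜 x := by
    rw [GradedRing.projZeroRingHom_apply, ← GradedRing.proj_apply,
      (HomogeneousIdeal.mem_irrelevant_iff _ _).mp hx, sub_zero]
  rw [hx0]
  clear hx hx0
  have hxmem : x ∈ Algebra.adjoin A (Set.range g) := by rw [hgen]; trivial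
  induction hxmem using Algebra.adjoin_induction with
  | mem x hx =>
    obtain ⟨i, rfl⟩ := hx
    obtain ⟨n, hn⟩ := hg i
    rw [GradedRing.projZeroRingHom_apply]
    by_cases hn' : n = 0
    · rw [DirectSum.decompose_of_mem_same 𝒜 (hn' ▸ hn), sub_self]
      exact zero_mem _
    · rw [DirectSum.decompose_of_mem_ne 𝒜 hn hn', sub_zero]
      exact Ideal.subset_span ⟨_, rfl⟩
  | algebraMap r =>
    have h0 : algebraMap A S r ∈ 𝒜 0 := SetLike.algebraMap_mem_graded 𝒜 r
    rw [GradedRing.projZeroRingHom_apply, DirectSum.decompose_of_mem_same 𝒜 h0, sub_self]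
    exact zero_mem _
  | add x y hx hy hx' hy' =>
    rw [map_add, add_sub_add_comm]
    exact add_mem hx' hy'
  | mul x y hx hy hx' hy' =>
    have : x * y - GradedRing.projZeroRingHom 𝒜 (x * y) =
        x * (y - GradedRing.projZeroRingHom 𝒜 y) +
          (x - GradedRing.projZeroRingHom 𝒜 x) * GradedRing.projZeroRingHom 𝒜 y := by
      rw [map_mul]; ring
    rw [this]
    exact add_mem (Ideal.mul_mem_left _ x hy') (Ideal.mul_mem_right _ _ hx')

end Groth.Agent.Lead.Coh
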