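import Mathlib
import Groth.Agent.Lead.Coh.Leray

/-!
Lead library (Čech project), part 5: gluing local lifts when `Ȟ^1` vanishes, and local
surjectivity of epimorphisms of sheaves in terms of families of opens.
-/

set_option autoImplicit false
open CategoryTheory Opposite Limits TopologicalSpace Abelian
universe u
namespace Groth.Agent.Lead.Cech

variable {X : TopCat.{u}}

section chainmap

variable {Y : Type u} [TopologicalSpace Y] {κ : Type u} (W : κ → Opens Y)
  {P Q : (Opens Y)ᵒᵖ ⥤ AddCommGrpCat.{u}} (φ : P ⟶ Q)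

theorem map_d_apply (n : ℕ) (x : (K W P).X n) :
    ((cechComplexFunctor W).map φ).f (n + 1) ((K W P).d n (n + 1) x) =
      (K W Q).d n (n + 1) (((cechComplexFunctor W).map φ).f n x) := by
  have h := ConcreteCategory.congr_hom (((cechComplexFunctor W).map φ).comm n (n + 1)) x
  rw [ConcreteCategory.comp_apply, ConcreteCategory.comp_apply] at h
  exact h.symm

theorem d_d_apply (n : ℕ) (x : (K W P).X n) :
    (K W P).d (n + 1) (n + 2) ((K W P).d n (n + 1) x) = 0 := by
  have h := ConcreteCategory.congr_hom ((K W P).d_comp_d n (n + 1) (n + 2)) x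
  rw [ConcreteCategory.comp_apply] at h
  exact h

theorem exists_d_eq_of_exactAt (n : ℕ) (hex : (K W P).ExactAt (n + 1)) (c : (K W P).X (n + 1))
    (hc : (K W P).d (n + 1) (n + 2) c = 0) : ∃ b : (K W P).X n, (K W P).d n (n + 1) b = c := by
  rw [HomologicalComplex.exactAt_iff' (K W P) n (n + 1) (n + 2) (by simp) (by simp),
    ShortComplex.ab_exact_iff] at hex
  exact hex c hc

theorem exactAt_of_forall_exists_d_eq (n : ℕ)
    (h : ∀ c : (K W P).X (n + 1), (K W P).d (n + 1) (n + 2) c = 0 →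
      ∃ b : (K W P).X n, (K W P).d n (n + 1) b = c) : (K W P).ExactAt (n + 1) := by
  rw [HomologicalComplex.exactAt_iff' (K W P) n (n + 1) (n + 2) (by simp) (by simp),
    ShortComplex.ab_exact_iff]
  exact h

end chainmap

section lift

variable {S : ShortComplex (Sheaf (Opens.grothendieckTopology X) AddCommGrpCat.{u})}
  (hS : S.ShortExact) {κ : Type u} (W : κ → Opens X)

include hS

theorem map_g_map_f_apply (n : ℕ) (b : (K W S.X₁.obj).X n) :
    ((cechComplexFunctor W).map S.g.hom).f n (((cechComplexFunctor W).map S.f.hom).f n b) = 0 := by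
  apply ext_elem
  intro σ
  rw [map_apply, map_apply, map_zero]
  have h := congrArg (fun φ => φ.hom.app (op (cechOpen W σ))) S.zero
  have h2 := ConcreteCategory.congr_hom h (proj W S.X₁.obj n σ b)
  exact h2

/-- if `Ȟ^1(W, S.X₁) = 0`, local lifts of a section of `S.X₃` glue to a lift -/
theorem exists_lift_of_exactAt_one (hex : (K W S.X₁.obj).ExactAt 1)
    (s : S.X₃.obj.obj (op (iSup W)))
    (t : ∀ k, (S.X₂.obj.obj (op (W k)) : Type u))
    (ht : ∀ k, S.g.hom.app (op (W k)) (t k) = S.X₃.obj.map (homOfLE (le_iSup W k)).op s) :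
    ∃ T : S.X₂.obj.obj (op (iSup W)), S.g.hom.app (op (iSup W)) T = s := by
  -- the 0-cochain of local lifts
  let t' : (K W S.X₂.obj).X 0 := (coords W S.X₂.obj 0).symm
    (fun σ => S.X₂.obj.map (homOfLE (cechOpen_le W σ 0)).op (t (σ 0)))
  have ht' : ((cechComplexFunctor W).map S.g.hom).f 0 t' = aug W S.X₃ s := by
    apply ext_elem
    intro σ
    rw [map_apply, proj_coords_symm, aug_apply]
    have hn := ConcreteCategory.congr_hom (S.g.hom.naturality (homOfLE (cechOpen_le W σ 0)).op)
      (t (σ 0))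
    rw [ConcreteCategory.comp_apply, ConcreteCategory.comp_apply] at hn
    rw [hn, ht, map_map_apply]
  have hy : ((cechComplexFunctor W).map S.g.hom).f 1 ((K W S.X₂.obj).d 0 1 t') = 0 := by
    rw [map_d_apply, ht', d_aug_apply]
  obtain ⟨c, hc⟩ := map_f_exact W S.f.hom S.g.hom 1 (fun σ => app_exact hS (cechOpen W σ)) _ hy
  have hdc : (K W S.X₁.obj).d 1 2 c = 0 := by
    apply map_f_injective W S.f.hom 2 (fun σ => app_injective hS (cechOpen W σ))
    rw [map_d_apply, hc, d_d_apply, map_zero]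
  obtain ⟨b, hb⟩ := exists_d_eq_of_exactAt W 0 hex c hdc
  let t'' : (K W S.X₂.obj).X 0 := t' - ((cechComplexFunctor W).map S.f.hom).f 0 b
  have hdt'' : (K W S.X₂.obj).d 0 1 t'' = 0 := by
    change (K W S.X₂.obj).d 0 1 (t' - ((cechComplexFunctor W).map S.f.hom).f 0 b) = 0
    rw [map_sub, ← map_d_apply]
    change _ - ((cechComplexFunctor W).map S.f.hom).f 1 ((K W S.X₁.obj).d 0 1 b) = 0
    rw [hb, hc, sub_self]
  obtain ⟨T, hT⟩ := exists_aug_eq W S.X₂ t'' hdt''
  refine ⟨T, ?_⟩
  apply aug_injective W S.X₃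
  have hnat := ConcreteCategory.congr_hom (aug_naturality W S.g) T
  rw [ConcreteCategory.comp_apply, ConcreteCategory.comp_apply] at hnat
  rw [← hnat, hT]
  change ((cechComplexFunctor W).map S.g.hom).f 0
    (t' - ((cechComplexFunctor W).map S.f.hom).f 0 b) = _
  rw [map_sub, ht', map_g_map_f_apply hS, sub_zero]

/-- epimorphisms of sheaves are locally surjective: a version with families of opens -/
theorem exists_family_lifts (U : Opens X) (s : S.X₃.obj.obj (op U)) :
    ∃ (ι : Type u) (V : ι → Opens X) (hV : ∀ i, V i ≤ U)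
      (_ : ∀ i, ∃ t : S.X₂.obj.obj (op (V i)),
        S.g.hom.app (op (V i)) t = S.X₃.obj.map (homOfLE (hV i)).op s), iSup V = U := by
  haveI : Sheaf.IsLocallySurjective S.g :=
    (Sheaf.isLocallySurjective_iff_epi' AddCommGrpCat.{u} S.g).mpr hS.epi_g
  have hcov := Presheaf.imageSieve_mem (Opens.grothendieckTopology X) S.g.hom s
  let ι : Type u := {V : Opens X // ∃ (h : V ≤ U), ∃ t : S.X₂.obj.obj (op V),
    S.g.hom.app (op V) t = S.X₃.obj.map (homOfLE h).op s}
  refine ⟨ι, fun i => i.1, fun i => i.2.1, fun i => i.2.2, ?_⟩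
  apply le_antisymm
  · exact iSup_le fun i => i.2.1
  · intro x hx
    obtain ⟨V, f, ⟨t, ht⟩, hxV⟩ := hcov x hx
    exact Opens.mem_iSup.mpr ⟨⟨V, leOfHom f, t, ht⟩, hxV⟩

end lift

end Groth.Agent.Lead.Cech
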