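import Groth.Agent.Lead.Coh.SubRange
import Groth.Agent.H47.IdealPowKill
import Groth.Agent.H71.QCoh.SplitSupport
import Groth.Agent.H12.QCohIso
import Groth.Agent.H12.CohOpen
import Groth.Agent.H8.QCohStalk
import Groth.Prelude.Def_FlatMod2

/-!
Lead library: the dévissage of coherent modules on a Noetherian scheme (Noetherian induction on the
support, splitting of reducible supports, filtration by the powers of the ideal of an irreducible
support), in an abstract form: `Groth.Agent.Lead.Devissage.devissage`.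
-/

set_option autoImplicit false
set_option linter.style.haveILetI false
universe u
open CategoryTheory Limits AlgebraicGeometry Opposite TopologicalSpace

namespace Groth.Agent.Lead.Devissage

open Groth.Agent.Lead.SubRange Groth.Agent.Lead.IdealMul

variable {X : Scheme.{u}}

/-- a module with empty support is zero -/
theorem isZero_of_support_eq_empty (M : X.Modules) (h : CohB1.support M = ∅) : IsZero M := by
  have hs : ∀ x : X, Subsingleton (M.presheaf.stalk x) := by
    intro x
    by_contra hx
    have : x ∈ CohB1.support M := hx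
    rw [h] at this
    exact this
  rw [IsZero.iff_id_eq_zero]
  refine Scheme.Modules.hom_ext _ _ fun O => ?_
  ext s
  change (show Γ(M, O) from s) = 0
  refine TopCat.Presheaf.section_ext ⟨M.presheaf, M.isSheaf⟩ _ _ _ fun y _ => ?_
  exact (hs y).elim _ _

/-- `M` is killed by `J^n` on sections over affine opens -/
def Killed (J : X.IdealSheafData) (n : ℕ) (M : X.Modules) : Prop :=
  ∀ (V : X.affineOpens) (a : Γ(X, V.1)), a ∈ J.ideal V ^ n → ∀ s : Γ(M, V.1), a • s = 0

theorem isZero_of_killed_zero (J : X.IdealSheafData) (M : X.Modules) [M.IsQuasicoherent]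
    (h : Killed J 0 M) : IsZero M := by
  refine Groth.Agent.H12.QCohIso.isZero_of_sections_eq_zero M (fun V : X.affineOpens => V.1)
    (fun x => ?_) (fun V => V.2) (fun V t => ?_)
  · obtain ⟨U, hU, hxU, -⟩ := exists_isAffineOpen_mem_and_subset
      (show x ∈ (⊤ : X.Opens) from trivial)
    exact ⟨⟨U, hU⟩, hxU⟩
  · have h1 : (1 : Γ(X, V.1)) ∈ J.ideal V ^ 0 := by
      rw [pow_zero, Ideal.one_eq_top]; trivial
    have := h V 1 h1 t
    rwa [one_smul] at this

/-- if `J^(n+1)` kills `M` then `J^n` kills `J·M` -/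
theorem killed_idealMul (J : X.IdealSheafData) (n : ℕ) (M : X.Modules) [M.IsQuasicoherent]
    (h : Killed J (n + 1) M) : Killed J n ((Dual3.idealMul J).obj M) := by
  intro V a ha x
  apply idealMulι_app_injective J M V.1
  rw [map_zero, Scheme.Modules.Hom.app_smul]
  have hy : (Dual3.idealMulι J M).app V.1 x ∈ rng (Dual3.idealMulι J M) V.1 := ⟨x, rfl⟩
  rw [rng_idealMulι J V.2] at hy
  refine Submodule.smul_induction_on hy (fun b hb m _ => ?_) (fun y z hy hz => ?_)
  · rw [← mul_smul]
    refine h V (a * b) ?_ m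
    rw [pow_succ]
    exact Ideal.mul_mem_mul ha hb
  · rw [smul_add, hy, hz, add_zero]

/-- `M / J·M` is killed by `J` -/
theorem killed_cokernel (J : X.IdealSheafData) (M : X.Modules) [M.IsQuasicoherent] :
    Killed J 1 (cokernel (Dual3.idealMulι J M)) := by
  intro V a ha q
  rw [pow_one] at ha
  haveI : ((Dual3.idealMul J).obj M).IsQuasicoherent := isQuasicoherent_idealMul J M
  haveI : (cokernel (Dual3.idealMulι J M)).IsQuasicoherent :=
    Groth.Agent.H12.QCohAbelian.isQuasicoherent_cokernel _
  obtain ⟨m, rfl⟩ := Groth.Agent.H71.QCoh.app_surjective_of_epi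
    (cokernel.π (Dual3.idealMulι J M)) V.2 q
  rw [← Scheme.Modules.Hom.app_smul]
  have hy : a • m ∈ rng (Dual3.idealMulι J M) V.1 := by
    rw [rng_idealMulι J V.2]
    exact Submodule.smul_mem_smul ha Submodule.mem_top
  obtain ⟨x, hx⟩ := hy
  have hx' : (Dual3.idealMulι J M).app V.1 x = a • m := hx
  rw [← hx', ← ConcreteCategory.comp_apply, ← Scheme.Modules.Hom.comp_app, cokernel.condition]
  rfl

/-- the short exact sequence `0 ⟶ J·M ⟶ M ⟶ M/J·M ⟶ 0` -/
noncomputable def sesIdealMul (J : X.IdealSheafData) (M : X.Modules) : ShortComplex X.Modules :=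
  ShortComplex.mk (Dual3.idealMulι J M) (cokernel.π (Dual3.idealMulι J M)) (cokernel.condition _)

theorem sesIdealMul_shortExact (J : X.IdealSheafData) (M : X.Modules) :
    (sesIdealMul J M).ShortExact :=
  { exact := ShortComplex.exact_cokernel _
    mono_f := (inferInstance : Mono (Dual3.idealMulι J M))
    epi_g := (inferInstance : Epi (cokernel.π (Dual3.idealMulι J M))) }

/-- **Abstract dévissage.** Let `X` be a Noetherian scheme and `P` an isomorphism-invariant property
of `O_X`-modules which holds for zero modules and is closed under extensions of coherent modules.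
Assume that for every irreducible closed `T` and every coherent `M` supported in `T` and killed by
the ideal of `T`, the property `P M` follows from `P N` for all coherent `N` supported in a strictly
smaller closed subset. Then `P` holds for all coherent modules. -/
theorem devissage [IsNoetherian X] (P : X.Modules → Prop)
    (hP : ∀ M N : X.Modules, Nonempty (M ≅ N) → P M → P N)
    (h₀ : ∀ M : X.Modules, IsZero M → P M)
    (h₁ : ∀ S : ShortComplex X.Modules, S.ShortExact → Coh.IsCoh S.X₁ → Coh.IsCoh S.X₂ →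
      Coh.IsCoh S.X₃ → P S.X₁ → P S.X₃ → P S.X₂)
    (h₂ : ∀ T : Closeds X, IsIrreducible (T : Set X) → ∀ M : X.Modules, Coh.IsCoh M →
      CohB1.support M ⊆ (T : Set X) → Killed (Scheme.IdealSheafData.vanishingIdeal T) 1 M →
      (∀ (T' : Closeds X), T' < T → ∀ N : X.Modules, Coh.IsCoh N →
        CohB1.support N ⊆ (T' : Set X) → P N) → P M)
    (M : X.Modules) (hM : Coh.IsCoh M) : P M := by
  classical
  have key : ∀ T : Closeds X, ∀ M : X.Modules, Coh.IsCoh M →
      CohB1.support M ⊆ (T : Set X) → P M := by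
    intro T
    induction T using WellFoundedLT.induction with
    | ind T IH =>
    intro M hM hsupp
    obtain ⟨hMq, hMf⟩ := hM
    haveI : M.IsQuasicoherent := hMq
    haveI : SheafOfModules.IsFiniteType (R := X.ringCatSheaf) M := hMf
    have hcl : IsClosed (CohB1.support M) := Groth.Agent.H71.QCoh.isClosed_support M
    by_cases hST : CohB1.support M = (T : Set X)
    swap
    · -- the support is strictly smaller than `T`
      refine IH ⟨CohB1.support M, hcl⟩ ?_ M ⟨hMq, hMf⟩ (le_refl _)
      refine lt_of_le_of_ne hsupp (fun h => hST ?_)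
      exact congrArg (fun C : Closeds X => (C : Set X)) h
    by_cases hTne : (T : Set X).Nonempty
    swap
    · apply h₀
      apply isZero_of_support_eq_empty
      rw [hST]
      exact Set.not_nonempty_iff_eq_empty.1 hTne
    by_cases hirr : IsPreirreducible (T : Set X)
    · -- `T` irreducible: filtration by powers of the ideal of `T`
      set J := Scheme.IdealSheafData.vanishingIdeal T with hJ
      have hsub : ∀ n : ℕ, ∀ M : X.Modules, Coh.IsCoh M → CohB1.support M ⊆ (T : Set X) →
          Killed J n M → P M := by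
        intro n
        induction n with
        | zero =>
          intro M hM _ hk
          haveI : M.IsQuasicoherent := hM.1
          exact h₀ M (isZero_of_killed_zero J M hk)
        | succ n ihn =>
          intro M hM hs hk
          obtain ⟨hMq, hMf⟩ := hM
          haveI : M.IsQuasicoherent := hMq
          haveI : SheafOfModules.IsFiniteType (R := X.ringCatSheaf) M := hMf
          haveI hq1 : ((Dual3.idealMul J).obj M).IsQuasicoherent := isQuasicoherent_idealMul J M
          have hf1 : SheafOfModules.IsFiniteType (R := X.ringCatSheaf) ((Dual3.idealMul J).obj M) :=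
            Groth.Agent.H71.QCoh.isFiniteType_of_mono (Dual3.idealMulι J M)
          haveI hq3 : (cokernel (Dual3.idealMulι J M)).IsQuasicoherent :=
            Groth.Agent.H12.QCohAbelian.isQuasicoherent_cokernel _
          have hf3 : SheafOfModules.IsFiniteType (R := X.ringCatSheaf)
              (cokernel (Dual3.idealMulι J M)) :=
            @Groth.Agent.H71.QCoh.isFiniteType_of_epi X M (cokernel (Dual3.idealMulι J M)) _ hq3 _
              (cokernel.π (Dual3.idealMulι J M)) _
          have hsupp : CohB1.support M = CohB1.support ((Dual3.idealMul J).obj M) ∪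
              CohB1.support (cokernel (Dual3.idealMulι J M)) :=
            Groth.Agent.H71.QCoh.support_eq_union_of_shortExact (sesIdealMul J M)
              (sesIdealMul_shortExact J M)
          have hs1 : CohB1.support ((Dual3.idealMul J).obj M) ⊆ (T : Set X) :=
            fun x hx => hs (by rw [hsupp]; exact Or.inl hx)
          have hs3 : CohB1.support (cokernel (Dual3.idealMulι J M)) ⊆ (T : Set X) :=
            fun x hx => hs (by rw [hsupp]; exact Or.inr hx)
          have hP1 : P ((Dual3.idealMul J).obj M) :=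
            ihn _ ⟨hq1, hf1⟩ hs1 (killed_idealMul J n M hk)
          have hP3 : P (cokernel (Dual3.idealMulι J M)) :=
            h₂ T ⟨hTne, hirr⟩ _ ⟨hq3, hf3⟩ hs3 (killed_cokernel J M)
              (fun T' hT' N hN hsN => IH T' hT' N hN hsN)
          exact h₁ (sesIdealMul J M) (sesIdealMul_shortExact J M) ⟨hq1, hf1⟩ ⟨hMq, hMf⟩
            ⟨hq3, hf3⟩ hP1 hP3
      have hsJ : CohB1.support M ⊆ (J.support : Set X) := by
        rw [hJ, Scheme.IdealSheafData.coe_support_vanishingIdeal]
        exact hsupp
      obtain ⟨n, hn⟩ := Groth.Agent.H47.IdealPowKill.main X M J hsJ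
      exact hsub n M ⟨hMq, hMf⟩ hsupp hn
    · -- `T` reducible: split the support
      rw [isPreirreducible_iff_isClosed_union_isClosed] at hirr
      push_neg at hirr
      obtain ⟨Z₁, Z₂, hZ₁, hZ₂, hT12, hn1, hn2⟩ := hirr
      have hc1 : IsClosed ((T : Set X) ∩ Z₁) := T.isClosed.inter hZ₁
      have hc2 : IsClosed ((T : Set X) ∩ Z₂) := T.isClosed.inter hZ₂
      have hun : CohB1.support M = ((T : Set X) ∩ Z₁) ∪ ((T : Set X) ∩ Z₂) := by
        rw [hST, ← Set.inter_union_distrib_left]
        exact (Set.inter_eq_left.2 hT12).symm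
      obtain ⟨S, hS, ⟨e⟩, ⟨q1, f1⟩, ⟨q3, f3⟩, hs1, hs3⟩ :=
        Groth.Agent.H71.QCoh.exists_shortExact_split_support M _ _ hc1 hc2 hun
      have hlt1 : (⟨(T : Set X) ∩ Z₁, hc1⟩ : Closeds X) < T := by
        refine lt_of_le_of_ne (fun x hx => hx.1) (fun h => hn1 ?_)
        have h' : (T : Set X) ∩ Z₁ = (T : Set X) := congrArg (fun C : Closeds X => (C : Set X)) h
        intro x hx
        have hx' : x ∈ (T : Set X) ∩ Z₁ := by rw [h']; exact hx
        exact hx'.2
      have hlt2 : (⟨(T : Set X) ∩ Z₂, hc2⟩ : Closeds X) < T := by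
        refine lt_of_le_of_ne (fun x hx => hx.1) (fun h => hn2 ?_)
        have h' : (T : Set X) ∩ Z₂ = (T : Set X) := congrArg (fun C : Closeds X => (C : Set X)) h
        intro x hx
        have hx' : x ∈ (T : Set X) ∩ Z₂ := by rw [h']; exact hx
        exact hx'.2
      have hP1 : P S.X₁ := IH _ hlt2 S.X₁ ⟨q1, f1⟩ hs1
      have hP3 : P S.X₃ := IH _ hlt1 S.X₃ ⟨q3, f3⟩ hs3
      have hq2 : S.X₂.IsQuasicoherent :=
        Groth.Agent.H12.QCohAbelian.isQuasicoherent_of_iso e.symm
      have hf2 : SheafOfModules.IsFiniteType (R := X.ringCatSheaf) S.X₂ :=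
        Groth.Agent.H12.CohOpen.isFiniteType_of_iso e hMf
      exact hP _ _ ⟨e⟩ (h₁ S hS ⟨q1, f1⟩ ⟨hq2, hf2⟩ ⟨q3, f3⟩ hP1 hP3)
  exact key ⊤ M hM (fun x _ => trivial)

/-- a module killed by the ideal of the irreducible closed set `closure {ξ}` has its stalk at `ξ`
killed by the maximal ideal of the local ring at `ξ` -/
theorem smul_stalk_eq_zero_of_killed (T : Closeds X) (ξ : X) (hξ : closure {ξ} = (T : Set X))
    (M : X.Modules) [M.IsQuasicoherent]
    (hk : Killed (Scheme.IdealSheafData.vanishingIdeal T) 1 M) :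
    ∀ a ∈ IsLocalRing.maximalIdeal (X.presheaf.stalk ξ), ∀ m : ↑(M.presheaf.stalk ξ),
      a • m = 0 := by
  intro a ha m
  obtain ⟨W, hW, hξW, -⟩ := exists_isAffineOpen_mem_and_subset
    (show ξ ∈ (⊤ : X.Opens) from trivial)
  letI := Groth.Agent.H8.stalkModule M hξW
  haveI := Groth.Agent.H8.isLocalizedModule_germₗ M hW hξW
  letI : Algebra Γ(X, W) (X.presheaf.stalk ξ) :=
    TopCat.Presheaf.algebra_section_stalk X.presheaf ⟨ξ, hξW⟩
  haveI := hW.isLocalization_stalk ⟨ξ, hξW⟩
  set p₀ := hW.primeIdealOf ⟨ξ, hξW⟩ with hp₀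
  obtain ⟨⟨s, t⟩, hst⟩ := IsLocalizedModule.surj p₀.asIdeal.primeCompl
    (Groth.Agent.H8.germₗ M hξW) m
  obtain ⟨⟨a', t'⟩, hat⟩ := IsLocalization.surj p₀.asIdeal.primeCompl a
  have ha' : a' ∈ p₀.asIdeal := by
    have h1 : algebraMap Γ(X, W) (X.presheaf.stalk ξ) a' ∈
        IsLocalRing.maximalIdeal (X.presheaf.stalk ξ) := by
      rw [← hat]
      exact Ideal.mul_mem_right _ _ ha
    exact (IsLocalization.AtPrime.to_map_mem_maximal_iff (X.presheaf.stalk ξ) p₀.asIdeal a').mp h1
  have ha'J : a' ∈ (Scheme.IdealSheafData.vanishingIdeal T).ideal ⟨W, hW⟩ := by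
    rw [Scheme.IdealSheafData.vanishingIdeal_ideal, PrimeSpectrum.mem_vanishingIdeal]
    intro q hq
    have hq' : hW.fromSpec q ∈ closure {hW.fromSpec p₀} := by
      rw [hW.fromSpec_primeIdealOf ⟨ξ, hξW⟩, hξ]
      exact hq
    have h2 := (hW.fromSpec.isOpenEmbedding.isInducing.specializes_iff).1
      (specializes_iff_mem_closure.2 hq')
    have h3 : p₀ ≤ q := (PrimeSpectrum.le_iff_specializes p₀ q).2 h2
    exact h3 ha'
  have h0 : a' • s = 0 := hk ⟨W, hW⟩ a' (by rw [pow_one]; exact ha'J) s
  have hu : IsUnit (algebraMap Γ(X, W) (X.presheaf.stalk ξ) t') :=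
    IsLocalization.map_units (X.presheaf.stalk ξ) t'
  have hv : IsUnit (algebraMap Γ(X, W) (X.presheaf.stalk ξ) t) :=
    IsLocalization.map_units (X.presheaf.stalk ξ) t
  have h1 : (algebraMap Γ(X, W) (X.presheaf.stalk ξ) a') •
      (Groth.Agent.H8.germₗ M hξW s) = 0 := by
    have h11 : a' • Groth.Agent.H8.germₗ M hξW s = 0 := by
      rw [← map_smul, h0, map_zero]
    exact h11
  have h2 : (algebraMap Γ(X, W) (X.presheaf.stalk ξ) t) • m = Groth.Agent.H8.germₗ M hξW s := hst
  have h3 : (algebraMap Γ(X, W) (X.presheaf.stalk ξ) t' *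
      algebraMap Γ(X, W) (X.presheaf.stalk ξ) t) • (a • m) = 0 := by
    rw [smul_smul, mul_assoc, mul_comm _ a, ← mul_assoc, mul_comm _ a, hat, ← smul_smul, h2, h1]
  exact (hu.mul hv).smul_eq_zero.1 h3

end Groth.Agent.Lead.Devissage
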