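import Mathlib.CategoryTheory.Abelian.Refinements
import Mathlib.Algebra.Homology.ShortComplex.ShortExact
import Mathlib.CategoryTheory.Abelian.Basic

/-!
# Filtrations with prescribed quotients in an abelian category (lead)

Abstract bookkeeping for statements of the form "every object of a class admits a finite filtration
with successive quotients in a class `good`".

* `pre g c`: the preimage `g⁻¹(D')` of a subobject `c : D' ⟶ D` under `g : B ⟶ D` (as a kernel), with
  `preι`, `preπ`, `preLift`, `pre_shortExact`, `cokernelPreιIso`.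
* `Q coh good`: the class of objects obtained from zero objects by successively adding a `good`
  quotient on top; `Q.of_iso`, `Q.coh`, `Q.extension` (closed under extensions), `Q.exists_desc`,
  `Q.exists_asc` (explicit ℕ-indexed chains).
-/

set_option autoImplicit false
set_option linter.style.haveILetI false
set_option linter.unusedSectionVars false

universe v u

namespace Groth.Agent.Lead.ExtFilt

open CategoryTheory CategoryTheory.Limits

variable {C : Type u} [Category.{v} C] [Abelian C]

section Preimage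

variable {A B D D' : C} (f : A ⟶ B) (g : B ⟶ D) (w : f ≫ g = 0) (c : D' ⟶ D)

/-- the preimage of the subobject `c` under `g` -/
noncomputable abbrev pre : C := kernel (g ≫ cokernel.π c)

/-- the inclusion of the preimage -/
noncomputable abbrev preι : pre g c ⟶ B := kernel.ι _

theorem preι_quot : preι g c ≫ g ≫ cokernel.π c = 0 := kernel.condition _

variable [Mono c]

/-- the projection from the preimage to the subobject -/
noncomputable def preπ : pre g c ⟶ D' :=
  Abelian.monoLift c (preι g c ≫ g) (by rw [Category.assoc, preι_quot])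

@[reassoc]
theorem preπ_comp : preπ g c ≫ c = preι g c ≫ g := Abelian.monoLift_comp _ _ _

/-- the kernel of `g` maps to the preimage -/
noncomputable def preLift : A ⟶ pre g c :=
  kernel.lift _ f (by rw [← Category.assoc, w, zero_comp])

@[reassoc]
theorem preLift_ι : preLift f g w c ≫ preι g c = f := kernel.lift_ι _ _ _

@[reassoc]
theorem preLift_π : preLift f g w c ≫ preπ g c = 0 := by
  rw [← cancel_mono c, Category.assoc, preπ_comp, preLift_ι_assoc, w, zero_comp]

theorem pre_shortExact (hS : (ShortComplex.mk f g w).ShortExact) :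
    (ShortComplex.mk (preLift f g w c) (preπ g c) (preLift_π f g w c)).ShortExact := by
  haveI : Mono f := hS.mono_f
  haveI : Epi g := hS.epi_g
  haveI : Mono (preLift f g w c) := by
    have : Mono (preLift f g w c ≫ preι g c) := by rw [preLift_ι]; infer_instance
    exact mono_of_mono _ (preι g c)
  have hepi : Epi (preπ g c) := by
    rw [epi_iff_surjective_up_to_refinements]
    intro T y
    obtain ⟨T', π, hπ, x₀, hx₀⟩ := surjective_up_to_refinements_of_epi g (y ≫ c)
    have hk : x₀ ≫ g ≫ cokernel.π c = 0 := by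
      rw [← Category.assoc, ← hx₀, Category.assoc, Category.assoc, cokernel.condition, comp_zero,
        comp_zero]
    have h1 : kernel.lift (g ≫ cokernel.π c) x₀ hk ≫ preι g c = x₀ := kernel.lift_ι _ _ _
    refine ⟨T', π, hπ, kernel.lift _ x₀ hk, ?_⟩
    rw [← cancel_mono c, Category.assoc, Category.assoc, preπ_comp, ← Category.assoc _ _ g, h1]
    exact hx₀
  refine ShortComplex.ShortExact.mk' ?_ inferInstance hepi
  refine ShortComplex.exact_of_f_is_kernel _ ?_
  have hlift : ∀ {W : C} (x : W ⟶ pre g c), x ≫ preπ g c = 0 → (x ≫ preι g c) ≫ g = 0 := by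
    intro W x hx
    rw [Category.assoc, ← preπ_comp, ← Category.assoc, hx, zero_comp]
  refine KernelFork.IsLimit.ofι _ _ (fun {W} x hx => hS.exact.lift (x ≫ preι g c) (hlift x hx))
    (fun {W} x hx => ?_) (fun {W} x hx m hm => ?_)
  · rw [← cancel_mono (preι g c), Category.assoc]
    dsimp
    rw [preLift_ι]
    exact hS.exact.lift_f _ _
  · rw [← cancel_mono (preLift f g w c)]
    dsimp at hm ⊢
    rw [hm, ← cancel_mono (preι g c), Category.assoc, preLift_ι]
    exact (hS.exact.lift_f _ _).symm

/-- third isomorphism theorem: `B / g⁻¹(D') ≅ D / D'` for an epimorphism `g` -/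
noncomputable def cokernelPreιIso [Epi g] : cokernel (preι g c) ≅ cokernel c := by
  haveI : Epi (g ≫ cokernel.π c) := epi_comp _ _
  have h := Abelian.epiIsCokernelOfKernel (f := g ≫ cokernel.π c)
    (KernelFork.ofι (kernel.ι (g ≫ cokernel.π c)) (kernel.condition _)) (kernelIsKernel _)
  exact (colimit.isColimit (parallelPair (kernel.ι (g ≫ cokernel.π c)) 0)).coconePointUniqueUpToIso h

end Preimage

section Class

variable (coh good : C → Prop)

/-- the class of objects obtained from zero objects by successively adding a `good` quotient on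
top (all intermediate objects satisfying `coh`) -/
inductive Q : C → Prop
  | zero (M : C) : IsZero M → Q M
  | ext (A M : C) (f : A ⟶ M) : Mono f → coh A → coh M → Q A → good (cokernel f) → Q M

variable {coh good}

theorem Q.of_iso (hgi : ∀ Y Y' : C, (Y ≅ Y') → good Y → good Y')
    (hci : ∀ M N : C, (M ≅ N) → coh M → coh N) {M N : C} (e : M ≅ N) (h : Q coh good M) :
    Q coh good N := by
  cases h with
  | zero _ hz => exact Q.zero _ (hz.of_iso e.symm)
  | ext A _ f hf hA hM hQA hg =>
    haveI := hf
    exact Q.ext A N (f ≫ e.hom) (mono_comp _ _) hA (hci _ _ e hM) hQA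
      (hgi _ _ (cokernelCompIsIso f e.hom).symm hg)

theorem Q.isCoh (hcz : ∀ M : C, IsZero M → coh M) {M : C} (h : Q coh good M) : coh M := by
  cases h with
  | zero _ hz => exact hcz _ hz
  | ext A _ f hf hA hM hQA hg => exact hM

/-- the class `Q` is closed under extensions -/
theorem Q.extension (hgi : ∀ Y Y' : C, (Y ≅ Y') → good Y → good Y')
    (hci : ∀ M N : C, (M ≅ N) → coh M → coh N)
    (hck : ∀ (B E : C) (q : B ⟶ E), coh B → coh E → coh (kernel q))
    (hcc : ∀ (D' D : C) (c : D' ⟶ D), coh D' → coh D → coh (cokernel c))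
    {D : C} (hD : Q coh good D) :
    ∀ {A B : C} (f : A ⟶ B) (g : B ⟶ D) (w : f ≫ g = 0),
      (ShortComplex.mk f g w).ShortExact → coh A → coh B → Q coh good A → Q coh good B := by
  induction hD with
  | zero D hz =>
    intro A B f g w hS hA hB hQA
    haveI : Mono f := hS.mono_f
    haveI : Epi f := hS.exact.epi_f (hz.eq_of_tgt _ _)
    haveI : IsIso f := isIso_of_mono_of_epi f
    exact Q.of_iso hgi hci (asIso f) hQA
  | ext D' D c hc hD' hDc hQD' hgood ih =>
    intro A B f g w hS hA hB hQA
    haveI := hc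
    haveI : Epi g := hS.epi_g
    have hB' : coh (pre g c) := hck _ _ (g ≫ cokernel.π c) hB (hcc _ _ c hD' hDc)
    have hQB' : Q coh good (pre g c) :=
      ih (preLift f g w c) (preπ g c) (preLift_π f g w c) (pre_shortExact f g w c hS) hA hB' hQA
    exact Q.ext (pre g c) B (preι g c) inferInstance hB' hB hQB'
      (hgi _ _ (cokernelPreιIso g c).symm hgood)

/-- prepend an object to a sequence -/
def consObj (M : C) (D : ℕ → C) : ℕ → C
  | 0 => M
  | k + 1 => D k

/-- prepend a morphism to a descending sequence -/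
def consMap (M : C) (D : ℕ → C) (δ : ∀ k, D (k + 1) ⟶ D k) (f : D 0 ⟶ M) :
    ∀ k, consObj M D (k + 1) ⟶ consObj M D k
  | 0 => f
  | k + 1 => δ k

/-- explicit descending chain for an object of `Q` -/
theorem Q.exists_desc (hgi : ∀ Y Y' : C, (Y ≅ Y') → good Y → good Y')
    (hcz : ∀ M : C, IsZero M → coh M) {M : C} (h : Q coh good M) :
    ∃ (m : ℕ) (D : ℕ → C) (δ : ∀ k, D (k + 1) ⟶ D k), Nonempty (D 0 ≅ M) ∧ IsZero (D m) ∧
      (∀ k ≤ m, coh (D k)) ∧ ∀ k < m, Mono (δ k) ∧ good (cokernel (δ k)) := by
  induction h with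
  | zero M hz =>
    exact ⟨0, fun _ => M, fun _ => 𝟙 M, ⟨Iso.refl _⟩, hz, fun k _ => hcz M hz,
      fun k hk => absurd hk (Nat.not_lt_zero k)⟩
  | ext A M f hf hA hM hQA hg ih =>
    obtain ⟨m, D, δ, ⟨e⟩, hz, hc, hstep⟩ := ih
    haveI := hf
    refine ⟨m + 1, consObj M D, consMap M D δ (e.hom ≫ f), ⟨Iso.refl _⟩, hz, ?_, ?_⟩
    · intro k hk
      cases k with
      | zero => exact hM
      | succ k => exact hc k (Nat.le_of_succ_le_succ hk)
    · intro k hk
      cases k with
      | zero =>
        exact ⟨(inferInstance : Mono (e.hom ≫ f)),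
          hgi _ _ (cokernelEpiComp e.hom f).symm hg⟩
      | succ k => exact hstep k (Nat.lt_of_succ_lt_succ hk)

/-- explicit ascending chain for an object of `Q` -/
theorem Q.exists_asc (hgi : ∀ Y Y' : C, (Y ≅ Y') → good Y → good Y')
    (hcz : ∀ M : C, IsZero M → coh M) {M : C} (h : Q coh good M) :
    ∃ (m : ℕ) (F : ℕ → C) (φ : ∀ j, F j ⟶ F (j + 1)), IsZero (F 0) ∧ Nonempty (F m ≅ M) ∧
      (∀ j ≤ m, coh (F j)) ∧ ∀ j < m, Mono (φ j) ∧ good (cokernel (φ j)) := by
  obtain ⟨m, D, δ, ⟨e⟩, hz, hc, hstep⟩ := h.exists_desc hgi hcz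
  have key : ∀ j, j < m → m - j = (m - (j + 1)) + 1 := fun j hj => by omega
  refine ⟨m, fun j => D (m - j),
    fun j => if hj : j < m then eqToHom (congrArg D (key j hj)) ≫ δ (m - (j + 1)) else 0,
    hz, ?_, ?_, ?_⟩
  · dsimp only
    rw [Nat.sub_self]
    exact ⟨e⟩
  · intro j _
    exact hc _ (Nat.sub_le _ _)
  · intro j hj
    have aux : ∀ ψ : D (m - j) ⟶ D (m - (j + 1)),
        ψ = eqToHom (congrArg D (key j hj)) ≫ δ (m - (j + 1)) →
          Mono ψ ∧ good (cokernel ψ) := by
      rintro ψ rfl
      obtain ⟨h1, h2⟩ := hstep (m - (j + 1)) (by omega)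
      haveI := h1
      exact ⟨mono_comp _ _, hgi _ _ (cokernelEpiComp _ _).symm h2⟩
    exact aux _ (dif_pos hj)

end Class

end Groth.Agent.Lead.ExtFilt
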