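import Groth.Agent.H12.AffHomCrit
import Groth.Agent.H71.QCoh.PushFT
import Groth.Agent.H44.FiniteSections
import Groth.Agent.S0019

/-!
Lead library: finite coproducts `∐ fun _ : Fin r => I` of copies of a module: finite type, the split
short exact sequences `0 ⟶ I ⟶ I^(r+1) ⟶ I^r ⟶ 0`, and the induction they give for a property
closed under extensions after pushing forward along a finite morphism.
-/

set_option autoImplicit false
set_option linter.style.haveILetI false
universe u
open CategoryTheory Limits AlgebraicGeometry Opposite TopologicalSpace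

namespace Groth.Agent.Lead.SigmaSplit

open Groth.Agent.H12.AffHomCrit

variable {Z : Scheme.{u}}

/-- a finite coproduct of quasi-coherent modules of finite type is of finite type -/
theorem isFiniteType_sigma {n : ℕ} (J : Fin n → Z.Modules) [∀ k, (J k).IsQuasicoherent]
    (h : ∀ k, SheafOfModules.IsFiniteType (R := Z.ringCatSheaf) (J k)) :
    SheafOfModules.IsFiniteType (R := Z.ringCatSheaf) (∐ J) := by
  refine Groth.Agent.H71.QCoh.isFiniteType_of_finite_sections_cover (∐ J)
    (fun W : Z.affineOpens => W.1) (iSup_affineOpens_eq_top Z) (fun W => W.2) ?_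
  intro W
  haveI : ∀ k, Module.Finite Γ(Z, W.1) Γ(J k, W.1) := fun k =>
    haveI := h k
    Groth.Agent.H44.finite_sections_of_isFiniteType (J k) W.2
  let φ : (∀ k, Γ(J k, W.1)) →ₗ[Γ(Z, W.1)] Γ(∐ J, W.1) :=
    { toFun := fun x => ∑ k, ((Sigma.ι J k).app W.1).hom (x k)
      map_add' := fun x y => by
        simp only [Pi.add_apply, map_add, Finset.sum_add_distrib]
      map_smul' := fun r x => by
        simp only [Pi.smul_apply, RingHom.id_apply, Finset.smul_sum]
        refine Finset.sum_congr rfl fun k _ => ?_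
        exact Scheme.Modules.Hom.app_smul (Sigma.ι J k) r (x k) }
  refine Module.Finite.of_surjective φ (fun y => ?_)
  refine ⟨fun k => ((sproj J k).app W.1).hom y, ?_⟩
  have := congrArg (Groth.Agent.H12.SerreCrit.evalHom (N := ∐ J) W.1 y) (sum_sproj_ι J)
  rw [map_sum] at this
  exact this

section Split

variable (I : Z.Modules) (k : ℕ)

/-- the copower `I^k` -/
noncomputable abbrev pow (k : ℕ) : Z.Modules := ∐ fun _ : Fin k => I

/-- inclusion of the first summand `I ⟶ I^(k+1)` -/
noncomputable def inl : I ⟶ pow I (k + 1) := Sigma.ι (fun _ : Fin (k + 1) => I) 0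

/-- projection to the last `k` summands `I^(k+1) ⟶ I^k` -/
noncomputable def pr : pow I (k + 1) ⟶ pow I k :=
  Sigma.desc (fun j : Fin (k + 1) =>
    Fin.cases (motive := fun _ => I ⟶ pow I k) 0 (fun j' => Sigma.ι (fun _ : Fin k => I) j') j)

/-- projection to the first summand -/
noncomputable def retr : pow I (k + 1) ⟶ I :=
  Sigma.desc (fun j : Fin (k + 1) => Fin.cases (motive := fun _ => I ⟶ I) (𝟙 I) (fun _ => 0) j)

/-- inclusion of the last `k` summands -/
noncomputable def sec : pow I k ⟶ pow I (k + 1) :=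
  Sigma.desc (fun j' : Fin k => Sigma.ι (fun _ : Fin (k + 1) => I) j'.succ)

theorem inl_pr : inl I k ≫ pr I k = 0 := by
  unfold inl pr
  rw [Sigma.ι_desc]
  rfl

theorem inl_retr : inl I k ≫ retr I k = 𝟙 I := by
  unfold inl retr
  rw [Sigma.ι_desc]
  rfl

theorem sec_pr : sec I k ≫ pr I k = 𝟙 _ := by
  apply Sigma.hom_ext
  intro j
  unfold sec pr
  rw [Sigma.ι_desc_assoc, Sigma.ι_desc, Category.comp_id]
  rfl

theorem retr_inl_add : retr I k ≫ inl I k + pr I k ≫ sec I k = 𝟙 _ := by
  apply Sigma.hom_ext
  intro j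
  rw [Preadditive.comp_add, Category.comp_id]
  unfold retr pr
  rw [Sigma.ι_desc_assoc, Sigma.ι_desc_assoc]
  refine Fin.cases ?_ (fun j' => ?_) j
  · simp only [Fin.cases_zero, Category.id_comp, zero_comp, add_zero]
    rfl
  · simp only [Fin.cases_succ, zero_comp, zero_add]
    unfold sec
    rw [Sigma.ι_desc]

/-- the split short exact sequence `0 ⟶ I ⟶ I^(k+1) ⟶ I^k ⟶ 0` -/
noncomputable def ses : ShortComplex Z.Modules := ShortComplex.mk (inl I k) (pr I k) (inl_pr I k)

/-- its splitting -/
noncomputable def splitting : (ses I k).Splitting where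
  r := retr I k
  s := sec I k
  f_r := inl_retr I k
  s_g := sec_pr I k
  id := retr_inl_add I k

theorem isZero_pow_zero : IsZero (pow I 0) := by
  rw [IsZero.iff_id_eq_zero]
  apply Sigma.hom_ext
  intro j
  exact j.elim0

end Split

theorem isCoh_pow (I : Z.Modules) (hI : Coh.IsCoh I) (k : ℕ) : Coh.IsCoh (pow I k) := by
  haveI : I.IsQuasicoherent := hI.1
  exact ⟨isQuasicoherent_sigma _, isFiniteType_sigma _ (fun _ => hI.2)⟩

/-- a property of modules closed under extensions of coherent modules, holding for zero modules and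
for `i_* I`, holds for `i_* (I^r)` (`i` finite, target locally Noetherian) -/
theorem prop_push_pow {X : Scheme.{u}} [IsLocallyNoetherian X] (i : Z ⟶ X) [IsFinite i]
    (P : X.Modules → Prop) (h₀ : ∀ M : X.Modules, IsZero M → P M)
    (h₁ : ∀ S : ShortComplex X.Modules, S.ShortExact → Coh.IsCoh S.X₁ → Coh.IsCoh S.X₂ →
      Coh.IsCoh S.X₃ → P S.X₁ → P S.X₃ → P S.X₂)
    (I : Z.Modules) (hI : Coh.IsCoh I) (hPI : P ((Scheme.Modules.pushforward i).obj I)) (r : ℕ) :
    P ((Scheme.Modules.pushforward i).obj (pow I r)) := by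
  induction r with
  | zero => exact h₀ _ ((Scheme.Modules.pushforward i).map_isZero (isZero_pow_zero I))
  | succ r ih =>
    have hS : ((ses I r).map (Scheme.Modules.pushforward i)).ShortExact :=
      ((splitting I r).map (Scheme.Modules.pushforward i)).shortExact
    exact h₁ _ hS (Groth.Agent.S0019.result i I hI)
      (Groth.Agent.S0019.result i _ (isCoh_pow I hI (r + 1)))
      (Groth.Agent.S0019.result i _ (isCoh_pow I hI r)) hPI ih

end Groth.Agent.Lead.SigmaSplit
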