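import Mathlib
import Groth.Prelude.Def_Coh
import Groth.Agent.H18.QCohLocalize
import Groth.Agent.Lead.Coh.MVVanish
import Groth.Agent.Lead.Coh.Top

/-!
Lead library (Zariski cohomology project), part 6: Serre's vanishing theorem on affine schemes.
The basic opens of an affine scheme form a "good basis" for every quasi-coherent module, hence the
higher cohomology of quasi-coherent modules vanishes on all basic opens, in particular on `X`.
-/

set_option autoImplicit false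
open CategoryTheory Opposite Limits TopologicalSpace AlgebraicGeometry Abelian
universe u
namespace Groth.Agent.Lead.Coh
open Groth.Agent.H18

theorem mem_radical_of_zeroLocus_subset (X : Scheme.{u}) [IsAffine X] (s : Set Γ(X, ⊤))
    (f : Γ(X, ⊤)) (h : X.zeroLocus s ⊆ X.zeroLocus {f}) : f ∈ (Ideal.span s).radical := by
  have key : PrimeSpectrum.zeroLocus s ⊆ PrimeSpectrum.zeroLocus {f} := by
    have h1 := X.isoSpec_image_zeroLocus s
    have h2 := X.isoSpec_image_zeroLocus {f}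
    rw [← h1, ← h2]
    exact Set.image_mono h
  rw [← PrimeSpectrum.zeroLocus_span s, ← PrimeSpectrum.zeroLocus_span {f},
    PrimeSpectrum.zeroLocus_subset_zeroLocus_iff, Ideal.span_le, Set.singleton_subset_iff] at key
  exact key

theorem affine_split (X : Scheme.{u}) [IsAffine X] (f : Γ(X, ⊤)) (V₁ V₂ : X.Opens)
    (h : X.basicOpen f ≤ V₁ ⊔ V₂) :
    ∃ h₁ h₂ : Γ(X, ⊤), X.basicOpen f = X.basicOpen (f * h₁) ⊔ X.basicOpen (f * h₂) ∧
      X.basicOpen (f * h₁) ≤ V₁ ∧ X.basicOpen (f * h₂) ≤ V₂ := by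
  obtain ⟨I₁, hI₁⟩ := (X.eq_zeroLocus_of_isClosed_of_isAffine ((V₁ : Set X)ᶜ)).mp
    V₁.isOpen.isClosed_compl
  obtain ⟨I₂, hI₂⟩ := (X.eq_zeroLocus_of_isClosed_of_isAffine ((V₂ : Set X)ᶜ)).mp
    V₂.isOpen.isClosed_compl
  have hsub : X.zeroLocus ((I₁ : Set Γ(X, ⊤)) ∪ I₂) ⊆ X.zeroLocus {f} := by
    intro x hx
    rw [Scheme.zeroLocus_singleton]
    intro hxf
    rcases h hxf with h1 | h2
    · have : x ∈ X.zeroLocus (U := ⊤) I₁ := X.zeroLocus_mono Set.subset_union_left hx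
      rw [← hI₁] at this
      exact this h1
    · have : x ∈ X.zeroLocus (U := ⊤) I₂ := X.zeroLocus_mono Set.subset_union_right hx
      rw [← hI₂] at this
      exact this h2
  have hrad := mem_radical_of_zeroLocus_subset X _ f hsub
  rw [Ideal.span_union, Ideal.span_eq, Ideal.span_eq] at hrad
  obtain ⟨N, hN⟩ := hrad
  have hN' : f ^ (N + 1) ∈ I₁ ⊔ I₂ := by
    rw [pow_succ]; exact Ideal.mul_mem_right _ _ hN
  obtain ⟨h₁, hh₁, h₂, hh₂, hsum⟩ := Submodule.mem_sup.mp hN'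
  have key : ∀ (I : Ideal Γ(X, ⊤)) (V : X.Opens) (hI : (V : Set X)ᶜ = X.zeroLocus (U := ⊤) I)
      (g : Γ(X, ⊤)), g ∈ I → X.basicOpen (f * g) ≤ V := by
    intro I V hI g hg x hx
    rw [Scheme.basicOpen_mul] at hx
    by_contra hxV
    have : x ∈ X.zeroLocus (U := ⊤) I := by rw [← hI]; exact hxV
    exact (X.mem_zeroLocus_iff _ x).mp this g hg hx.2
  refine ⟨h₁, h₂, ?_, key I₁ V₁ hI₁ h₁ hh₁, key I₂ V₂ hI₂ h₂ hh₂⟩
  apply le_antisymm
  · intro x hx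
    have hx' : x ∈ X.basicOpen (f ^ (N + 1)) := by
      rw [X.basicOpen_pow f (Nat.succ_pos N)]; exact hx
    rw [← hsum] at hx'
    rcases X.basicOpen_add_le h₁ h₂ hx' with h1 | h2
    · left; rw [Scheme.basicOpen_mul]; exact ⟨hx, h1⟩
    · right; rw [Scheme.basicOpen_mul]; exact ⟨hx, h2⟩
  · rw [Scheme.basicOpen_mul, Scheme.basicOpen_mul]
    exact sup_le inf_le_left inf_le_left

/-- restriction of a global function -/
noncomputable abbrev rtop (X : Scheme.{u}) (f : Γ(X, ⊤)) (V : X.Opens) : Γ(X, V) :=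
  X.presheaf.map (homOfLE (le_top : V ≤ ⊤)).op f

theorem rtop_res (X : Scheme.{u}) (f : Γ(X, ⊤)) {V W : X.Opens} (h : W ≤ V) :
    X.presheaf.map (homOfLE h).op (rtop X f V) = rtop X f W := by
  simp only [rtop, ← ConcreteCategory.comp_apply, ← Functor.map_comp]
  rfl

theorem isCoprime_rtop (X : Scheme.{u}) (f₁ f₂ : Γ(X, ⊤)) {U : X.Opens} (hU : IsAffineOpen U)
    (hle : U ≤ X.basicOpen f₁ ⊔ X.basicOpen f₂) : IsCoprime (rtop X f₁ U) (rtop X f₂ U) := by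
  have hspan : Ideal.span ({rtop X f₁ U, rtop X f₂ U} : Set Γ(X, U)) = ⊤ := by
    rw [← hU.self_le_iSup_basicOpen_iff]
    intro x hx
    rw [Opens.mem_iSup]
    rcases hle hx with h1 | h2
    · refine ⟨⟨rtop X f₁ U, Set.mem_insert _ _⟩, ?_⟩
      change x ∈ X.basicOpen (rtop X f₁ U)
      rw [rtop, Scheme.basicOpen_res]
      exact ⟨hx, h1⟩
    · refine ⟨⟨rtop X f₂ U, Set.mem_insert_of_mem _ rfl⟩, ?_⟩
      change x ∈ X.basicOpen (rtop X f₂ U)
      rw [rtop, Scheme.basicOpen_res]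
      exact ⟨hx, h2⟩
  have h1 : (1 : Γ(X, U)) ∈ Ideal.span ({rtop X f₁ U, rtop X f₂ U} : Set Γ(X, U)) := by
    rw [hspan]; trivial
  obtain ⟨c, d, hcd⟩ := Ideal.mem_span_pair.mp h1
  exact ⟨c, d, hcd⟩

theorem qcoh_surj (X : Scheme.{u}) [IsAffine X] (M : X.Modules) [M.IsQuasicoherent]
    (f₁ f₂ f : Γ(X, ⊤)) (W₁ W₂ : X.Opens) (h₁ : W₁ = X.basicOpen f₁) (h₂ : W₂ = X.basicOpen f₂)
    (hf : W₁ ⊔ W₂ = X.basicOpen f) (s : Γ(M, W₁ ⊓ W₂)) :
    ∃ (a : Γ(M, W₁)) (b : Γ(M, W₂)),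
      s = mres M inf_le_left a - mres M inf_le_right b := by
  have hW₁ : IsAffineOpen W₁ := h₁ ▸ (isAffineOpen_top X).basicOpen f₁
  have hW₂ : IsAffineOpen W₂ := h₂ ▸ (isAffineOpen_top X).basicOpen f₂
  have hU : IsAffineOpen (W₁ ⊔ W₂) := hf ▸ (isAffineOpen_top X).basicOpen f
  -- first equation
  have e₁ : hW₁.fromSpec ''ᵁ (PrimeSpectrum.basicOpen (rtop X f₂ W₁)) = W₁ ⊓ W₂ := by
    rw [hW₁.fromSpec_image_basicOpen, rtop, X.basicOpen_res, ← h₂]
  obtain ⟨n₁, t₁, ht₁⟩ := exists_pow_smul_eq_res_aux M hW₁ (rtop X f₂ W₁) (W₁ ⊓ W₂) e₁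
    inf_le_left s
  have e₂ : hW₂.fromSpec ''ᵁ (PrimeSpectrum.basicOpen (rtop X f₁ W₂)) = W₁ ⊓ W₂ := by
    rw [hW₂.fromSpec_image_basicOpen, rtop, X.basicOpen_res, ← h₁, inf_comm]
  obtain ⟨n₂, t₂, ht₂⟩ := exists_pow_smul_eq_res_aux M hW₂ (rtop X f₁ W₂) (W₁ ⊓ W₂) e₂
    inf_le_right s
  rw [rtop_res] at ht₁ ht₂
  have hle : W₁ ⊔ W₂ ≤ X.basicOpen f₁ ⊔ X.basicOpen f₂ := by rw [← h₁, ← h₂]
  obtain ⟨c, d, hcd⟩ := ((isCoprime_rtop X f₁ f₂ hU hle).pow (m := n₂) (n := n₁))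
  -- restrict the identity to W₁ ⊓ W₂
  have hcd' := congrArg (X.presheaf.map (homOfLE (inf_le_left.trans le_sup_left :
    W₁ ⊓ W₂ ≤ W₁ ⊔ W₂)).op) hcd
  rw [map_add, map_mul, map_mul, map_pow, map_pow, rtop_res, rtop_res, map_one] at hcd'
  refine ⟨X.presheaf.map (homOfLE le_sup_left).op d • t₁,
    -(X.presheaf.map (homOfLE le_sup_right).op c • t₂), ?_⟩
  rw [map_neg, sub_neg_eq_add, mres_smul, mres_smul, ← ht₁, ← ht₂, smul_smul, smul_smul,
    ← add_smul]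
  simp only [← ConcreteCategory.comp_apply, ← Functor.map_comp]
  rw [add_comm]
  conv_lhs => rw [← one_smul Γ(X, W₁ ⊓ W₂) s, ← hcd']
  rfl


/-- the basic opens of an affine scheme form a good basis for quasi-coherent modules -/
theorem isGoodBasis_basicOpen (X : Scheme.{u}) [IsAffine X] (M : X.Modules) [M.IsQuasicoherent] :
    IsGoodBasis (T := X) (Set.range (X.basicOpen : Γ(X, ⊤) → X.Opens)) (Coh.toAb M) where
  inf_mem := by
    rintro _ _ ⟨f, rfl⟩ ⟨g, rfl⟩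
    exact ⟨f * g, X.basicOpen_mul f g⟩
  isCompact := by
    rintro _ ⟨f, rfl⟩
    exact ((isAffineOpen_top X).basicOpen f).isCompact
  split := by
    rintro _ V₁ V₂ ⟨f, rfl⟩ hle
    obtain ⟨h₁, h₂, e, l₁, l₂⟩ := affine_split X f V₁ V₂ hle
    exact ⟨_, ⟨_, rfl⟩, _, ⟨_, rfl⟩, e, l₁, l₂⟩
  surj := by
    rintro W₁ W₂ ⟨f₁, h₁⟩ ⟨f₂, h₂⟩ ⟨f, hf⟩ s
    exact qcoh_surj X M f₁ f₂ f W₁ W₂ h₁.symm h₂.symm hf.symm s

/-- higher cohomology of a quasi-coherent module vanishes on basic opens of an affine scheme -/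
theorem ext_basicOpen_eq_zero (X : Scheme.{u}) [IsAffine X] (M : X.Modules) [M.IsQuasicoherent]
    (f : Γ(X, ⊤)) (n : ℕ)
    (x : Ext (freeSheaf (Opens.grothendieckTopology X) (X.basicOpen f)) (Coh.toAb M) (n + 1)) :
    x = 0 :=
  (isGoodBasis_basicOpen X M).ext_eq_zero n ⟨f, rfl⟩ x

/-- **Serre vanishing on affine schemes**. -/
theorem subsingleton_HH_of_isAffine (X : Scheme.{u}) [IsAffine X] (M : X.Modules)
    [M.IsQuasicoherent] (n : ℕ) : Subsingleton (Coh.HH X M (n + 1)) := by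
  apply subsingleton_H_of_forall_ext_eq_zero (T₀ := (⊤ : X.Opens)) isTerminalTop
  intro x
  have h := (isGoodBasis_basicOpen X M).ext_eq_zero n (W := ⊤) ⟨1, X.basicOpen_one⟩ x
  exact h

end Groth.Agent.Lead.Coh
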