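import Groth.Agent.H30.AffinePush
import Groth.Agent.H8.PushQCoh
import Groth.Agent.H12.QCohAbelian
import Groth.Agent.H33.MV.Sect
import Groth.Agent.Lead.Coh.Affine

/-!
Lead library (Zariski cohomology project): on a quasi-compact scheme in which affine opens have
affine intersections, every quasi-coherent module embeds into an acyclic quasi-coherent module,
namely the finite sum of the `(j_U)_* (M|_U)` over an affine cover.
-/

set_option autoImplicit false
universe u

open CategoryTheory CategoryTheory.Limits AlgebraicGeometry Opposite TopologicalSpace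

namespace Groth.Agent.Lead.AcyclicEmbed

open Groth.Agent.Lead.Coh

variable {X : Scheme.{u}}

/-- the inclusion of an affine open is an affine morphism when affine opens have affine
intersections -/
theorem isAffineHom_ι
    (hd : ∀ V W : X.Opens, IsAffineOpen V → IsAffineOpen W → IsAffineOpen (V ⊓ W))
    {U : X.Opens} (hU : IsAffineOpen U) : IsAffineHom U.ι := by
  refine ⟨fun V hV => ?_⟩
  apply U.ι.isAffineOpen_iff_of_isOpenImmersion.mp
  rw [Scheme.Hom.image_preimage_eq_opensRange_inf, Scheme.Opens.opensRange_ι]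
  exact hd U V hU hV

/-- the module `(j_U)_* (M|_U)` -/
noncomputable def star (M : X.Modules) (U : X.Opens) : X.Modules :=
  (Scheme.Modules.pushforward U.ι).obj (M.restrict U.ι)

/-- the unit `M ⟶ (j_U)_* (M|_U)` -/
noncomputable def η (M : X.Modules) (U : X.Opens) : M ⟶ star M U :=
  (Scheme.Modules.restrictAdjunction U.ι).unit.app M

theorem η_app (M : X.Modules) (U V : X.Opens) (t : Γ(M, V)) :
    (η M U).app V t = M.presheaf.map (homOfLE (U.ι.image_preimage_le V)).op t := rfl

theorem isQuasicoherent_star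
    (hd : ∀ V W : X.Opens, IsAffineOpen V → IsAffineOpen W → IsAffineOpen (V ⊓ W))
    (M : X.Modules) [M.IsQuasicoherent] {U : X.Opens} (hU : IsAffineOpen U) :
    (star M U).IsQuasicoherent := by
  have := isAffineHom_ι hd hU
  exact Groth.Agent.H8.isQuasicoherent_pushforward_of_isAffineHom U.ι (M.restrict U.ι)

theorem HH_star_eq_zero
    (hd : ∀ V W : X.Opens, IsAffineOpen V → IsAffineOpen W → IsAffineOpen (V ⊓ W))
    (M : X.Modules) [M.IsQuasicoherent] {U : X.Opens} (hU : IsAffineOpen U) (p : ℕ)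
    (x : Coh.HH X (star M U) (p + 1)) : x = 0 := by
  have := isAffineHom_ι hd hU
  haveI : IsAffine (U : Scheme.{u}) := hU
  obtain ⟨e⟩ := Groth.Agent.H30.AffinePush.HH_equiv_push U.ι (M.restrict U.ι) (p + 1)
  have := subsingleton_HH_of_isAffine (U : Scheme.{u}) (M.restrict U.ι) p
  exact e.symm.injective (Subsingleton.elim _ _)

/-- vanishing of cohomology of a binary biproduct -/
theorem HH_biprod_eq_zero (M N : X.Modules) (p : ℕ)
    (hM : ∀ x : Coh.HH X M p, x = 0) (hN : ∀ x : Coh.HH X N p, x = 0)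
    (x : Coh.HH X (M ⊞ N) p) : x = 0 := by
  let a : Coh.toAb (M ⊞ N) ⟶ Coh.toAb M :=
    (SheafOfModules.toSheaf.{u} X.ringCatSheaf).map (biprod.fst : M ⊞ N ⟶ M)
  let a' : Coh.toAb M ⟶ Coh.toAb (M ⊞ N) :=
    (SheafOfModules.toSheaf.{u} X.ringCatSheaf).map (biprod.inl : M ⟶ M ⊞ N)
  let b : Coh.toAb (M ⊞ N) ⟶ Coh.toAb N :=
    (SheafOfModules.toSheaf.{u} X.ringCatSheaf).map (biprod.snd : M ⊞ N ⟶ N)
  let b' : Coh.toAb N ⟶ Coh.toAb (M ⊞ N) :=
    (SheafOfModules.toSheaf.{u} X.ringCatSheaf).map (biprod.inr : N ⟶ M ⊞ N)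
  have h1 : a ≫ a' + b ≫ b' = 𝟙 (Coh.toAb (M ⊞ N)) := by
    have h0 : (biprod.fst ≫ biprod.inl + biprod.snd ≫ biprod.inr : M ⊞ N ⟶ M ⊞ N) = 𝟙 _ :=
      biprod.total
    have h3 : (SheafOfModules.toSheaf.{u} X.ringCatSheaf).map
        (biprod.fst ≫ biprod.inl + biprod.snd ≫ biprod.inr : M ⊞ N ⟶ M ⊞ N) =
          a ≫ a' + b ≫ b' :=
      ((SheafOfModules.toSheaf.{u} X.ringCatSheaf).map_add).trans
        (congrArg₂ (· + ·) (Functor.map_comp _ _ _) (Functor.map_comp _ _ _))
    rw [← h3, h0]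
    exact CategoryTheory.Functor.map_id _ _
  have h2 : Sheaf.H.map (a ≫ a' + b ≫ b') p x = x := by
    rw [h1]; exact Sheaf.H.map_id_apply x
  rw [Sheaf.H.map_add_apply, Sheaf.H.map_comp_apply, Sheaf.H.map_comp_apply,
    hM (Sheaf.H.map a p x), hN (Sheaf.H.map b p x), map_zero, map_zero, add_zero] at h2
  exact h2.symm

/-- the inductive statement: for a finite set of affine opens there is an acyclic quasi-coherent
module receiving a map from `M` whose kernel consists of sections vanishing on these opens -/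
theorem exists_of_finset
    (hd : ∀ V W : X.Opens, IsAffineOpen V → IsAffineOpen W → IsAffineOpen (V ⊓ W))
    (M : X.Modules) [M.IsQuasicoherent] (s : Finset X.Opens) :
    (∀ U ∈ s, IsAffineOpen U) →
    ∃ (M' : X.Modules) (i : M ⟶ M'), M'.IsQuasicoherent ∧
      (∀ (p : ℕ) (x : Coh.HH X M' (p + 1)), x = 0) ∧
      ∀ (V : X.Opens) (t : Γ(M, V)), i.app V t = 0 → ∀ U ∈ s,
        M.presheaf.map (homOfLE (U.ι.image_preimage_le V)).op t = 0 := by
  classical
  induction s using Finset.induction_on with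
  | empty =>
    intro _
    refine ⟨star M ⊥, η M ⊥, isQuasicoherent_star hd M (isAffineOpen_bot X),
      fun p x => HH_star_eq_zero hd M (isAffineOpen_bot X) p x, ?_⟩
    intro V t _ U hU
    exact absurd hU (Finset.notMem_empty U)
  | insert U s hUs ih =>
    intro hs
    obtain ⟨M', i, hq, hv, hk⟩ := ih (fun W hW => hs W (Finset.mem_insert_of_mem hW))
    have hU : IsAffineOpen U := hs U (Finset.mem_insert_self U s)
    have hq' := isQuasicoherent_star hd M hU
    refine ⟨M' ⊞ star M U, biprod.lift i (η M U),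
      Groth.Agent.H12.QCohAbelian.isQuasicoherent_biprod M' (star M U),
      fun p x => HH_biprod_eq_zero M' (star M U) (p + 1) (hv p)
        (fun y => HH_star_eq_zero hd M hU p y) x, ?_⟩
    intro V t ht W hW
    have h1 : i.app V t = 0 := by
      have h : (biprod.lift i (η M U) ≫ (biprod.fst : M' ⊞ star M U ⟶ M')).app V t = 0 := by
        rw [Scheme.Modules.Hom.comp_app]
        exact (congrArg ((biprod.fst : M' ⊞ star M U ⟶ M').app V) ht).trans (map_zero _)
      rwa [biprod.lift_fst] at h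
    have h2 : (η M U).app V t = 0 := by
      have h : (biprod.lift i (η M U) ≫ (biprod.snd : M' ⊞ star M U ⟶ star M U)).app V t = 0 := by
        rw [Scheme.Modules.Hom.comp_app]
        exact (congrArg ((biprod.snd : M' ⊞ star M U ⟶ star M U).app V) ht).trans (map_zero _)
      rwa [biprod.lift_snd] at h
    rcases Finset.mem_insert.mp hW with rfl | hW'
    · exact h2
    · exact hk V t h1 W hW'

/-- a finite cover by affine opens of a quasi-compact scheme -/
theorem exists_finset_affine_cover (X : Scheme.{u}) [CompactSpace X] :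
    ∃ s : Finset X.Opens, (∀ U ∈ s, IsAffineOpen U) ∧ ∀ x : X, ∃ U ∈ s, x ∈ U := by
  classical
  have h : ∀ x : X, ∃ U : X.Opens, IsAffineOpen U ∧ x ∈ U := by
    intro x
    obtain ⟨W, hW, hxW, -⟩ :=
      exists_isAffineOpen_mem_and_subset (x := x) (U := (⊤ : X.Opens)) trivial
    exact ⟨W, hW, hxW⟩
  choose U hU hxU using h
  obtain ⟨t, ht⟩ := CompactSpace.elim_nhds_subcover (fun x => ((U x : X.Opens) : Set X))
    (fun x => (U x).2.mem_nhds (hxU x))
  refine ⟨t.image U, ?_, ?_⟩
  · intro W hW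
    obtain ⟨x, -, rfl⟩ := Finset.mem_image.mp hW
    exact hU x
  · intro x
    have hx : x ∈ ⋃ y ∈ t, ((U y : X.Opens) : Set X) := by rw [ht]; trivial
    obtain ⟨y, hy, hxy⟩ := Set.mem_iUnion₂.mp hx
    exact ⟨U y, Finset.mem_image_of_mem U hy, hxy⟩

/-- **Acyclic embedding**: on a quasi-compact scheme in which affine opens have affine
intersections, every quasi-coherent module embeds into an acyclic quasi-coherent module. -/
theorem exists_acyclic_embedding (X : Scheme.{u}) [CompactSpace X]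
    (hd : ∀ V W : X.Opens, IsAffineOpen V → IsAffineOpen W → IsAffineOpen (V ⊓ W))
    (M : X.Modules) [M.IsQuasicoherent] :
    ∃ (M' : X.Modules) (i : M ⟶ M'), Mono i ∧ M'.IsQuasicoherent ∧
      ∀ p : ℕ, 0 < p → Subsingleton (Coh.HH X M' p) := by
  obtain ⟨s, hs, hcov⟩ := exists_finset_affine_cover X
  obtain ⟨M', i, hq, hv, hk⟩ := exists_of_finset hd M s hs
  refine ⟨M', i, ?_, hq, ?_⟩
  · refine Groth.Agent.H33.MV.mono_of_injective_app i (fun V => ?_)
    rw [injective_iff_map_eq_zero]
    intro t ht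
    change Γ(M, V) at t
    change i.app V t = 0 at ht
    refine TopCat.Sheaf.eq_of_locally_eq' ⟨_, M.isSheaf⟩
      (fun U : {U : X.Opens // U ∈ s} => U.1.ι ''ᵁ (U.1.ι ⁻¹ᵁ V)) V
      (fun U => homOfLE (U.1.ι.image_preimage_le V)) ?_ t 0 ?_
    · intro x hx
      obtain ⟨U, hU, hxU⟩ := hcov x
      refine Opens.mem_iSup.mpr ⟨⟨U, hU⟩, ?_⟩
      change x ∈ U.ι ''ᵁ (U.ι ⁻¹ᵁ V)
      rw [Scheme.Hom.image_preimage_eq_opensRange_inf, Scheme.Opens.opensRange_ι]
      exact ⟨hxU, hx⟩
    · intro U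
      change M.presheaf.map (homOfLE (U.1.ι.image_preimage_le V)).op t =
        M.presheaf.map (homOfLE (U.1.ι.image_preimage_le V)).op 0
      rw [map_zero]
      exact hk V t ht U.1 U.2
  · intro p hp
    obtain ⟨q, rfl⟩ := Nat.exists_eq_succ_of_ne_zero (Nat.pos_iff_ne_zero.mp hp)
    exact subsingleton_of_forall_eq 0 (fun x => hv q x)

end Groth.Agent.Lead.AcyclicEmbed
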