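import Groth.Agent.Lead.Coh.Leray

/-!
Lead library (Zariski cohomology project): lifting a class of `H^1(X, A)` to a subsheaf.

Let `A` be an abelian sheaf on a space `X`, `(U_i)` an open cover with `H^1(U_i, A) = 0`, and `ξ` a
class in `H^1(X, A)`.  Then there are sections `a_ij ∈ A(U_i ∩ U_j)` (a Čech cocycle of `ξ`) such that
`ξ` comes from `H^1(X, A')` for every subsheaf `A' ⊆ A` containing locally all the `a_ij`.  This is
the elementary core of "`H^1` commutes with directed unions of subsheaves on a quasi-compact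
quasi-separated space".
-/

set_option autoImplicit false
open CategoryTheory Opposite Limits TopologicalSpace Abelian
universe u
namespace Groth.Agent.Lead.Cech

open Groth.Agent.Lead.Coh (freeSheaf)

variable {X : TopCat.{u}}

/-- the short exact sequence `0 → A' → J → J/A'` attached to a subobject of an object embedded
in `J` -/
theorem shortExact_of_mono {C : Type*} [Category C] [Abelian C] {A J : C} (a : A ⟶ J) [Mono a] :
    (ShortComplex.mk a (cokernel.π a) (cokernel.condition a)).ShortExact :=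
  ShortComplex.ShortExact.mk' (ShortComplex.exact_cokernel a) inferInstance inferInstance

theorem exists_cocycle_lift {ι : Type u} (U : ι → Opens X) (hU : ⨆ i, U i = ⊤)
    (A : Sheaf (Opens.grothendieckTopology X) AddCommGrpCat.{u})
    (hv : ∀ i, ∀ x : Ext (freeSheaf (Opens.grothendieckTopology X) (U i)) A 1, x = 0)
    (ξ : Ext (freeSheaf (Opens.grothendieckTopology X) (⊤ : Opens X)) A 1) :
    ∃ c : ∀ i j, A.obj.obj (op (U i ⊓ U j)),
      ∀ (A' : Sheaf (Opens.grothendieckTopology X) AddCommGrpCat.{u}) (κ : A' ⟶ A), Mono κ →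
        (∀ i j, ∀ x ∈ U i ⊓ U j, ∃ (W : Opens X) (hW : W ≤ U i ⊓ U j), x ∈ W ∧
          ∃ b : A'.obj.obj (op W), κ.hom.app (op W) b = A.obj.map (homOfLE hW).op (c i j)) →
        ∃ ξ' : Ext (freeSheaf (Opens.grothendieckTopology X) (⊤ : Opens X)) A' 1,
          ξ'.comp (Ext.mk₀ κ) (add_zero 1) = ξ := by
  classical
  -- embed `A` in an injective sheaf
  let J := Injective.under A
  let a : A ⟶ J := Injective.ι A
  let S : ShortComplex (Sheaf (Opens.grothendieckTopology X) AddCommGrpCat.{u}) :=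
    ShortComplex.mk a (cokernel.π a) (cokernel.condition a)
  have hS : S.ShortExact := shortExact_of_mono a
  haveI : Injective S.X₂ := inferInstanceAs (Injective (Injective.under A))
  -- `ξ` is the boundary of a global section of the quotient
  obtain ⟨q, hq⟩ := extδ_surjective hS (freeSheaf (Opens.grothendieckTopology X) (⊤ : Opens X)) 0 ξ
  obtain ⟨q₀, rfl⟩ := (secEquiv (⊤ : Opens X) S.X₃).surjective q
  -- local lifts
  have hlift : ∀ i, ∃ t : S.X₂.obj.obj (op (U i)),
      S.g.hom.app (op (U i)) t = S.X₃.obj.map (homOfLE (le_top : U i ≤ ⊤)).op q₀ := fun i =>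
    app_surjective hS (U i) (hv i) _
  choose t ht using hlift
  -- the cocycle
  have hc : ∀ i j, ∃ s : S.X₁.obj.obj (op (U i ⊓ U j)),
      S.f.hom.app (op (U i ⊓ U j)) s =
        S.X₂.obj.map (Opens.infLELeft (U i) (U j)).op (t i) -
          S.X₂.obj.map (Opens.infLERight (U i) (U j)).op (t j) := by
    intro i j
    apply app_exact hS (U i ⊓ U j)
    rw [map_sub]
    have h1 := ConcreteCategory.congr_hom (S.g.hom.naturality (Opens.infLELeft (U i) (U j)).op) (t i)
    have h2 := ConcreteCategory.congr_hom (S.g.hom.naturality (Opens.infLERight (U i) (U j)).op) (t j)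
    rw [ConcreteCategory.comp_apply, ConcreteCategory.comp_apply] at h1 h2
    rw [h1, h2, ht, ht, sub_eq_zero]
    rw [← ConcreteCategory.comp_apply, ← ConcreteCategory.comp_apply, ← Functor.map_comp,
      ← Functor.map_comp]
    rfl
  choose c hc using hc
  refine ⟨c, ?_⟩
  intro A' κ hκ hloc
  haveI := hκ
  let S' : ShortComplex (Sheaf (Opens.grothendieckTopology X) AddCommGrpCat.{u}) :=
    ShortComplex.mk (κ ≫ a) (cokernel.π (κ ≫ a)) (cokernel.condition (κ ≫ a))
  have hS' : S'.ShortExact := shortExact_of_mono (κ ≫ a)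
  let ρ : S'.X₃ ⟶ S.X₃ := cokernel.desc (κ ≫ a) (cokernel.π a)
    (by rw [Category.assoc, cokernel.condition, comp_zero])
  have hρ : S'.g ≫ ρ = S.g := cokernel.π_desc _ _ _
  let φ : S' ⟶ S :=
    { τ₁ := κ
      τ₂ := 𝟙 J
      τ₃ := ρ
      comm₁₂ := by
        change (κ ≫ a) ≫ 𝟙 J = κ ≫ a
        rw [Category.comp_id]
      comm₂₃ := by
        change 𝟙 J ≫ S.g = S'.g ≫ ρ
        rw [hρ, Category.id_comp] }
  -- the images of the local lifts in the new quotient
  let tb : ∀ i, S'.X₃.obj.obj (op (U i)) := fun i => S'.g.hom.app (op (U i)) (t i)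
  -- vanishing of the image of the cocycle
  have hzero : ∀ i j, S'.g.hom.app (op (U i ⊓ U j)) (S.f.hom.app (op (U i ⊓ U j)) (c i j)) = 0 := by
    intro i j
    choose W hW hxW b hb using hloc i j
    refine TopCat.Sheaf.eq_of_locally_eq' (F := S'.X₃)
      (fun x : {x : X // x ∈ U i ⊓ U j} => W x.1 x.2) (U i ⊓ U j)
      (fun x => homOfLE (hW x.1 x.2)) ?_ _ 0 ?_
    · intro x hx
      exact Opens.mem_iSup.mpr ⟨⟨x, hx⟩, hxW x hx⟩
    · intro x
      rw [map_zero]
      have h1 := ConcreteCategory.congr_hom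
        (S'.g.hom.naturality (homOfLE (hW x.1 x.2)).op) (S.f.hom.app (op (U i ⊓ U j)) (c i j))
      have h2 := ConcreteCategory.congr_hom
        (S.f.hom.naturality (homOfLE (hW x.1 x.2)).op) (c i j)
      rw [ConcreteCategory.comp_apply, ConcreteCategory.comp_apply] at h1 h2
      have h2' : S'.X₂.obj.map (homOfLE (hW x.1 x.2)).op (S.f.hom.app (op (U i ⊓ U j)) (c i j)) =
          S.f.hom.app (op (W x.1 x.2)) (A.obj.map (homOfLE (hW x.1 x.2)).op (c i j)) := h2.symm
      rw [← h1, h2', ← hb x.1 x.2]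
      have h3 : (κ ≫ a) ≫ S'.g = 0 := S'.zero
      have h4 := congrArg (fun k : A' ⟶ S'.X₃ => k.hom.app (op (W x.1 x.2)) (b x.1 x.2)) h3
      exact h4
  have hcompat : TopCat.Presheaf.IsCompatible S'.X₃.obj U tb := by
    intro i j
    rw [← sub_eq_zero]
    have h1 := ConcreteCategory.congr_hom
      (S'.g.hom.naturality (Opens.infLELeft (U i) (U j)).op) (t i)
    have h2 := ConcreteCategory.congr_hom
      (S'.g.hom.naturality (Opens.infLERight (U i) (U j)).op) (t j)
    rw [ConcreteCategory.comp_apply, ConcreteCategory.comp_apply] at h1 h2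
    change S'.X₃.obj.map (Opens.infLELeft (U i) (U j)).op (S'.g.hom.app (op (U i)) (t i)) -
      S'.X₃.obj.map (Opens.infLERight (U i) (U j)).op (S'.g.hom.app (op (U j)) (t j)) = 0
    rw [← h1, ← h2, ← map_sub, ← hc i j]
    exact hzero i j
  obtain ⟨q₀', hq₀', -⟩ := TopCat.Sheaf.existsUnique_gluing' (F := S'.X₃) U ⊤
    (fun i => homOfLE le_top) (by rw [hU]) tb hcompat
  -- it maps to `q₀`
  have hρq : ρ.hom.app (op (⊤ : Opens X)) q₀' = q₀ := by
    refine TopCat.Sheaf.eq_of_locally_eq' (F := S.X₃) U ⊤ (fun i => homOfLE le_top)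
      (by rw [hU]) _ _ ?_
    intro i
    have h1 := ConcreteCategory.congr_hom (ρ.hom.naturality (homOfLE (le_top : U i ≤ ⊤)).op) q₀'
    rw [ConcreteCategory.comp_apply, ConcreteCategory.comp_apply] at h1
    rw [← h1, hq₀' i, ← ht i]
    have h2 := congrArg (fun k : S'.X₂ ⟶ S.X₃ => k.hom.app (op (U i)) (t i)) hρ
    exact h2
  refine ⟨extδ hS' (freeSheaf (Opens.grothendieckTopology X) (⊤ : Opens X)) 0
    (secEquiv (⊤ : Opens X) S'.X₃ q₀'), ?_⟩
  rw [← hq, ← hρq, ← secEquiv_naturality]
  change ((secEquiv ⊤ S'.X₃ q₀').comp hS'.extClass rfl).comp (Ext.mk₀ κ) (add_zero 1) =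
    ((secEquiv ⊤ S'.X₃ q₀').comp (Ext.mk₀ ρ) (add_zero 0)).comp hS.extClass rfl
  rw [Ext.comp_assoc _ _ _ rfl (add_zero 1) (by omega),
    Ext.comp_assoc _ _ _ (add_zero 0) rfl (by omega)]
  congr 1
  exact ShortComplex.ShortExact.extClass_naturality hS' hS φ

end Groth.Agent.Lead.Cech
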