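import Groth.Agent.Lead.Coh.SerreAffine
import Groth.Agent.Lead.Coh.H1Lift
import Groth.Agent.Lead.Coh.AcyclicEmbed
import Groth.Agent.H12.SubSum

/-!
Lead library (Zariski cohomology project): Serre's criterion with ideals of finite type on a
quasi-compact quasi-separated scheme.
-/

set_option autoImplicit false
universe u

open CategoryTheory CategoryTheory.Limits AlgebraicGeometry Opposite TopologicalSpace Abelian

namespace Groth.Agent.Lead.SerreAffine

open Groth.Agent.Lead.Coh Groth.Agent.H12.SubSum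

variable {X : Scheme.{u}}

/-- on a qcqs scheme every single section over an affine open is captured by a quasi-coherent
submodule of finite type -/
theorem captured_singleton [CompactSpace X] [QuasiSeparatedSpace X] (F : X.Modules)
    [F.IsQuasicoherent] (a : Σ U : X.affineOpens, Γ(F, U.1)) : Captured F {a} := by
  obtain ⟨E, i, hm, hq, hft, g, hg⟩ :=
    Groth.Agent.H12.ExtCases.exists_ft_sub_of_section_of_ext F a.1.1 a.1.2 a.2
      (fun G i _ _ hG =>
        Groth.Agent.H12.ExtCases.exists_ft_extension_of_qcqs a.1.1 a.1.2.isCompact F G i hG)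
  refine ⟨E, i, hm, hq, hft, ?_⟩
  intro b hb
  rw [Set.mem_singleton_iff] at hb
  subst hb
  exact ⟨g, hg⟩

/-- **`H^1` and subsheaves of finite type**: on a qcqs scheme, `H^1` of a quasi-coherent module
vanishes as soon as `H^1` vanishes for its quasi-coherent submodules of finite type. -/
theorem hVanish_one_of_forall_ft [CompactSpace X] [QuasiSeparatedSpace X] (F : X.Modules)
    [F.IsQuasicoherent]
    (h : ∀ (E : X.Modules) (k : E ⟶ F), Mono k → E.IsQuasicoherent →
      SheafOfModules.IsFiniteType (R := X.ringCatSheaf) E → Subsingleton (Coh.HH X E 1)) :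
    HVanish (T := X) (Coh.toAb F) 1 ⊤ := by
  classical
  intro ξ
  obtain ⟨s, hs, hcov⟩ := Groth.Agent.Lead.AcyclicEmbed.exists_finset_affine_cover X
  let ι : Type u := {U : X.Opens // U ∈ s}
  let U : ι → X.Opens := fun i => i.1
  have hU : ⨆ i, U i = ⊤ := by
    rw [eq_top_iff]
    intro x _
    obtain ⟨W, hW, hxW⟩ := hcov x
    exact Opens.mem_iSup.mpr ⟨⟨W, hW⟩, hxW⟩
  obtain ⟨c, hc⟩ := Groth.Agent.Lead.Cech.exists_cocycle_lift (X := X.toTopCat) U hU (Coh.toAb F)
    (fun i => hVanish_of_isAffineOpen X F (hs i.1 i.2) 0) ξ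
  -- finite affine covers of the pairwise intersections
  have hqc : ∀ i j : ι, IsCompact ((U i ⊓ U j : X.Opens) : Set X) := fun i j =>
    QuasiSeparatedSpace.inter_isCompact _ _ (U i).isOpen (hs i.1 i.2).isCompact
      (U j).isOpen (hs j.1 j.2).isCompact
  have hcovs : ∀ i j : ι, ∃ cov : Set X.affineOpens, cov.Finite ∧
      U i ⊓ U j = ⨆ W ∈ cov, (W : X.Opens) := fun i j =>
    isCompact_iff_finite_and_eq_biUnion_affineOpens.mp (hqc i j)
  choose cov hcovfin hcoveq using hcovs
  have hle : ∀ (i j : ι) (W : X.affineOpens), W ∈ cov i j → (W : X.Opens) ≤ U i ⊓ U j := by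
    intro i j W hW
    rw [hcoveq i j]
    exact le_iSup₂ (f := fun (W : X.affineOpens) (_ : W ∈ cov i j) => (W : X.Opens)) W hW
  let idx : Type u := Σ p : ι × ι, {W : X.affineOpens // W ∈ cov p.1 p.2}
  haveI : Finite ι := Finite.of_fintype _
  haveI : ∀ p : ι × ι, Finite {W : X.affineOpens // W ∈ cov p.1 p.2} :=
    fun p => (hcovfin p.1 p.2).to_subtype
  haveI : Finite idx := inferInstance
  let T : Set (Σ V : X.affineOpens, Γ(F, V.1)) := Set.range (fun x : idx =>
    (⟨x.2.1, F.presheaf.map (homOfLE (hle x.1.1 x.1.2 x.2.1 x.2.2)).op (c x.1.1 x.1.2)⟩ :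
      Σ V : X.affineOpens, Γ(F, V.1)))
  have hT : T.Finite := Set.finite_range _
  obtain ⟨E, k, hm, hq, hft, hcap⟩ :=
    captured_of_finite (fun a => captured_singleton F a) T hT
  haveI := hm
  have hSE := Groth.Agent.H49.SectionsExact.shortExact_toSheaf
    (ShortComplex.mk k (cokernel.π k) (cokernel.condition k))
    (ShortComplex.ShortExact.mk' (ShortComplex.exact_cokernel k) hm inferInstance)
  have hκ : Mono ((Groth.Agent.H49.SectionsExact.T X).map k) := hSE.mono_f
  obtain ⟨ξ', hξ'⟩ := hc (Coh.toAb E) ((Groth.Agent.H49.SectionsExact.T X).map k) hκ (by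
    intro i j x hx
    have hx' : x ∈ ⨆ W ∈ cov i j, (W : X.Opens) := by rw [← hcoveq i j]; exact hx
    obtain ⟨W, hxW⟩ := Opens.mem_iSup.mp hx'
    obtain ⟨hW, hxW⟩ := Opens.mem_iSup.mp hxW
    obtain ⟨g, hg⟩ := hcap ⟨W, F.presheaf.map (homOfLE (hle i j W hW)).op (c i j)⟩
      ⟨⟨(i, j), ⟨W, hW⟩⟩, rfl⟩
    exact ⟨W.1, hle i j W hW, hxW, g, hg⟩)
  have h0 : ξ' = 0 :=
    hVanish_top_of_subsingleton_HH X E 1 (h E k hm hq hft) ξ'
  rw [← hξ', h0, Ext.zero_comp]

/-- **Serre's criterion with ideals of finite type**: a quasi-compact quasi-separated scheme on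
which `H^1` vanishes for every quasi-coherent ideal of finite type is affine. -/
theorem isAffine_of_HH_one_ft_ideals (X : Scheme.{u}) [CompactSpace X] [QuasiSeparatedSpace X]
    (h : ∀ (I : X.Modules) (i : I ⟶ Coh.structureModule X), Mono i → Coh.IsQCoh I →
      SheafOfModules.IsFiniteType (R := X.ringCatSheaf) I → Subsingleton (Coh.HH X I 1)) :
    IsAffine X := by
  refine isAffine_of_HH_one_ideals X (fun I i hi hq => ?_)
  haveI : I.IsQuasicoherent := hq
  apply subsingleton_HH_of_hVanish_top X I 1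
  exact hVanish_one_of_forall_ft I (fun E k hk hqE hft =>
    haveI := hk
    haveI := hi
    h E (k ≫ i) (mono_comp k i) hqE hft)

end Groth.Agent.Lead.SerreAffine
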