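import Mathlib
import Groth.Prelude.Def_CohTop
import Groth.Agent.H30.FlasqueAcyclic

/-!
Lead library (Zariski cohomology project): an abelian sheaf supported on a set all of whose subsets
are closed (a closed discrete set of closed points) is flasque, hence acyclic.
-/

set_option autoImplicit false

open CategoryTheory Opposite Limits TopologicalSpace

namespace Groth.Agent.Lead.Coh

universe u

variable {X : TopCat.{u}}

/-- gluing a section with zero -/
theorem exists_extension_of_eq_zero_on_inter (F : CohTop.Ab X) {W O V : Opens X}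
    (hW : W ≤ V) (hO : O ≤ V) (hcov : V ≤ W ⊔ O) (s : F.obj.obj (op W))
    (h0 : F.obj.map (homOfLE (inf_le_left : W ⊓ O ≤ W)).op s = 0) :
    ∃ t : F.obj.obj (op V), F.obj.map (homOfLE hW).op t = s := by
  let U : Bool → Opens X := fun b => if b then W else O
  let iUV : ∀ b, U b ⟶ V := fun b => homOfLE (by cases b <;> simp [U, hW, hO])
  have hcover : V ≤ iSup U := by
    refine hcov.trans (sup_le ?_ ?_)
    · exact le_iSup U true
    · exact le_iSup U false
  let sf : ∀ b, ToType (F.obj.obj (op (U b))) := fun b =>
    match b with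
    | true => s
    | false => (0 : F.obj.obj (op O))
  have hcomp : TopCat.Presheaf.IsCompatible F.obj U sf := by
    rintro (_ | _) (_ | _)
    · rfl
    · change F.obj.map (homOfLE (inf_le_left : O ⊓ W ≤ O)).op (0 : F.obj.obj (op O)) =
        F.obj.map (homOfLE (inf_le_right : O ⊓ W ≤ W)).op s
      rw [map_zero]
      have h1 : F.obj.map (homOfLE (inf_le_right : O ⊓ W ≤ W)).op s =
          F.obj.map (homOfLE (le_inf inf_le_right inf_le_left : O ⊓ W ≤ W ⊓ O)).op
            (F.obj.map (homOfLE (inf_le_left : W ⊓ O ≤ W)).op s) := by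
        rw [← ConcreteCategory.comp_apply, ← Functor.map_comp]
        rfl
      rw [h1, h0, map_zero]
    · change F.obj.map (homOfLE (inf_le_left : W ⊓ O ≤ W)).op s =
        F.obj.map (homOfLE (inf_le_right : W ⊓ O ≤ O)).op (0 : F.obj.obj (op O))
      rw [map_zero, h0]
    · rfl
  obtain ⟨t, ht, -⟩ := TopCat.Sheaf.existsUnique_gluing' F U V iUV hcover sf hcomp
  exact ⟨t, ht true⟩

/-- a sheaf supported on a set all of whose subsets are closed is flasque -/
theorem isFlasque_of_discrete_support (F : CohTop.Ab X) (Z : Set X)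
    (hZ : ∀ Z' : Set X, Z' ⊆ Z → IsClosed Z')
    (hF : ∀ O : Opens X, Disjoint (O : Set X) Z → ∀ s : F.obj.obj (op O), s = 0) :
    TopCat.Sheaf.IsFlasque F where
  epi := by
    intro U V i
    rw [AddCommGrpCat.epi_iff_surjective]
    intro s
    obtain ⟨U⟩ := U
    obtain ⟨V⟩ := V
    have hVU : V ≤ U := leOfHom i.unop
    let O : Opens X := ⟨(U : Set X) ∩ (Z ∩ (V : Set X))ᶜ,
      U.isOpen.inter (hZ _ Set.inter_subset_left).isOpen_compl⟩
    have hO : O ≤ U := fun x hx => hx.1
    have hcov : U ≤ V ⊔ O := by
      intro x hx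
      by_cases hxV : x ∈ V
      · exact Or.inl hxV
      · exact Or.inr ⟨hx, fun h => hxV h.2⟩
    have hdis : Disjoint ((V ⊓ O : Opens X) : Set X) Z := by
      rw [Set.disjoint_left]
      rintro x ⟨hxV, _, hx2⟩ hxZ
      exact hx2 ⟨hxZ, hxV⟩
    obtain ⟨t, ht⟩ := exists_extension_of_eq_zero_on_inter F hVU hO hcov s (hF _ hdis _)
    refine ⟨t, ?_⟩
    have : i = (homOfLE hVU).op := Subsingleton.elim _ _
    rw [this]
    exact ht

/-- a sheaf supported on a set all of whose subsets are closed is acyclic -/
theorem subsingleton_H_of_discrete_support (F : CohTop.Ab X) (Z : Set X)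
    (hZ : ∀ Z' : Set X, Z' ⊆ Z → IsClosed Z')
    (hF : ∀ O : Opens X, Disjoint (O : Set X) Z → ∀ s : F.obj.obj (op O), s = 0) (n : ℕ) :
    Subsingleton (CohTop.H F (n + 1)) := by
  haveI := isFlasque_of_discrete_support F Z hZ hF
  exact Groth.Agent.H30.FlasqueAcyclic.subsingleton_H F n

/-- a Noetherian quasi-sober `T₁` space is finite -/
theorem finite_of_noetherian_quasiSober_t1 (α : Type*) [TopologicalSpace α] [NoetherianSpace α]
    [QuasiSober α] [T1Space α] : Finite α := by
  have hfin : (irreducibleComponents α).Finite := NoetherianSpace.finite_irreducibleComponents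
  have hsub : ∀ s ∈ irreducibleComponents α, (s : Set α).Subsingleton := by
    intro s hs
    have hirr : IsIrreducible s := hs.1
    have hcl : IsClosed s := isClosed_of_mem_irreducibleComponents s hs
    obtain ⟨x, hx⟩ := QuasiSober.sober hirr hcl
    have : s = {x} := by
      rw [← hx, closure_singleton]
    rw [this]
    exact Set.subsingleton_singleton
  have hcov : (Set.univ : Set α) = ⋃₀ irreducibleComponents α :=
    (sUnion_irreducibleComponents (X := α)).symm
  have : (Set.univ : Set α).Finite := by
    rw [hcov]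
    exact hfin.sUnion (fun s hs => (hsub s hs).finite)
  exact Set.finite_univ_iff.mp this

end Groth.Agent.Lead.Coh
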