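import Mathlib
import Groth.Prelude.Def_Coh
import Groth.Prelude.Def_CohB1
import Groth.Agent.Lead.Coh.DiscSupp
import Groth.Agent.S0020

/-!
Lead library (Zariski cohomology project): on a locally Noetherian scheme, a finite type module whose
support consists of closed points is flasque, hence acyclic.
-/

set_option autoImplicit false

open CategoryTheory Opposite Limits TopologicalSpace AlgebraicGeometry

namespace Groth.Agent.Lead.Coh

universe u

/-- in a locally Noetherian scheme, every subset of a closed set of closed points is closed -/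
theorem isClosed_subset_of_closedPoints {X : Scheme.{u}} [IsLocallyNoetherian X] {Z : Set X}
    (hZ : IsClosed Z) (hpt : ∀ x ∈ Z, IsClosed ({x} : Set X)) {Z' : Set X} (hZ' : Z' ⊆ Z) :
    IsClosed Z' := by
  have hcov : IsOpenCover (fun i : X.affineOpens => (i : X.Opens)) := iSup_affineOpens_eq_top X
  rw [hcov.isClosed_iff_coe_preimage]
  intro U
  have : IsNoetherianRing Γ(X, U.1) := IsLocallyNoetherian.component_noetherian U
  have : NoetherianSpace U.1 := noetherianSpace_of_isAffineOpen U.1 U.2
  let A : Set U.1 := (Subtype.val : U.1 → X) ⁻¹' Z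
  have hA : IsClosed A := hZ.preimage continuous_subtype_val
  have : NoetherianSpace A := NoetherianSpace.set A
  have : QuasiSober U.1 := U.1.isOpenEmbedding'.quasiSober
  have : QuasiSober A := hA.isClosedEmbedding_subtypeVal.quasiSober
  have : T1Space A := by
    refine ⟨fun a => ?_⟩
    have h1 : IsClosed ({(a.1.1 : X)} : Set X) := hpt _ a.2
    have h2 : ({a} : Set A) = (fun b : A => (b.1.1 : X)) ⁻¹' {(a.1.1 : X)} := by
      ext b
      simp only [Set.mem_singleton_iff, Set.mem_preimage]
      constructor
      · rintro rfl; rfl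
      · intro h; exact Subtype.ext (Subtype.ext h)
    rw [h2]
    exact h1.preimage (continuous_subtype_val.comp continuous_subtype_val)
  have : Finite A := finite_of_noetherian_quasiSober_t1 A
  have hfinA : A.Finite := Set.toFinite A
  have hfin : ((Subtype.val : U.1 → X) ⁻¹' Z').Finite := hfinA.subset (Set.preimage_mono hZ')
  have hU : ((Subtype.val : U.1 → X) ⁻¹' Z') =
      ⋃ a ∈ ((Subtype.val : U.1 → X) ⁻¹' Z'), {a} :=
    (Set.biUnion_of_singleton _).symm
  change IsClosed ((Subtype.val : U.1 → X) ⁻¹' Z')
  rw [hU]
  refine hfin.isClosed_biUnion (fun a ha => ?_)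
  have h1 : IsClosed ({(a.1 : X)} : Set X) := hpt _ (hZ' ha)
  have h3 : IsClosed ((Subtype.val : U.1 → X) ⁻¹' {(a.1 : X)}) :=
    h1.preimage continuous_subtype_val
  have e : (Subtype.val : U.1 → X) ⁻¹' {(a.1 : X)} = {a} := by
    ext b
    exact ⟨fun h => Subtype.ext h, fun h => by rw [h]; rfl⟩
  exact e ▸ h3

/-- sections of a module over an open disjoint from the support vanish -/
theorem section_eq_zero_of_disjoint_support {X : Scheme.{u}} (M : X.Modules) (O : X.Opens)
    (hO : Disjoint (O : Set X) (CohB1.support M)) (s : (Coh.toAb M).obj.obj (op O)) : s = 0 := by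
  refine TopCat.Presheaf.section_ext (Coh.toAb M) O s 0 (fun x hx => ?_)
  have hx' : x ∉ CohB1.support M := Set.disjoint_left.mp hO hx
  have hsub : Subsingleton (M.presheaf.stalk x) := by
    by_contra h
    exact hx' h
  exact @Subsingleton.elim _ hsub _ _

/-- **acyclicity of modules with zero-dimensional support** -/
theorem subsingleton_HH_of_support_closedPoints (X : Scheme.{u}) [IsLocallyNoetherian X]
    (M : X.Modules) (hM : CohB1.IsFT M)
    (h0 : ∀ x ∈ CohB1.support M, IsClosed ({x} : Set X)) (n : ℕ) :
    Subsingleton (Coh.HH X M (n + 1)) :=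
  subsingleton_H_of_discrete_support (X := X.carrier) (Coh.toAb M) (CohB1.support M)
    (fun _ h => isClosed_subset_of_closedPoints (Groth.Agent.S0020.result X M hM) h0 h)
    (fun O hO s => section_eq_zero_of_disjoint_support M O hO s) n

end Groth.Agent.Lead.Coh
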