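import Mathlib
import Groth.Agent.Lead.Coh.ZeroDimSupp

/-!
Lead library (Zariski cohomology project): points of a `T₀` space of Krull dimension `≤ 0` are
closed; acyclicity of finite type modules with support of dimension `≤ 0`.
-/

set_option autoImplicit false

open CategoryTheory Opposite Limits TopologicalSpace AlgebraicGeometry

namespace Groth.Agent.Lead.Coh

universe u

theorem isClosed_singleton_of_krullDim_nonpos {α : Type*} [TopologicalSpace α] [T0Space α]
    (h : topologicalKrullDim α ≤ 0) (x : α) : IsClosed ({x} : Set α) := by
  have hmin := Order.krullDim_nonpos_iff_forall_isMin.mp h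
  let C : IrreducibleCloseds α :=
    ⟨closure {x}, isIrreducible_singleton.closure, isClosed_closure⟩
  have hsub : closure ({x} : Set α) ⊆ {x} := by
    intro z hz
    let D : IrreducibleCloseds α :=
      ⟨closure {z}, isIrreducible_singleton.closure, isClosed_closure⟩
    have hDC : D ≤ C := by
      change closure ({z} : Set α) ⊆ closure {x}
      exact closure_minimal (Set.singleton_subset_iff.mpr hz) isClosed_closure
    have hCD : C ≤ D := hmin C hDC
    have hx : x ∈ closure ({z} : Set α) := hCD (subset_closure (Set.mem_singleton x))
    have hins : Inseparable x z := by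
      rw [inseparable_iff_closure_eq]
      apply Set.Subset.antisymm
      · exact closure_minimal (Set.singleton_subset_iff.mpr hx) isClosed_closure
      · exact closure_minimal (Set.singleton_subset_iff.mpr hz) isClosed_closure
    exact hins.eq.symm
  have : closure ({x} : Set α) = {x} := Set.Subset.antisymm hsub subset_closure
  rw [← this]
  exact isClosed_closure

/-- acyclicity of finite type modules whose support has dimension `≤ 0` -/
theorem subsingleton_HH_of_support_krullDim_nonpos (X : Scheme.{u}) [IsLocallyNoetherian X]
    (M : X.Modules) (hM : CohB1.IsFT M)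
    (h0 : topologicalKrullDim (CohB1.support M) ≤ 0) (n : ℕ) :
    Subsingleton (Coh.HH X M (n + 1)) := by
  have hZ : IsClosed (CohB1.support M) := Groth.Agent.S0020.result X M hM
  refine subsingleton_HH_of_support_closedPoints X M hM (fun x hx => ?_) n
  have h1 : IsClosed ({(⟨x, hx⟩ : CohB1.support M)} : Set (CohB1.support M)) :=
    isClosed_singleton_of_krullDim_nonpos h0 _
  have h2 := hZ.isClosedEmbedding_subtypeVal.isClosedMap _ h1
  rwa [Set.image_singleton] at h2

end Groth.Agent.Lead.Coh
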