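import Mathlib
import Groth.Agent.Lead.Coh.FiniteLES
import Groth.Agent.S4458

/-!
Lead library: reduction of the finiteness theorem for coherent cohomology (proper over a Noetherian
ring) to the existence, on every integral closed subscheme, of one coherent module with nonzero
generic stalk and finite cohomology (dévissage, S4458).
-/

set_option autoImplicit false
set_option linter.style.haveILetI false
universe u
open CategoryTheory CategoryTheory.Limits AlgebraicGeometry Opposite TopologicalSpace

namespace Groth.Agent.Lead.ProperFinite

open Groth.Agent.Lead.FiniteLES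

variable (A : Type u) [CommRing A] [IsNoetherianRing A] (X : Scheme.{u})
  [X.Over (Spec (CommRingCat.of A))]

/-- Dévissage for finiteness of cohomology: on a Noetherian scheme `X` over a Noetherian ring `A`,
if every irreducible closed subset `Z` (with generic point `y`) carries a coherent module `G`
supported in `Z`, killed by the ideal of `Z`, nonzero at `y`, all of whose cohomology groups are
finite `A`-modules, then every coherent module has finite cohomology. -/
theorem finite_of_witnesses [IsNoetherian X]
    (hgen : ∀ (Z : Set X) (hZ : IsClosed Z), IsIrreducible Z → ∀ y : X, closure {y} = Z →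
      ∃ G : X.Modules, Coh.IsCoh G ∧ (∀ n, Module.Finite A (Coh.HH X G n)) ∧
        CohB1.support G ⊆ Z ∧
        ClSub.KilledByIdeal (Scheme.IdealSheafData.vanishingIdeal ⟨Z, hZ⟩) G ∧
        y ∈ CohB1.support G)
    (M : X.Modules) (hM : Coh.IsCoh M) (n : ℕ) : Module.Finite A (Coh.HH X M n) := by
  let K' : ObjectProperty X.Modules := fun F => ∀ n, Module.Finite A (Coh.HH X F n)
  haveI : K'.IsClosedUnderIsomorphisms :=
    ⟨fun {M N} e h n => finite_of_iso A e n (h n)⟩
  refine Groth.Agent.S4458.result X K' ?_ ?_ ?_ Set.univ isClosed_univ ?_ M hM
    (Set.subset_univ _) n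
  · intro F hF n
    have hz : IsZero (Coh.toAb F) :=
      (SheafOfModules.toSheaf.{u} X.ringCatSheaf).map_isZero hF
    haveI : Subsingleton (Coh.HH X F n) := Sheaf.subsingleton_H_of_isZero hz n
    exact Module.Finite.of_finite
  · intro S hS _ _ _
    exact finite_two_of_three A S hS
  · intro M N i r hir _ _ h n
    exact finite_of_retract A i r hir n (h n)
  · intro Z hZ hirr _ y hy
    obtain ⟨G, hG, hfin, hs, hk, hy'⟩ := hgen Z hZ hirr y hy
    exact ⟨G, hG, hfin, hs, hk, hy'⟩

end Groth.Agent.Lead.ProperFinite
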