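import Mathlib
import Groth.Agent.Lead.Coh.ProperFinite
import Groth.Agent.Lead.Coh.AcyclicEmbed
import Groth.Agent.H43.LerayLin6
import Groth.Agent.H67.FinGeo
import Groth.Agent.H67.FinInvSupp
import Groth.Agent.H67.DevGen2
import Groth.Agent.H18.STL.QuasiAffine
import Groth.Agent.H18.ResProp.Ample
import Groth.Agent.H71.QCoh.LocFreeRank

/-!
Lead library: assembly of the finiteness theorem for coherent cohomology of a scheme proper over a
Noetherian ring (S0002), from: dévissage (`Lead.ProperFinite.finite_of_witnesses`), Chow's lemma in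
the form `H67.Fin.exists_chow_data`, the `A`-linear Leray comparison of helper43
(`H43.LerayLin.nonempty_linearEquiv_over`), and three inputs stated here as hypotheses:
local Serre vanishing (`VanHyp`), coherence of `π_* L` (`CohHyp`) and finiteness on `P^N_A` (`P38`).
-/

set_option autoImplicit false
set_option linter.style.haveILetI false
universe u
open CategoryTheory CategoryTheory.Limits AlgebraicGeometry Opposite TopologicalSpace

namespace Groth.Agent.Lead.ProperAsm

open Groth.Agent.Lead.Coh (HVanish hVanish_of_isAffineOpen freeSheaf)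

/-- intersections of affine opens in a scheme separated over an affine scheme are affine -/
theorem isAffineOpen_inf {X S : Scheme.{u}} [IsAffine S] (f : X ⟶ S) [IsSeparated f]
    {U V : X.Opens} (hU : IsAffineOpen U) (hV : IsAffineOpen V) : IsAffineOpen (U ⊓ V) := by
  have h : IsAffineHom (pullback.diagonal f) := inferInstance
  exact isAffineHom_diagonal_iff.mp h ⊤ (isAffineOpen_top S) U (by simp) V (by simp) hU hV

/-- finite nonempty intersections of affine opens in a scheme separated over an affine scheme -/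
theorem isAffineOpen_iInf {X S : Scheme.{u}} [IsAffine S] (f : X ⟶ S) [IsSeparated f]
    {n : ℕ} (a : Fin (n + 1) → X.Opens) (h : ∀ k, IsAffineOpen (a k)) :
    IsAffineOpen (⨅ k, a k) :=
  InfClosed.iInf_mem_of_nonempty (s := Set.ofPred IsAffineOpen)
    (fun _ h _ h' ↦ isAffineOpen_inf f h h') h

/-- **`A`-linear comparison along an affine morphism** into a scheme separated over `Spec A`. -/
theorem nonempty_linearEquiv_of_isAffineHom (A : Type u) [CommRing A] {X' X : Scheme.{u}}
    [X'.Over (Spec (CommRingCat.of A))] [X.Over (Spec (CommRingCat.of A))] (f : X' ⟶ X)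
    (hf : f ≫ (X ↘ Spec (CommRingCat.of A)) = X' ↘ Spec (CommRingCat.of A))
    [IsAffineHom f] [IsSeparated (X ↘ Spec (CommRingCat.of A))]
    (F : X'.Modules) [F.IsQuasicoherent] (n : ℕ) :
    Nonempty (Coh.HH X' F n ≃ₗ[A] Coh.HH X ((Coh.push f).obj F) n) := by
  haveI : ((Coh.push f).obj F).IsQuasicoherent :=
    Groth.Agent.H8.isQuasicoherent_pushforward_of_isAffineHom f F
  refine Groth.Agent.H43.LerayLin.nonempty_linearEquiv_over A f hf F
    (ι := X.affineOpens) (fun i => i.1) ?_ ?_ ?_ n
  · exact iSup_affineOpens_eq_top X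
  · intro p a q x
    have haff : IsAffineOpen (⨅ k, (a k).1) :=
      isAffineOpen_iInf (X ↘ Spec (CommRingCat.of A)) (fun k => (a k).1) (fun k => (a k).2)
    exact hVanish_of_isAffineOpen X' F (haff.preimage f) q x
  · intro p a q x
    have haff : IsAffineOpen (⨅ k, (a k).1) :=
      isAffineOpen_iInf (X ↘ Spec (CommRingCat.of A)) (fun k => (a k).1) (fun k => (a k).2)
    exact hVanish_of_isAffineOpen X ((Coh.push f).obj F) haff q x

/-- (VAN) local Serre vanishing for the twists of a projective morphism. -/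
def VanHyp (A : Type u) [CommRing A] : Prop :=
  ∀ (Y Z' : Scheme.{u}) [IsLocallyNoetherian Y] (g : Y ⟶ Spec (CommRingCat.of A)) (π : Z' ⟶ Y)
    [IsProper π] (N : ℕ) (j : Z' ⟶ CohB1.ProjSpace N A) [IsClosedImmersion j]
    (_ : j ≫ CohB1.ProjSpace.toSpec N A = π ≫ g) (V : Y.Opens) (_ : IsAffineOpen V),
    ∃ m₀ : ℕ, ∀ m : ℕ, m₀ ≤ m → ∀ q : ℕ,
      HVanish (T := Z') (Coh.toAb ((Scheme.Modules.pullback j).obj
        (Twist.twistProjSpace N A (m : ℤ)))) (q + 1) (π ⁻¹ᵁ V)

/-- (COH) coherence of the direct image of a twist under a projective morphism. -/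
def CohHyp (A : Type u) [CommRing A] : Prop :=
  ∀ (Y Z' : Scheme.{u}) [IsLocallyNoetherian Y] (g : Y ⟶ Spec (CommRingCat.of A)) (π : Z' ⟶ Y)
    [IsProper π] (N : ℕ) (j : Z' ⟶ CohB1.ProjSpace N A) [IsClosedImmersion j]
    (_ : j ≫ CohB1.ProjSpace.toSpec N A = π ≫ g) (m : ℕ),
    Coh.IsCoh ((Scheme.Modules.pushforward π).obj ((Scheme.Modules.pullback j).obj
        (Twist.twistProjSpace N A (m : ℤ))))

/-- (S0038) finiteness of coherent cohomology on projective space. -/
def P38 : Prop :=
  ∀ (n : ℕ) (R : Type u) [CommRing R] [IsNoetherianRing R]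
    (M : (CohB1.ProjSpace n R).Modules) (_ : Coh.IsCoh M) (i : ℕ),
    Module.Finite R (Coh.HH (CohB1.ProjSpace n R) M i)

theorem isCoh_of_isInvertible {X : Scheme.{u}} {L : X.Modules} (hL : PicF.IsInvertible L) :
    Coh.IsCoh L := by
  haveI : L.IsQuasicoherent := Groth.Agent.H18.STL.isQuasicoherent_of_isInvertible hL
  exact ⟨inferInstance, Groth.Agent.H71.QCoh.isFiniteType_of_isFinLocFree L
      (Groth.Agent.H18.ResProp.isFinLocFree_of_isInvertible hL)⟩

/-- **Finiteness of coherent cohomology for a scheme proper over a Noetherian ring**, assembled from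
(VAN), (COH) and (S0038). -/
theorem finite_of_proper (A : Type u) [CommRing A] [IsNoetherianRing A]
    (hvan : VanHyp.{u} A) (hcoh : CohHyp.{u} A) (h38 : P38.{u})
    (X : Scheme.{u}) [X.Over (Spec (CommRingCat.of A))]
    [IsProper (X ↘ Spec (CommRingCat.of A))]
    (M : X.Modules) (hM : Coh.IsCoh M) (n : ℕ) : Module.Finite A (Coh.HH X M n) := by
  haveI : IsLocallyNoetherian X :=
    LocallyOfFiniteType.isLocallyNoetherian (X ↘ Spec (CommRingCat.of A))
  haveI : CompactSpace X :=
    QuasiCompact.compactSpace_of_compactSpace (X ↘ Spec (CommRingCat.of A))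
  haveI : IsNoetherian X := {}
  refine Groth.Agent.Lead.ProperFinite.finite_of_witnesses A X ?_ M hM n
  intro Z hZ hirr y hy
  obtain ⟨hint, N, Z', π, j, hjcl, hj, hπ, hsurj, U, hU, hiso⟩ :=
    Groth.Agent.H67.Fin.exists_chow_data A (X ↘ Spec (CommRingCat.of A)) ⟨Z, hZ⟩ hirr
  let J := Scheme.IdealSheafData.vanishingIdeal (⟨Z, hZ⟩ : Closeds X)
  let Y : Scheme.{u} := J.subscheme
  let i : Y ⟶ X := J.subschemeι
  let g : Y ⟶ Spec (CommRingCat.of A) := i ≫ (X ↘ Spec (CommRingCat.of A))
  haveI : IsClosedImmersion i := inferInstance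
  haveI : IsProper g := inferInstance
  haveI : IsLocallyNoetherian Y := LocallyOfFiniteType.isLocallyNoetherian g
  haveI : CompactSpace Y := QuasiCompact.compactSpace_of_compactSpace g
  letI : Y.Over (Spec (CommRingCat.of A)) := ⟨g⟩
  letI : Z'.Over (Spec (CommRingCat.of A)) := ⟨π ≫ g⟩
  haveI : IsSeparated (Y ↘ Spec (CommRingCat.of A)) := (inferInstance : IsSeparated g)
  haveI : IsProper (CohB1.ProjSpace.toSpec N A) :=
    Groth.Agent.H97.ProjProper.isProper_toSpec A N
  haveI : IsSeparated (CohB1.ProjSpace N A ↘ Spec (CommRingCat.of A)) :=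
    (inferInstance : IsSeparated (CohB1.ProjSpace.toSpec N A))
  -- a finite affine cover of `Y`
  obtain ⟨s, hsaff, hscov⟩ := Groth.Agent.Lead.AcyclicEmbed.exists_finset_affine_cover Y
  classical
  -- a uniform bound for the local vanishing on the finitely many intersections
  let m₀fun : Y.Opens → ℕ := fun W =>
    if h : IsAffineOpen W then Classical.choose (hvan Y Z' g π N j hj W h) else 0
  let T : Finset Y.Opens := (s.powerset).image (fun t => t.inf id)
  let m : ℕ := T.sup m₀fun
  let L : Z'.Modules := (Scheme.Modules.pullback j).obj (Twist.twistProjSpace N A (m : ℤ))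
  have hLinv : PicF.IsInvertible L :=
    Groth.Agent.H67.Fin.isInvertible_pullback_twist A N j (m : ℤ)
  have hLcoh : Coh.IsCoh L := isCoh_of_isInvertible hLinv
  have hπL : Coh.IsCoh ((Scheme.Modules.pushforward π).obj L) := hcoh Y Z' g π N j hj m
  obtain ⟨hs1, hs2, hs3⟩ := Groth.Agent.H67.Fin.witness_support Z hZ y hy π hsurj U hU L hLinv
  refine ⟨(Scheme.Modules.pushforward i).obj ((Scheme.Modules.pushforward π).obj L),
    Groth.Agent.H67.Dev.isCoh_push_closed i hπL, ?_, hs1, hs2, hs3⟩
  intro n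
  haveI : ((Scheme.Modules.pushforward π).obj L).IsQuasicoherent := hπL.1
  haveI : L.IsQuasicoherent := hLcoh.1
  -- (a) `X` versus `Y`
  obtain ⟨ea⟩ := nonempty_linearEquiv_of_isAffineHom A i rfl
    ((Scheme.Modules.pushforward π).obj L) n
  -- (c) `Z'` versus `P^N_A`
  obtain ⟨ec⟩ := nonempty_linearEquiv_of_isAffineHom A j hj L n
  -- (b) `Y` versus `Z'`
  have hcov : iSup (fun k : ↥s => (k.1 : Y.Opens)) = ⊤ := by
    rw [eq_top_iff]
    intro x _
    obtain ⟨W, hW, hx⟩ := hscov x
    exact Opens.mem_iSup.mpr ⟨⟨W, hW⟩, hx⟩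
  have haffI : ∀ (p : ℕ) (a : Fin (p + 1) → ↥s), IsAffineOpen (⨅ k, ((a k).1 : Y.Opens)) :=
    fun p a => isAffineOpen_iInf g (fun k => (a k).1) (fun k => hsaff _ (a k).2)
  have hmemT : ∀ (p : ℕ) (a : Fin (p + 1) → ↥s), (⨅ k, ((a k).1 : Y.Opens)) ∈ T := by
    intro p a
    refine Finset.mem_image.mpr ⟨Finset.univ.image (fun k => (a k).1), ?_, ?_⟩
    · rw [Finset.mem_powerset]
      intro W hW
      obtain ⟨k, -, rfl⟩ := Finset.mem_image.mp hW
      exact (a k).2
    · rw [Finset.inf_image]
      simp [Finset.inf_univ_eq_iInf]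
  obtain ⟨eb⟩ := Groth.Agent.H43.LerayLin.nonempty_linearEquiv_over A π rfl L
    (ι := ↥s) (fun k => k.1) hcov
    (by
      intro p a q x
      have haff := haffI p a
      have hle : m₀fun (⨅ k, ((a k).1 : Y.Opens)) ≤ m := Finset.le_sup (hmemT p a)
      have hspec := Classical.choose_spec (hvan Y Z' g π N j hj _ haff)
      have hm₀ : m₀fun (⨅ k, ((a k).1 : Y.Opens)) =
          Classical.choose (hvan Y Z' g π N j hj _ haff) := dif_pos haff
      rw [hm₀] at hle
      exact hspec m hle q x)
    (by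
      intro p a q x
      exact hVanish_of_isAffineOpen Y ((Coh.push π).obj L) (haffI p a) q x) n
  have hfin : Module.Finite A (Coh.HH (CohB1.ProjSpace N A) ((Coh.push j).obj L) n) :=
    h38 N A ((Coh.push j).obj L) (Groth.Agent.H67.Dev.isCoh_push_closed j hLcoh) n
  exact Module.Finite.equiv (ec.symm.trans (eb.trans ea))

end Groth.Agent.Lead.ProperAsm
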