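import Mathlib
import Groth.Agent.Lead.Coh.ProperAsm
import Groth.Agent.H67.FinGeoLocal
import Groth.Agent.H96.S0002.PushCohNoeth
import Groth.Agent.H6.Ref1Tensor
import Groth.Agent.S0038
import Groth.Agent.S0012
import Groth.Agent.H86.Serre.Main
import Groth.Agent.Lead.Coh.LocTop

/-!
Lead library: discharge of the hypothesis (COH) of `Lead.ProperAsm.finite_of_proper`
(helper96's `isCoh_pushforward_noeth` + helper67's `exists_local_data` + S0038 + coherence of
twists), and of (S0038).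
-/

set_option autoImplicit false
set_option linter.style.haveILetI false
universe u
open CategoryTheory CategoryTheory.Limits AlgebraicGeometry Opposite TopologicalSpace

namespace Groth.Agent.Lead.ProperAsm

theorem p38 : P38.{u} := fun n R _ _ M hM i => Groth.Agent.S0038.result n R M hM i

/-- twisting preserves coherence on projective space -/
theorem isCoh_twistBy (n : ℕ) (R : Type u) [CommRing R]
    (F : (CohB1.ProjSpace n R).Modules) (m : ℤ) (hF : Coh.IsCoh F) :
    Coh.IsCoh (Twist.twistBy (CohB1.polyGrading n R) F m) :=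
  Groth.Agent.H6.Ref1.isCoh_tensorMod F (Twist.twistProjSpace n R m) hF
    (Groth.Agent.H95.SerreFin.isCoh_twist n R m)

theorem cohHyp (A : Type u) [CommRing A] : CohHyp.{u} A := by
  intro Y Z' _ g π _ N j _ hj m
  have hLinv : PicF.IsInvertible ((Scheme.Modules.pullback j).obj
      (Twist.twistProjSpace N A (m : ℤ))) :=
    Groth.Agent.H67.Fin.isInvertible_pullback_twist A N j (m : ℤ)
  haveI : ((Scheme.Modules.pullback j).obj
      (Twist.twistProjSpace N A (m : ℤ))).IsQuasicoherent := (isCoh_of_isInvertible hLinv).1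
  refine Groth.Agent.H96.COH.isCoh_pushforward_noeth π _
    (fun n R _ _ M hM => Groth.Agent.S0038.result n R M hM 0)
    (fun n R _ _ F m hF => isCoh_twistBy n R F m hF) ?_
  intro V hV
  obtain ⟨jV, hcl, hjV, hiso⟩ := Groth.Agent.H67.Fin.exists_local_data A g π N j hj V hV
  exact ⟨N, jV, hcl, hjV, (m : ℤ), hiso m⟩

theorem vanHyp (A : Type u) [CommRing A] : VanHyp.{u} A := by
  intro Y Z' _ g π _ N j _ hj V hV
  haveI : IsNoetherianRing Γ(Y, V) := IsLocallyNoetherian.component_noetherian ⟨V, hV⟩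
  obtain ⟨jV, hcl, hjV, hiso⟩ := Groth.Agent.H67.Fin.exists_local_data A g π N j hj V hV
  haveI := hcl
  -- the coherent module `jV_* O` on `P^N_B`
  have hF₀ : Coh.IsCoh ((Scheme.Modules.pushforward jV).obj
      (Coh.structureModule ((π ⁻¹ᵁ V : Z'.Opens) : Scheme.{u}))) :=
    Groth.Agent.H67.Dev.isCoh_push_closed jV (Groth.Agent.H6.HomSh.isCoh_structureModule _)
  obtain ⟨m₀z, hm₀⟩ := Groth.Agent.H86.Serre.serre_vanishing N Γ(Y, V) _ hF₀
  refine ⟨m₀z.toNat, fun m hm q => ?_⟩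
  have hmz : m₀z ≤ (m : ℤ) := Int.toNat_le.mp hm
  -- vanishing on `P^N_B`
  have h1 : Subsingleton (Coh.HH (CohB1.ProjSpace N Γ(Y, V))
      (Groth.Agent.H96.COH.twistPush N Γ(Y, V) jV (m : ℤ)) (q + 1)) :=
    hm₀ (m : ℤ) hmz (q + 1) (Nat.succ_pos q)
  have h2 : Subsingleton (Coh.HH (CohB1.ProjSpace N Γ(Y, V))
      ((Scheme.Modules.pushforward jV).obj
        ((Scheme.Modules.pullback jV).obj (Twist.twistProjSpace N Γ(Y, V) (m : ℤ)))) (q + 1)) :=
    Groth.Agent.H86.Serre.subsingleton_of_iso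
      (Groth.Agent.H96.COH.twistIsoPS N Γ(Y, V) jV (m : ℤ)) (q + 1) h1
  -- back to `π⁻¹V` along the affine morphism `jV`
  have hinv : PicF.IsInvertible ((Scheme.Modules.pullback jV).obj
      (Twist.twistProjSpace N Γ(Y, V) (m : ℤ))) :=
    Groth.Agent.H67.Fin.isInvertible_pullback_twist Γ(Y, V) N jV (m : ℤ)
  haveI : Coh.IsQCoh ((Scheme.Modules.pullback jV).obj
      (Twist.twistProjSpace N Γ(Y, V) (m : ℤ))) := (isCoh_of_isInvertible hinv).1
  obtain ⟨e12⟩ := Groth.Agent.S0012.result jV ((Scheme.Modules.pullback jV).obj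
      (Twist.twistProjSpace N Γ(Y, V) (m : ℤ))) (q + 1)
  have h3 : Subsingleton (Coh.HH ((π ⁻¹ᵁ V : Z'.Opens) : Scheme.{u})
      ((Scheme.Modules.pullback jV).obj (Twist.twistProjSpace N Γ(Y, V) (m : ℤ))) (q + 1)) :=
    e12.toEquiv.subsingleton
  -- the restriction of `L_m`
  obtain ⟨em⟩ := hiso m
  have h4 : Subsingleton (Coh.HH ((π ⁻¹ᵁ V : Z'.Opens) : Scheme.{u})
      ((Scheme.Modules.pullback (π ⁻¹ᵁ V).ι).obj ((Scheme.Modules.pullback j).obj
        (Twist.twistProjSpace N A (m : ℤ)))) (q + 1)) :=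
    Groth.Agent.H86.Serre.subsingleton_of_iso em.symm (q + 1) h3
  have h5 : Subsingleton (Coh.HHon Z' ((Scheme.Modules.pullback j).obj
        (Twist.twistProjSpace N A (m : ℤ))) (π ⁻¹ᵁ V) (q + 1)) :=
    Groth.Agent.H86.Serre.subsingleton_of_iso
      ((Scheme.Modules.restrictFunctorIsoPullback (π ⁻¹ᵁ V).ι).symm.app _) (q + 1) h4
  obtain ⟨e6⟩ := Groth.Agent.Lead.Coh.nonempty_addEquiv_HHon_EM ((Scheme.Modules.pullback j).obj
        (Twist.twistProjSpace N A (m : ℤ))) (π ⁻¹ᵁ V) (q + 1)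
  intro x
  have h6 : Subsingleton (Groth.Agent.Lead.Coh.EM ((Scheme.Modules.pullback j).obj
        (Twist.twistProjSpace N A (m : ℤ))) (π ⁻¹ᵁ V) (q + 1)) := e6.symm.toEquiv.subsingleton
  exact @Subsingleton.elim _ h6 x 0

end Groth.Agent.Lead.ProperAsm
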