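import Mathlib
import Groth.Agent.Lead.Coh.MVVanish
import Groth.Agent.Lead.Coh.CoverInd

/-!
Lead library (Zariski cohomology project): the abstract vanishing theorem of `MVVanish`, with the
surjectivity hypothesis only required for good pairs of a class with the splitting property.
-/

set_option autoImplicit false

open CategoryTheory Opposite Abelian Limits TopologicalSpace

namespace Groth.Agent.Lead.Coh

universe u

variable {T : Type u} [TopologicalSpace T]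
  [HasExt.{u} (Sheaf (Opens.grothendieckTopology T) AddCommGrpCat.{u})]
  [EnoughInjectives (Sheaf (Opens.grothendieckTopology T) AddCommGrpCat.{u})]
  {𝔅 : Set (Opens T)} {Good : Opens T → Opens T → Prop}
  {F : Sheaf (Opens.grothendieckTopology T) AddCommGrpCat.{u}}

/-- **Abstract vanishing theorem, good-pair version.** -/
theorem ext_eq_zero_of_hasSplit (hsplit : HasSplit 𝔅 Good)
    (hinf : ∀ {U V : Opens T}, U ∈ 𝔅 → V ∈ 𝔅 → U ⊓ V ∈ 𝔅)
    (hcompact : ∀ W ∈ 𝔅, IsCompact (W : Set T))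
    (hsurj : ∀ W₁ W₂ : Opens T, W₁ ∈ 𝔅 → W₂ ∈ 𝔅 → W₁ ⊔ W₂ ∈ 𝔅 → Good W₁ W₂ →
      ∀ s : F.obj.obj (op (W₁ ⊓ W₂)), ∃ (a : F.obj.obj (op W₁)) (b : F.obj.obj (op W₂)),
        s = F.obj.map (homOfLE (inf_le_left : W₁ ⊓ W₂ ≤ W₁)).op a -
          F.obj.map (homOfLE (inf_le_right : W₁ ⊓ W₂ ≤ W₂)).op b)
    (n : ℕ) : ∀ W ∈ 𝔅, ∀ x : Ext (freeSheaf (Opens.grothendieckTopology T) W) F (n + 1),
      x = 0 := by
  induction n using Nat.strong_induction_on with
  | _ n ih =>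
    intro W₀ hW₀ x₀
    let A : Opens T → Prop := fun V => ∃ h : V ≤ W₀, resLE h x₀ = 0
    have hA : A W₀ := by
      refine local_to_global hsplit hcompact A ?_ ?_ ?_ W₀ hW₀ ?_
      · exact ⟨bot_le, ext_bot_eq_zero F _⟩
      · rintro V' V hV' ⟨h, e⟩
        refine ⟨hV'.trans h, ?_⟩
        rw [← resLE_resLE h hV' x₀, e, resLE_zero]
      · rintro W₁ W₂ hW₁ hW₂ hW₁₂ hgood ⟨h₁, e₁⟩ ⟨h₂, e₂⟩
        refine ⟨sup_le h₁ h₂, ?_⟩
        have hx₁ : resLE le_sup_left (resLE (sup_le h₁ h₂) x₀) = 0 := by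
          rw [resLE_resLE]; exact e₁
        have hx₂ : resLE le_sup_right (resLE (sup_le h₁ h₂) x₀) = 0 := by
          rw [resLE_resLE]; exact e₂
        obtain ⟨y, hy⟩ := exists_δ_eq W₁ W₂ F n _ hx₁ hx₂
        rw [← hy]
        cases n with
        | zero =>
          obtain ⟨s, rfl⟩ := exists_mk₀_symm_eq F y
          obtain ⟨a, b, rfl⟩ := hsurj W₁ W₂ hW₁ hW₂ hW₁₂ hgood s
          rw [mk₀_symm_sub, ← resLE_mk₀_symm, ← resLE_mk₀_symm]
          exact δ_sub_eq_zero W₁ W₂ F 0 _ _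
        | succ m =>
          rw [ih m (Nat.lt_succ_self m) _ (hinf hW₁ hW₂) y]
          exact map_zero _
      · intro p hp
        obtain ⟨U, f, hf, hpU⟩ := vanishingSieve_mem n F x₀ p hp
        exact ⟨U, hpU, leOfHom f, hf⟩
    obtain ⟨h, e⟩ := hA
    have h1 : resLE h x₀ = x₀ := res_id x₀
    rw [← h1, e]

end Groth.Agent.Lead.Coh
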