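import Mathlib
import Groth.Agent.Lead.Coh.RpushAffine
import Groth.Agent.Lead.Coh.MVVanish2

/-!
Lead library (Zariski cohomology project): for `f : X ⟶ S` with `S` affine and `X` quasi-compact
quasi-separated, and `M` quasi-coherent on `X`, the higher direct images `R^q f_* M` have no higher
cohomology on the basic opens of `S`.
-/

set_option autoImplicit false
open CategoryTheory Opposite Limits TopologicalSpace AlgebraicGeometry Abelian
universe u
namespace Groth.Agent.Lead.Rpush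

open Groth.Agent.Lead.Coh

variable {X S : Scheme.{u}} (f : X ⟶ S) (M : X.Modules)
  [IsAffine S] [CompactSpace X] [QuasiSeparatedSpace X] [M.IsQuasicoherent]
  (I : InjectiveResolution (Coh.toAb M))

omit [IsAffine S] in
/-- on the source, every class on `f⁻¹(W₁ ∩ W₂)` is a difference of restrictions, for a good pair -/
theorem exists_sub_eq_of_goodPair (W₁ W₂ : S.Opens) (hW₁₂ : W₁ ⊔ W₂ ∈ basicOpens S)
    (hgood : GoodPair S W₁ W₂) (n : ℕ)
    (ξ : Ext (freeSheaf (Opens.grothendieckTopology X) ((Opens.map f.base).obj (W₁ ⊓ W₂)))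
      (Coh.toAb M) n) :
    ∃ (a : Ext (freeSheaf (Opens.grothendieckTopology X) ((Opens.map f.base).obj W₁)) (Coh.toAb M) n)
      (b : Ext (freeSheaf (Opens.grothendieckTopology X) ((Opens.map f.base).obj W₂)) (Coh.toAb M) n),
      ξ = resHom (T := X) (map_le f.base (inf_le_left : W₁ ⊓ W₂ ≤ W₁)) n a -
        resHom (T := X) (map_le f.base (inf_le_right : W₁ ⊓ W₂ ≤ W₂)) n b := by
  let SX := Opens.mayerVietorisSquare ((Opens.map f.base).obj W₁) ((Opens.map f.base).obj W₂)
  have hδ : SX.δ (Coh.toAb M) n (n + 1) rfl ξ = 0 := by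
    obtain ⟨h1, h2⟩ := mv_res_δ (T := X) SX (Coh.toAb M) n ξ
    obtain ⟨g, a, b, c, d, N, hN, rfl, rfl⟩ := hgood
    have hN' : (f.appTop g) ^ N = f.appTop c * f.appTop a + f.appTop d * f.appTop b := by
      rw [← map_pow, hN, map_add, map_mul, map_mul]
    have hle : S.basicOpen (g * a) ⊔ S.basicOpen (g * b) ≤ S.basicOpen g := by
      rw [S.basicOpen_mul, S.basicOpen_mul]
      exact sup_le inf_le_left inf_le_left
    refine eq_zero_of_res_eq_zero M (f.appTop g) (f.appTop a) (f.appTop b) (f.appTop c)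
      (f.appTop d) N hN' ((Opens.map f.base).obj (S.basicOpen (g * a) ⊔ S.basicOpen (g * b)))
      ((Opens.map f.base).obj (S.basicOpen (g * a))) ((Opens.map f.base).obj (S.basicOpen (g * b)))
      (isCompact_preimage_of_mem_basicOpens f hW₁₂) (isQuasiSeparated_opens _) ?_
      (map_le f.base le_sup_left) (map_le f.base le_sup_right) ?_ ?_ (n + 1) _ h1 h2
    · rw [← Scheme.preimage_basicOpen_top]
      exact map_le f.base hle
    · rintro x ⟨hx₁, hx₂⟩
      rw [← Scheme.preimage_basicOpen_top] at hx₂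
      have hx₁' : f.base x ∈ S.basicOpen g := hle hx₁
      change f.base x ∈ S.basicOpen (g * a)
      rw [S.basicOpen_mul]
      exact ⟨hx₁', hx₂⟩
    · rintro x ⟨hx₁, hx₂⟩
      rw [← Scheme.preimage_basicOpen_top] at hx₂
      have hx₁' : f.base x ∈ S.basicOpen g := hle hx₁
      change f.base x ∈ S.basicOpen (g * b)
      rw [S.basicOpen_mul]
      exact ⟨hx₁', hx₂⟩
  obtain ⟨a, b, hab⟩ := mv_exists_sub_eq (T := X) SX (Coh.toAb M) n ξ hδ
  exact ⟨a, b, hab.symm⟩

/-- the surjectivity hypothesis of the abstract vanishing theorem for the homology sheaves of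
`f_* I` -/
theorem exists_sub_eq_sections (q : ℕ) (W₁ W₂ : S.Opens) (hW₁ : W₁ ∈ basicOpens S)
    (hW₂ : W₂ ∈ basicOpens S) (hW₁₂ : W₁ ⊔ W₂ ∈ basicOpens S) (hgood : GoodPair S W₁ W₂)
    (s : ((K f.base I).homology q).obj.obj (op (W₁ ⊓ W₂))) :
    ∃ (a : ((K f.base I).homology q).obj.obj (op W₁))
      (b : ((K f.base I).homology q).obj.obj (op W₂)),
      s = ((K f.base I).homology q).obj.map (homOfLE (inf_le_left : W₁ ⊓ W₂ ≤ W₁)).op a -
        ((K f.base I).homology q).obj.map (homOfLE (inf_le_right : W₁ ⊓ W₂ ≤ W₂)).op b := by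
  obtain ⟨ξ, rfl⟩ := exists_cmap_eq_of_mem_basicOpens f M I (W₁ ⊓ W₂)
    (basicOpens_inf_mem hW₁ hW₂) q s
  obtain ⟨a, b, rfl⟩ := exists_sub_eq_of_goodPair f M W₁ W₂ hW₁₂ hgood q ξ
  refine ⟨cmap f.base I W₁ q a, cmap f.base I W₂ q b, ?_⟩
  rw [cmap_sub, ← cmap_resHom f M I (inf_le_left : W₁ ⊓ W₂ ≤ W₁) q a,
    ← cmap_resHom f M I (inf_le_right : W₁ ⊓ W₂ ≤ W₂) q b]

/-- **Vanishing**: the homology sheaves of `f_* I` (i.e. `R^q f_* M`) have no higher cohomology on
basic opens of the affine base. -/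
theorem ext_homology_eq_zero (q p : ℕ) (W : S.Opens) (hW : W ∈ basicOpens S)
    (x : Ext (freeSheaf (Opens.grothendieckTopology S) W) ((K f.base I).homology q) (p + 1)) :
    x = 0 :=
  ext_eq_zero_of_hasSplit (T := S) hasSplit_basicOpens
    (fun hU hV => basicOpens_inf_mem hU hV)
    (fun _ hW => isCompact_of_mem_basicOpens hW)
    (fun W₁ W₂ hW₁ hW₂ hW₁₂ hgood s =>
      exists_sub_eq_sections f M I q W₁ W₂ hW₁ hW₂ hW₁₂ hgood s) p W hW x

end Groth.Agent.Lead.Rpush
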