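import Mathlib
import Groth.Agent.Lead.Coh.RpushVanish
import Groth.Agent.Lead.Coh.TopIso
import Groth.Agent.H30.RestrPush

/-!
Lead library (Zariski cohomology project): for a quasi-compact quasi-separated morphism
`f : X ⟶ Y` and a quasi-coherent module `M` on `X`, the higher direct images `R^q f_* M` have no
higher cohomology on affine opens of `Y`.
-/

set_option autoImplicit false
open CategoryTheory Opposite Limits TopologicalSpace AlgebraicGeometry Abelian
universe u
namespace Groth.Agent.Lead.Rpush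

open Groth.Agent.Lead.Coh

section general

variable {A : Type*} [Category A] [Abelian A] [HasExt A]

/-- vanishing of an `Ext` group is invariant under isomorphisms in both variables -/
theorem ext_eq_zero_of_iso {P P' Q Q' : A} (eP : P ≅ P') (eQ : Q ≅ Q') (n : ℕ)
    (h : ∀ x : Ext P Q n, x = 0) (x' : Ext P' Q' n) : x' = 0 := by
  have h1 : ((Ext.mk₀ eP.hom).comp x' (zero_add n)).comp (Ext.mk₀ eQ.inv) (add_zero n) = 0 :=
    h _
  have h2 : x' = (Ext.mk₀ eP.inv).comp
      ((((Ext.mk₀ eP.hom).comp x' (zero_add n)).comp (Ext.mk₀ eQ.inv) (add_zero n)).comp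
        (Ext.mk₀ eQ.hom) (add_zero n)) (zero_add n) := by
    rw [Ext.comp_assoc_of_third_deg_zero, Ext.mk₀_comp_mk₀, eQ.inv_hom_id, Ext.comp_mk₀_id,
      Ext.mk₀_comp_mk₀_assoc, eP.inv_hom_id, Ext.mk₀_id_comp]
  rw [h2, h1, Ext.zero_comp, Ext.comp_zero]

end general

variable {X S : Scheme.{u}} (f : X ⟶ S) (M : X.Modules) [M.IsQuasicoherent]

/-- over an affine base, `R^q f_* M` has no higher cohomology -/
theorem subsingleton_H_Rpush_of_isAffine [IsAffine S] [QuasiCompact f] [QuasiSeparated f]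
    (q j : ℕ) :
    Subsingleton (CohTop.H ((CohTop.Rpush f.base q).obj (Coh.toAb M)) (j + 1)) := by
  have hX1 : CompactSpace X := QuasiCompact.compactSpace_of_compactSpace f
  have hX2 : QuasiSeparatedSpace X := quasiSeparatedSpace_of_quasiSeparated f
  let I := injectiveResolution (Coh.toAb M)
  let e1 : (CohTop.Rpush f.base q).obj (Coh.toAb M) ≅ (K f.base I).homology q :=
    I.isoRightDerivedObj (CohTop.push f.base) q
  obtain ⟨e⟩ := exists_iso_constant (J := Opens.grothendieckTopology S) (T₀ := (⊤ : S.Opens))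
    isTerminalTop
  have htop : (⊤ : S.Opens) ∈ basicOpens S := ⟨1, S.basicOpen_of_isUnit isUnit_one⟩
  refine subsingleton_of_forall_eq 0 (fun y => ?_)
  exact ext_eq_zero_of_iso e e1.symm (j + 1)
    (fun x => ext_homology_eq_zero f M I q j ⊤ htop x) y

section affineOpen

variable {Y : Scheme.{u}} (f' : X ⟶ Y) (V : Y.Opens)

theorem morphismRestrict_base_eq :
    (f' ∣_ V).base = Groth.Agent.H30.RestrPush.g f'.base V := by
  apply TopCat.hom_ext
  ext x
  exact Subtype.ext (morphismRestrict_base_coe f' V x)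

/-- `R^q f_* M` has no higher cohomology on affine opens of the base -/
theorem subsingleton_HU_Rpush_of_isAffineOpen [QuasiCompact f'] [QuasiSeparated f']
    (hV : IsAffineOpen V) (q j : ℕ) :
    Subsingleton (CohTop.HU ((CohTop.Rpush f'.base q).obj (Coh.toAb M)) (j + 1) V) := by
  have : IsAffine (↑V : Scheme.{u}) := hV
  obtain ⟨e⟩ := Groth.Agent.H30.RestrOpen.HU_equiv_H_restr (X := Y.carrier) V
    ((CohTop.Rpush f'.base q).obj (Coh.toAb M)) (j + 1)
  obtain ⟨e2⟩ := Groth.Agent.H30.RestrPush.restr_Rpush f'.base V (Coh.toAb M) q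
  rw [← morphismRestrict_base_eq] at e2
  have h1 : Subsingleton (CohTop.H ((CohTop.Rpush (f' ∣_ V).base q).obj
      (Coh.toAb (M.restrict (f' ⁻¹ᵁ V).ι))) (j + 1)) :=
    subsingleton_H_Rpush_of_isAffine (f' ∣_ V) (M.restrict (f' ⁻¹ᵁ V).ι) q j
  have h2 : Subsingleton (CohTop.H (CohTop.restr ((CohTop.Rpush f'.base q).obj (Coh.toAb M)) V)
      (j + 1)) := by
    refine subsingleton_of_forall_eq 0 (fun y => ?_)
    have hz : y.comp (Ext.mk₀ e2.hom) (add_zero (j + 1)) = 0 := h1.elim _ _
    have hy : y = (y.comp (Ext.mk₀ e2.hom) (add_zero (j + 1))).comp (Ext.mk₀ e2.inv)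
        (add_zero (j + 1)) := by
      rw [Ext.comp_assoc_of_third_deg_zero, Ext.mk₀_comp_mk₀, e2.hom_inv_id, Ext.comp_mk₀_id]
    rw [hy, hz, Ext.zero_comp]
  exact e.toEquiv.subsingleton

end affineOpen

end Groth.Agent.Lead.Rpush
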