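import Mathlib
import Groth.Prelude.Def_CohCmp
import Groth.Agent.Lead.Coh.RpushSect
import Groth.Agent.H31.SheafOfModulesToSheaf
import Groth.Agent.H12.RestrictLim

/-!
Lead library: the pinned comparison maps `ε_V : H^p(f⁻¹V, F) → Γ(V, R^p f_* F)` (`CohCmp.SectCmp`).
Dimension shifting over the `RDer.DerivedLES` API.
-/

set_option autoImplicit false
universe u
open CategoryTheory Limits AlgebraicGeometry Opposite TopologicalSpace

namespace Groth.Agent.Lead.SectCmp

open AlgebraicGeometry.Scheme.Modules

variable {X Y : Scheme.{u}}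

/-- The functor to abelian sheaves on `X.Modules` (typed on `X.Modules`). -/
noncomputable abbrev T (X : Scheme.{u}) :
    X.Modules ⥤ Sheaf (Opens.grothendieckTopology X) AddCommGrpCat.{u} :=
  SheafOfModules.toSheaf.{u} X.ringCatSheaf

theorem preservesFiniteLimits_T (X : Scheme.{u}) : PreservesFiniteLimits (T X) := by
  have h2 := Groth.Agent.H31.toSheaf_preservesLimits X.ringCatSheaf
  exact (PreservesLimitsOfSize.preservesFiniteLimits (SheafOfModules.toSheaf.{u} X.ringCatSheaf) :)

theorem preservesFiniteColimits_T (X : Scheme.{u}) : PreservesFiniteColimits (T X) := by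
  have h1 := Groth.Agent.H31.toSheaf_preservesColimits X.ringCatSheaf
  exact (PreservesColimitsOfSize.preservesFiniteColimits
    (SheafOfModules.toSheaf.{u} X.ringCatSheaf) :)

/-- Restriction to an open followed by the underlying abelian sheaf is exact. -/
theorem shortExact_toAbOn (U : X.Opens) (S : ShortComplex X.Modules) (hS : S.ShortExact) :
    (S.map (CohCmp.toAbOn X U)).ShortExact := by
  have h3 : PreservesFiniteLimits (T (U : Scheme.{u})) := preservesFiniteLimits_T _
  have h4 : PreservesFiniteColimits (T (U : Scheme.{u})) := preservesFiniteColimits_T _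
  have h5 : PreservesFiniteLimits (Scheme.Modules.restrictFunctor U.ι) :=
    Groth.Agent.H12.RestrictLim.preservesFiniteLimits_restrictFunctor U.ι
  have h6 : PreservesFiniteColimits (Scheme.Modules.restrictFunctor U.ι) := inferInstance
  have h7 : PreservesFiniteLimits (Scheme.Modules.restrictFunctor U.ι ⋙ T (U : Scheme.{u})) :=
    comp_preservesFiniteLimits _ _
  have h8 : PreservesFiniteColimits (Scheme.Modules.restrictFunctor U.ι ⋙ T (U : Scheme.{u})) :=
    comp_preservesFiniteColimits _ _
  exact hS.map_of_exact (Scheme.Modules.restrictFunctor U.ι ⋙ T (U : Scheme.{u}))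

/-- An epimorphism of `O`-modules is locally surjective on sections. -/
theorem exists_locally_of_epi {A B : Y.Modules} (φ : A ⟶ B) [Epi φ] (V : Y.Opens)
    (b : B.presheaf.obj (op V)) (y : Y) (hy : y ∈ V) :
    ∃ (W : Y.Opens) (hW : W ≤ V), y ∈ W ∧ ∃ a : A.presheaf.obj (op W),
      φ.app W a = B.presheaf.map (homOfLE hW).op b := by
  have h4 : PreservesFiniteColimits (T Y) := preservesFiniteColimits_T _
  have h5 : Epi ((T Y).map φ) := inferInstance
  obtain ⟨W, hW, hyW, a, ha⟩ := Groth.Agent.Lead.Rpush.exists_locally_of_epi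
    ((T Y).map φ) V b y hy
  exact ⟨W, hW, hyW, a, ha⟩

/-- naturality of sections of a morphism of modules with respect to restriction -/
theorem app_res {A B : Y.Modules} (φ : A ⟶ B) {W V : Y.Opens} (h : W ≤ V)
    (a : A.presheaf.obj (op V)) :
    φ.app W (A.presheaf.map (homOfLE h).op a) = B.presheaf.map (homOfLE h).op (φ.app V a) := by
  have h1 := ConcreteCategory.congr_hom (φ.mapPresheaf.naturality (homOfLE h).op) a
  rw [ConcreteCategory.comp_apply, ConcreteCategory.comp_apply] at h1
  exact h1

/-- the short exact sequence `0 → F → I → I/F → 0` for an injective embedding -/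
noncomputable abbrev sesOf {F I : X.Modules} (i : F ⟶ I) : ShortComplex X.Modules :=
  ShortComplex.mk i (cokernel.π i) (cokernel.condition i)

theorem sesOf_shortExact {F I : X.Modules} (i : F ⟶ I) [Mono i] : (sesOf i).ShortExact :=
  ShortComplex.ShortExact.mk' ((sesOf i).exact_of_g_is_cokernel (cokernelIsCokernel i))
    inferInstance inferInstance

variable (f : X ⟶ Y) [HasInjectiveResolutions X.Modules]
  {Δ : RDer.DerivedLES (pushforward f)} (E : CohCmp.SectCmp f Δ)

/-- the connecting morphism into `R^{p+1} f_* F` is an epimorphism when the middle term is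
injective -/
theorem epi_δ {F I : X.Modules} (i : F ⟶ I) [Mono i] [Injective I] (p : ℕ) :
    Epi (Δ.δ (sesOf i) (sesOf_shortExact i) p (p + 1) rfl) := by
  have h := Δ.exact₁ (sesOf i) (sesOf_shortExact i) p (p + 1) rfl
  have hz : IsZero (((pushforward f).rightDerived (p + 1)).obj I) :=
    Functor.isZero_rightDerived_obj_injective_succ _ _ _
  exact h.epi_f (hz.eq_of_tgt _ _)

/-- The comparison map is locally surjective. -/
theorem locally_surjective (p : ℕ) : ∀ (F : X.Modules)
    (V : Y.Opens) (t : ((Coh.Rpush f p).obj F).presheaf.obj (op V)) (y : Y) (hy : y ∈ V),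
    ∃ (W : Y.Opens) (hWV : W ≤ V), y ∈ W ∧
      ∃ x : Coh.HHon X F (f ⁻¹ᵁ W) p,
        E.ε W F p x = ((Coh.Rpush f p).obj F).presheaf.map (homOfLE hWV).op t := by
  induction p with
  | zero =>
    intro F V t y hy
    refine ⟨V, le_rfl, hy, ?_⟩
    let s : F.presheaf.obj (op (f ⁻¹ᵁ V)) :=
      (inv ((pushforward f).toRightDerivedZero.app F)).app V t
    refine ⟨CohPull.sectH0 F (f ⁻¹ᵁ V) s, ?_⟩
    rw [E.zero]
    have h1 : ((pushforward f).toRightDerivedZero.app F).app V s = t := by
      have h2 : inv ((pushforward f).toRightDerivedZero.app F) ≫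
          (pushforward f).toRightDerivedZero.app F = 𝟙 _ := IsIso.inv_hom_id _
      have h3 := congrArg (fun φ => Scheme.Modules.Hom.app φ V) h2
      simp only [Scheme.Modules.Hom.comp_app, Scheme.Modules.Hom.id_app] at h3
      exact ConcreteCategory.congr_hom h3 t
    rw [h1]
    have h4 : (homOfLE (le_refl V)).op = 𝟙 (op V) := rfl
    rw [h4, CategoryTheory.Functor.map_id]
    rfl
  | succ p ih =>
    intro F V t y hy
    let J := injectiveResolution F
    let i : F ⟶ J.cocomplex.X 0 := J.ι.f 0
    have : Mono i := (inferInstance : Mono (J.ι.f 0))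
    have : Injective (J.cocomplex.X 0) := J.injective 0
    have hS := sesOf_shortExact i
    have := epi_δ f (Δ := Δ) i p
    obtain ⟨W, hWV, hyW, t', ht'⟩ := exists_locally_of_epi
      (Δ.δ (sesOf i) hS p (p + 1) rfl) V t y hy
    obtain ⟨W', hW'W, hyW', x', hx'⟩ := ih (sesOf i).X₃ W t' y hyW
    refine ⟨W', hW'W.trans hWV, hyW', ?_⟩
    have hA := shortExact_toAbOn (f ⁻¹ᵁ W') (sesOf i) hS
    refine ⟨CohCmp.extδ hA p x', ?_⟩
    have h1 := E.delta W' (sesOf i) hS hA p x'
    rw [h1, hx', app_res, ht']
    rw [← ConcreteCategory.comp_apply, ← Functor.map_comp]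
    rfl

end Groth.Agent.Lead.SectCmp
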