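import Mathlib
import Groth.Prelude.Def_CohTop

/-!
Lead library: the constant sheaf on an irreducible topological space is flasque.
-/

set_option autoImplicit false
open CategoryTheory Opposite Limits TopologicalSpace
universe u
namespace Groth.Agent.Lead.ConstIrred

variable {X : TopCat.{u}} (A : Type u) [AddCommGroup A]

/-- the constant presheaf -/
noncomputable abbrev cP : (Opens X)ᵒᵖ ⥤ AddCommGrpCat.{u} :=
  (Functor.const (Opens X)ᵒᵖ).obj (AddCommGrpCat.of A)

/-- the unit of sheafification on the constant presheaf -/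
noncomputable abbrev η : cP (X := X) A ⟶ (CohTop.const X A).obj :=
  toSheafify (Opens.grothendieckTopology X) (cP A)

instance : Presheaf.IsLocallySurjective (Opens.grothendieckTopology X) (η (X := X) A) :=
  inferInstanceAs (Presheaf.IsLocallySurjective _
    (toSheafify (Opens.grothendieckTopology X) (cP (X := X) A)))

instance : Presheaf.IsLocallyInjective (Opens.grothendieckTopology X) (η (X := X) A) :=
  inferInstanceAs (Presheaf.IsLocallyInjective _
    (toSheafify (Opens.grothendieckTopology X) (cP (X := X) A)))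

/-- the value of `η` on a constant -/
noncomputable def ηv (U : Opens X) (a : A) : ((CohTop.const X A).obj.obj (op U) : Type u) :=
  (η (X := X) A).app (op U) a

theorem ηv_res {U V : Opens X} (h : U ≤ V) (a : A) :
    (CohTop.const X A).obj.map (homOfLE h).op (ηv A V a) = ηv A U a := by
  have hn := ConcreteCategory.congr_hom ((η (X := X) A).naturality (homOfLE h).op) a
  rw [ConcreteCategory.comp_apply, ConcreteCategory.comp_apply] at hn
  exact hn.symm

theorem res_res {U V W : Opens X} (h : U ≤ V) (h' : V ≤ W)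
    (s : (CohTop.const X A).obj.obj (op W)) :
    (CohTop.const X A).obj.map (homOfLE h).op ((CohTop.const X A).obj.map (homOfLE h').op s) =
      (CohTop.const X A).obj.map (homOfLE (h.trans h')).op s := by
  rw [← ConcreteCategory.comp_apply, ← Functor.map_comp]
  rfl

theorem subsingleton_bot : Subsingleton ((CohTop.const X A).obj.obj (op (⊥ : Opens X)) : Type u) :=
  AddCommGrpCat.subsingleton_of_isZero
    (TopCat.Sheaf.isTerminalOfEmpty (CohTop.const X A : TopCat.Sheaf AddCommGrpCat.{u} X)).isZero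

variable [IrreducibleSpace X]

omit A in
theorem inter_ne_bot {U V : Opens X} (hU : U ≠ ⊥) (hV : V ≠ ⊥) : U ⊓ V ≠ ⊥ := by
  obtain ⟨x, hx⟩ := (Opens.ne_bot_iff_nonempty U).mp hU
  obtain ⟨y, hy⟩ := (Opens.ne_bot_iff_nonempty V).mp hV
  obtain ⟨z, hz⟩ := nonempty_preirreducible_inter U.isOpen V.isOpen ⟨x, hx⟩ ⟨y, hy⟩
  exact (Opens.ne_bot_iff_nonempty _).mpr ⟨z, hz⟩

omit [IrreducibleSpace X] in
/-- `η` is injective over nonempty opens -/
theorem ηv_injective {U : Opens X} (hU : U ≠ ⊥) (a b : A) (h : ηv A U a = ηv A U b) : a = b := by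
  have hsv := Presheaf.equalizerSieve_mem (Opens.grothendieckTopology X) (η (X := X) A)
    (X := op U) (a : (cP (X := X) A).obj (op U)) b h
  obtain ⟨x, hx⟩ := (Opens.ne_bot_iff_nonempty U).mp hU
  obtain ⟨V, f, hf, -⟩ := hsv x hx
  exact hf

/-- over a nonempty open every section of the constant sheaf is a constant -/
theorem exists_ηv_eq {U : Opens X} (hU : U ≠ ⊥) (s : (CohTop.const X A).obj.obj (op U)) :
    ∃ a, ηv A U a = s := by
  have hsv := Presheaf.imageSieve_mem (Opens.grothendieckTopology X) (η (X := X) A) s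
  obtain ⟨x₀, hx₀⟩ := (Opens.ne_bot_iff_nonempty U).mp hU
  obtain ⟨V₀, f₀, ⟨a₀, ha₀⟩, hxV₀⟩ := hsv x₀ hx₀
  have hV₀ : V₀ ≠ ⊥ := (Opens.ne_bot_iff_nonempty V₀).mpr ⟨x₀, hxV₀⟩
  have ha₀' : ηv A V₀ a₀ = (CohTop.const X A).obj.map (homOfLE (leOfHom f₀)).op s := ha₀
  refine ⟨a₀, ?_⟩
  let ι : Type u := {V : Opens X // V ≠ ⊥ ∧ ∃ (h : V ≤ U) (a : A),
    ηv A V a = (CohTop.const X A).obj.map (homOfLE h).op s}
  have hcov : U ≤ ⨆ i : ι, i.1 := by
    intro x hx
    obtain ⟨V, f, ⟨a, ha⟩, hxV⟩ := hsv x hx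
    exact Opens.mem_iSup.mpr
      ⟨⟨V, (Opens.ne_bot_iff_nonempty V).mpr ⟨x, hxV⟩, leOfHom f, a, ha⟩, hxV⟩
  refine TopCat.Sheaf.eq_of_locally_eq' (CohTop.const X A : TopCat.Sheaf AddCommGrpCat.{u} X)
    (fun i : ι => i.1) U (fun i => homOfLE i.2.2.1) hcov _ _ (fun i => ?_)
  obtain ⟨V, hV, hVU, a, ha⟩ := i
  change (CohTop.const X A).obj.map (homOfLE hVU).op (ηv A U a₀) =
    (CohTop.const X A).obj.map (homOfLE hVU).op s
  rw [ηv_res, ← ha]
  congr 1
  apply ηv_injective A (inter_ne_bot hV₀ hV)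
  have h1 := congrArg ((CohTop.const X A).obj.map (homOfLE (inf_le_left : V₀ ⊓ V ≤ V₀)).op) ha₀'
  have h2 := congrArg ((CohTop.const X A).obj.map (homOfLE (inf_le_right : V₀ ⊓ V ≤ V)).op) ha
  rw [ηv_res, res_res] at h1 h2
  rw [h1, h2]

/-- the constant sheaf on an irreducible space is flasque -/
theorem isFlasque_const : TopCat.Sheaf.IsFlasque (CohTop.const X A) where
  epi {U V} i := by
    rw [AddCommGrpCat.epi_iff_surjective]
    intro s
    by_cases hV : V.unop = ⊥
    · have hsub : Subsingleton ((CohTop.const X A).obj.obj V : Type u) := by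
        have h := subsingleton_bot (X := X) A
        have hVe : V = op ⊥ := by rw [← hV]
        rw [hVe]
        exact h
      exact ⟨0, Subsingleton.elim _ _⟩
    · obtain ⟨a, ha⟩ := exists_ηv_eq A hV s
      refine ⟨ηv A U.unop a, ?_⟩
      rw [← ha]
      exact ηv_res A (leOfHom i.unop) a

end Groth.Agent.Lead.ConstIrred
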