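import Mathlib
import Groth.Agent.Lead.Coh.CechH1

/-!
Lead library (Čech project), part 6: Cartan's criterion (basis version): Čech-acyclicity for a
cofinal class of covers of the members of a class `B` of opens, stable under finite
intersections, implies vanishing of higher cohomology on members of `B`.
-/

set_option autoImplicit false
open CategoryTheory Opposite Limits TopologicalSpace Abelian
universe u
namespace Groth.Agent.Lead.Cech

open Groth.Agent.Lead.Coh (freeSheaf)

variable {X : TopCat.{u}}

section

variable {S : ShortComplex (Sheaf (Opens.grothendieckTopology X) AddCommGrpCat.{u})}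
  (hS : S.ShortExact) {ι : Type u} (U : ι → Opens X)

include hS in
theorem cech_shortExact' (hsurj : ∀ (n : ℕ) (σ : Fin (n + 1) → ι),
    Function.Surjective (S.g.hom.app (op (cechOpen U σ)))) : (cechSC U S).ShortExact := by
  apply HomologicalComplex.shortExact_of_degreewise_shortExact
  intro n
  have hmono : Mono (((cechSC U S).map (HomologicalComplex.eval _ _ n)).f) := by
    rw [AddCommGrpCat.mono_iff_injective]
    exact map_f_injective U S.f.hom n (fun σ => app_injective hS (cechOpen U σ))
  have hepi : Epi (((cechSC U S).map (HomologicalComplex.eval _ _ n)).g) := by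
    rw [AddCommGrpCat.epi_iff_surjective]
    exact map_f_surjective U S.g.hom n (hsurj n)
  have hexact : ((cechSC U S).map (HomologicalComplex.eval _ _ n)).Exact := by
    rw [ShortComplex.ab_exact_iff]
    exact map_f_exact U S.f.hom S.g.hom n (fun σ => app_exact hS (cechOpen U σ))
  exact { exact := hexact, mono_f := hmono, epi_g := hepi }

end

/-- the hypotheses of the Cartan criterion on a class of opens `B` and a class of families `Cov` -/
structure CartanData (B : Set (Opens X)) (Cov : ∀ (ι : Type u), (ι → Opens X) → Prop) : Prop where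
  mem : ∀ (ι : Type u) (V : ι → Opens X), Cov ι V →
    ∀ (p : ℕ) (a : Fin (p + 1) → ι), cechOpen V a ∈ B
  refine : ∀ U ∈ B, ∀ (κ : Type u) (W : κ → Opens X), iSup W = U →
    ∃ (ι : Type u) (V : ι → Opens X), Cov ι V ∧ iSup V = U ∧ ∀ i, ∃ k, V i ≤ W k

/-- Čech-acyclicity for all families in `Cov` -/
def CovAcyclic (Cov : ∀ (ι : Type u), (ι → Opens X) → Prop)
    (F : Sheaf (Opens.grothendieckTopology X) AddCommGrpCat.{u}) : Prop :=
  ∀ (ι : Type u) (V : ι → Opens X), Cov ι V → ∀ p : ℕ, (K V F.obj).ExactAt (p + 1)

variable {B : Set (Opens X)} {Cov : ∀ (ι : Type u), (ι → Opens X) → Prop}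

theorem CartanData.app_surjective (hBC : CartanData B Cov)
    {S : ShortComplex (Sheaf (Opens.grothendieckTopology X) AddCommGrpCat.{u})}
    (hS : S.ShortExact) (hF : CovAcyclic Cov S.X₁) {U : Opens X} (hU : U ∈ B) :
    Function.Surjective (S.g.hom.app (op U)) := by
  intro s
  obtain ⟨κ, W, hW, hlift, hcov⟩ := exists_family_lifts hS U s
  choose t ht using hlift
  obtain ⟨ι, V, hV, hVU, href⟩ := hBC.refine U hU κ W hcov
  choose k hk using href
  subst hVU
  refine exists_lift_of_exactAt_one hS V (hF ι V hV 0) s
    (fun i => S.X₂.obj.map (homOfLE (hk i)).op (t (k i))) (fun i => ?_)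
  have hn := ConcreteCategory.congr_hom (S.g.hom.naturality (homOfLE (hk i)).op) (t (k i))
  rw [ConcreteCategory.comp_apply, ConcreteCategory.comp_apply] at hn
  rw [hn, ht, map_map_apply]

theorem CartanData.covAcyclic_quot (hBC : CartanData B Cov)
    {S : ShortComplex (Sheaf (Opens.grothendieckTopology X) AddCommGrpCat.{u})}
    (hS : S.ShortExact) [Injective S.X₂] (hF : CovAcyclic Cov S.X₁) : CovAcyclic Cov S.X₃ := by
  intro ι V hV p
  have hC := cech_shortExact' hS V
    (fun n σ => hBC.app_surjective hS hF (hBC.mem ι V hV n σ))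
  have hex := hC.homology_exact₃ (p + 1) (p + 2) rfl
  have h1 : IsZero ((cechSC V S).X₂.homology (p + 1)) := isZero_homology_of_injective V S.X₂ p
  have h3 : IsZero ((cechSC V S).X₁.homology (p + 2)) :=
    (hF ι V hV (p + 1)).isZero_homology
  rw [HomologicalComplex.exactAt_iff_isZero_homology]
  exact hex.isZero_X₂ (h1.eq_of_src _ _) (h3.eq_of_tgt _ _)

/-- **Cartan's criterion** -/
theorem CartanData.ext_eq_zero (hBC : CartanData B Cov) (p : ℕ) :
    ∀ (F : Sheaf (Opens.grothendieckTopology X) AddCommGrpCat.{u}), CovAcyclic Cov F →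
      ∀ {U : Opens X}, U ∈ B →
        ∀ x : Ext (freeSheaf (Opens.grothendieckTopology X) U) F (p + 1), x = 0 := by
  induction p with
  | zero =>
    intro F hF U hU x
    have hS := ses_shortExact F
    obtain ⟨y, rfl⟩ := extδ_surjective hS (freeSheaf (Opens.grothendieckTopology X) U) 0 x
    obtain ⟨s, rfl⟩ := (secEquiv U (ses F).X₃).surjective y
    obtain ⟨t, rfl⟩ := hBC.app_surjective hS hF hU s
    exact (extδ_eq_zero_iff hS _ _).mpr ⟨secEquiv U (ses F).X₂ t, secEquiv_naturality _ _ _⟩
  | succ p ih =>
    intro F hF U hU x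
    have hS := ses_shortExact F
    obtain ⟨y, rfl⟩ := extδ_surjective hS (freeSheaf (Opens.grothendieckTopology X) U) (p + 1) x
    rw [ih (ses F).X₃ (hBC.covAcyclic_quot hS hF) hU y, map_zero]
    rfl

end Groth.Agent.Lead.Cech
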