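import Mathlib
import Groth.Prelude.Def_CechOX
import Groth.Agent.Lead.Coh.CechExplicit
import Groth.Agent.Lead.Coh.SectCmp
import Groth.Agent.H30.LocalExact

/-!
Lead library: the Čech complex of sheaves `CechOX.cechSh 𝒰 F` is a resolution of `F`.
-/

set_option autoImplicit false
universe u
open CategoryTheory Limits AlgebraicGeometry Opposite TopologicalSpace

namespace Groth.Agent.Lead.CechSh

open Groth.Agent.Lead.Cech

section General

variable {X : Type u} [TopologicalSpace X] {ι : Type u} (U : ι → Opens X)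
  {A : Type (u + 1)} [Category.{u} A] [Preadditive A] [HasProducts.{u} A]
  (P : (Opens X)ᵒᵖ ⥤ A)

/-- the cosimplicial object -/
noncomputable abbrev YA : CosimplicialObject A :=
  (FormalCoproduct.cosimplicialObjectFunctor (FormalCoproduct.mk ι U).cech).obj P

/-- Mathlib's Čech complex, with values in `A` -/
noncomputable abbrev KA : CochainComplex A ℕ := (cechComplexFunctor U).obj P

/-- component projection -/
noncomputable def projA (n : ℕ) (i : Fin (n + 1) → ι) : (KA U P).X n ⟶ P.obj (op (cechOpen U i)) :=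
  Pi.π (fun i : Fin (n + 1) → ι => P.obj (op (cechOpen U i))) i

/-- component projection, cosimplicial form -/
noncomputable def projYA (n : ℕ) (i : Fin (n + 1) → ι) :
    (YA U P).obj (SimplexCategory.mk n) ⟶ P.obj (op (cechOpen U i)) :=
  Pi.π (fun i : Fin (n + 1) → ι => P.obj (op (cechOpen U i))) i

theorem δ_projYA (n : ℕ) (j : Fin (n + 2)) (i : Fin (n + 2) → ι) :
    (YA U P).δ j ≫ projYA U P (n + 1) i =
      projYA U P n (i ∘ j.succAbove) ≫ P.map (homOfLE (cechOpen_le_face U i j)).op := by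
  change Pi.lift _ ≫ Pi.π _ i = _
  refine (Pi.lift_π _ i).trans ?_
  rfl

theorem d_eqA (n : ℕ) : (KA U P).d n (n + 1) =
    ∑ j : Fin (n + 2), (-1 : ℤ) ^ (j : ℕ) • (YA U P).δ j :=
  CochainComplex.of_d (fun n => (YA U P).obj (SimplexCategory.mk n))
    (AlgebraicTopology.AlternatingCofaceMapComplex.objD (YA U P)) n

theorem d_projA (n : ℕ) (i : Fin (n + 2) → ι) :
    (KA U P).d n (n + 1) ≫ projA U P (n + 1) i =
      ∑ j : Fin (n + 2), (-1 : ℤ) ^ (j : ℕ) •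
        (projA U P n (i ∘ j.succAbove) ≫ P.map (homOfLE (cechOpen_le_face U i j)).op) := by
  rw [d_eqA]
  change (∑ j : Fin (n + 2), (-1 : ℤ) ^ (j : ℕ) • (YA U P).δ j) ≫ projYA U P (n + 1) i = _
  rw [Preadditive.sum_comp]
  refine Finset.sum_congr rfl (fun j _ => ?_)
  rw [Preadditive.zsmul_comp, δ_projYA]
  rfl

end General

section Sections

variable {X : Scheme.{u}}

/-- sections over `V`, as a functor to abelian groups -/
noncomputable abbrev secF (V : X.Opens) : X.Modules ⥤ AddCommGrpCat.{u} :=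
  Scheme.Modules.toPresheaf X ⋙ (evaluation _ _).obj (op V)

variable {J : Type u} (M : J → X.Modules) (V : X.Opens)

instance : PreservesLimitsOfShape (Discrete J) (secF (X := X) V) := by
  have h1 : PreservesLimitsOfShape (Discrete J) (Scheme.Modules.toPresheaf X) := inferInstance
  have h2 : PreservesLimitsOfShape (Discrete J)
      ((evaluation (Opens X)ᵒᵖ AddCommGrpCat.{u}).obj (op V)) := inferInstance
  exact comp_preservesLimitsOfShape _ _

/-- sections of a product are determined by their components -/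
theorem sec_ext {s s' : Γ(∏ᶜ M, V)}
    (h : ∀ j, (Pi.π M j).app V s = (Pi.π M j).app V s') : s = s' := by
  have hl : IsLimit ((secF V).mapCone (limit.cone (Discrete.functor M))) :=
    isLimitOfPreserves (secF V) (limit.isLimit _)
  refine Concrete.isLimit_ext _ hl s s' ?_
  rintro ⟨j⟩
  exact h j

/-- every family of sections is the family of components of a section of the product -/
theorem sec_mk (c : ∀ j, Γ(M j, V)) : ∃ s : Γ(∏ᶜ M, V), ∀ j, (Pi.π M j).app V s = c j := by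
  have hl : IsLimit ((secF V).mapCone (limit.cone (Discrete.functor M))) :=
    isLimitOfPreserves (secF V) (limit.isLimit _)
  have hl' := isLimitOfPreserves (forget AddCommGrpCat.{u}) hl
  let e := Types.isLimitEquivSections hl'
  let sec : ((Discrete.functor M ⋙ secF V) ⋙ forget AddCommGrpCat.{u}).sections :=
    ⟨fun j => c j.as, by
      rintro ⟨j⟩ ⟨j'⟩ ⟨⟨h⟩⟩
      cases h
      rfl⟩
  refine ⟨e.symm sec, fun j => ?_⟩
  exact Types.isLimitEquivSections_symm_apply hl' sec ⟨j⟩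

/-- `Hom.app` as an additive map -/
noncomputable def appAddHom (M N : X.Modules) (V : X.Opens) : (M ⟶ N) →+ (Γ(M, V) ⟶ Γ(N, V)) where
  toFun φ := φ.app V
  map_zero' := rfl
  map_add' _ _ := rfl

theorem app_sum {M N : X.Modules} (V : X.Opens) {K : Type*} (s : Finset K) (f : K → (M ⟶ N)) :
    (∑ k ∈ s, f k).app V = ∑ k ∈ s, (f k).app V :=
  map_sum (appAddHom M N V) f s

theorem app_zsmul {M N : X.Modules} (V : X.Opens) (m : ℤ) (f : M ⟶ N) :
    (m • f).app V = m • f.app V :=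
  map_zsmul (appAddHom M N V) m f

end Sections

section Cech

variable {X : Scheme.{u}} {ι : Type u} (𝒰 : ι → X.Opens) (F : X.Modules)

/-- the presheaf of modules `W ↦ (j_W)_*(F|_W)` -/
noncomputable abbrev PF : (X.Opens)ᵒᵖ ⥤ X.Modules := CechOX.pushRestrFam.flip.obj F

theorem cechSh_obj : (CechOX.cechSh 𝒰).obj F = KA 𝒰 (PF F) := rfl

/-- the open `V ∩ W`, in the form in which it appears in sections of `(j_W)_*(F|_W)` -/
noncomputable abbrev cap (W V : X.Opens) : X.Opens := W.ι ''ᵁ (W.ι ⁻¹ᵁ V)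

theorem cap_eq (W V : X.Opens) : cap W V = W ⊓ V := by
  rw [cap, Scheme.Hom.image_preimage_eq_opensRange_inf, Scheme.Opens.opensRange_ι]

/-- component of a Čech cochain of sheaves, on sections over `V` -/
noncomputable def comp (V : X.Opens) (n : ℕ) (σ : Fin (n + 1) → ι)
    (s : Γ((KA 𝒰 (PF F)).X n, V)) : Γ(F, cap (cechOpen 𝒰 σ) V) :=
  (projA 𝒰 (PF F) n σ).app V s

theorem comp_ext (V : X.Opens) (n : ℕ) {s s' : Γ((KA 𝒰 (PF F)).X n, V)}
    (h : ∀ σ, comp 𝒰 F V n σ s = comp 𝒰 F V n σ s') : s = s' :=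
  sec_ext (fun σ : Fin (n + 1) → ι => (PF F).obj (op (cechOpen 𝒰 σ))) V h

theorem comp_mk (V : X.Opens) (n : ℕ) (c : ∀ σ : Fin (n + 1) → ι, Γ(F, cap (cechOpen 𝒰 σ) V)) :
    ∃ s : Γ((KA 𝒰 (PF F)).X n, V), ∀ σ, comp 𝒰 F V n σ s = c σ :=
  sec_mk (fun σ : Fin (n + 1) → ι => (PF F).obj (op (cechOpen 𝒰 σ))) V c

/-- the differential on sections, in components -/
theorem comp_d (V : X.Opens) (n : ℕ) (σ : Fin (n + 2) → ι) (s : Γ((KA 𝒰 (PF F)).X n, V)) :
    comp 𝒰 F V (n + 1) σ (((KA 𝒰 (PF F)).d n (n + 1)).app V s) =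
      ∑ j : Fin (n + 2), (-1 : ℤ) ^ (j : ℕ) •
        F.presheaf.map (homOfLE (CechOX.image_preimage_mono (cechOpen_le_face 𝒰 σ j) V)).op
          (comp 𝒰 F V n (σ ∘ j.succAbove) s) := by
  have h := congrArg (fun φ => Scheme.Modules.Hom.app φ V) (d_projA 𝒰 (PF F) n σ)
  simp only [Scheme.Modules.Hom.comp_app, app_sum, app_zsmul] at h
  have h2 := ConcreteCategory.congr_hom h s
  rw [ConcreteCategory.comp_apply] at h2
  unfold comp
  rw [h2, sum_hom_apply]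
  refine Finset.sum_congr rfl (fun j _ => ?_)
  rw [zsmul_hom_apply, ConcreteCategory.comp_apply]
  rfl

/-- a component restricted to a smaller open -/
noncomputable def compRes (V : X.Opens) (n : ℕ) (σ : Fin (n + 1) → ι) (O : X.Opens)
    (hO : O ≤ cap (cechOpen 𝒰 σ) V) (s : Γ((KA 𝒰 (PF F)).X n, V)) : Γ(F, O) :=
  F.presheaf.map (homOfLE hO).op (comp 𝒰 F V n σ s)

theorem compRes_congr (V : X.Opens) (n : ℕ) {σ σ' : Fin (n + 1) → ι} (h : σ = σ') (O : X.Opens)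
    (hO : O ≤ cap (cechOpen 𝒰 σ) V) (hO' : O ≤ cap (cechOpen 𝒰 σ') V)
    (s : Γ((KA 𝒰 (PF F)).X n, V)) :
    compRes 𝒰 F V n σ O hO s = compRes 𝒰 F V n σ' O hO' s := by
  subst h
  rfl

theorem compRes_self (V : X.Opens) (n : ℕ) (σ : Fin (n + 1) → ι)
    (s : Γ((KA 𝒰 (PF F)).X n, V)) :
    compRes 𝒰 F V n σ (cap (cechOpen 𝒰 σ) V) le_rfl s = comp 𝒰 F V n σ s := by
  unfold compRes
  have h : (homOfLE (le_refl (cap (cechOpen 𝒰 σ) V))).op = 𝟙 _ := rfl
  rw [h, CategoryTheory.Functor.map_id]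
  rfl

theorem map_compRes (V : X.Opens) (n : ℕ) (σ : Fin (n + 1) → ι) (O O' : X.Opens)
    (hO : O ≤ cap (cechOpen 𝒰 σ) V) (hO' : O' ≤ O) (s : Γ((KA 𝒰 (PF F)).X n, V)) :
    F.presheaf.map (homOfLE hO').op (compRes 𝒰 F V n σ O hO s) =
      compRes 𝒰 F V n σ O' (hO'.trans hO) s := by
  unfold compRes
  rw [← ConcreteCategory.comp_apply, ← Functor.map_comp]
  rfl

theorem comp_zero (V : X.Opens) (n : ℕ) (σ : Fin (n + 1) → ι) :
    comp 𝒰 F V n σ 0 = 0 := by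
  unfold comp
  exact map_zero _

theorem compRes_zero (V : X.Opens) (n : ℕ) (σ : Fin (n + 1) → ι) (O : X.Opens)
    (hO : O ≤ cap (cechOpen 𝒰 σ) V) : compRes 𝒰 F V n σ O hO 0 = 0 := by
  unfold compRes
  rw [comp_zero]
  exact map_zero _

/-- the differential, restricted to a smaller open -/
theorem compRes_d (V : X.Opens) (n : ℕ) (σ : Fin (n + 2) → ι) (O : X.Opens)
    (hO : O ≤ cap (cechOpen 𝒰 σ) V) (s : Γ((KA 𝒰 (PF F)).X n, V)) :
    compRes 𝒰 F V (n + 1) σ O hO (((KA 𝒰 (PF F)).d n (n + 1)).app V s) =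
      ∑ j : Fin (n + 2), (-1 : ℤ) ^ (j : ℕ) •
        compRes 𝒰 F V n (σ ∘ j.succAbove) O
          (hO.trans (CechOX.image_preimage_mono (cechOpen_le_face 𝒰 σ j) V)) s := by
  unfold compRes
  rw [comp_d, map_sum]
  refine Finset.sum_congr rfl (fun j _ => ?_)
  rw [map_zsmul, ← ConcreteCategory.comp_apply, ← Functor.map_comp]
  rfl

/-! ### the contraction on an open contained in a member of the family -/

/-- prepend an index -/
def cone {n : ℕ} (i₀ : ι) (τ : Fin (n + 1) → ι) : Fin (n + 2) → ι := Fin.cons i₀ τ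

theorem cone_face_zero {n : ℕ} (i₀ : ι) (σ : Fin (n + 1) → ι) :
    cone i₀ σ ∘ (0 : Fin (n + 2)).succAbove = σ := by
  funext k
  simp [cone, Fin.succAbove_zero]

theorem cone_face_succ {n : ℕ} (i₀ : ι) (σ : Fin (n + 2) → ι) (j : Fin (n + 2)) :
    cone i₀ σ ∘ j.succ.succAbove = cone i₀ (σ ∘ j.succAbove) := by
  funext k
  refine Fin.cases ?_ (fun k' => ?_) k
  · simp [cone]
  · simp [cone, Fin.succ_succAbove_succ]

theorem cap_le_cap_cone (V : X.Opens) (i₀ : ι) (hV : V ≤ 𝒰 i₀) {n : ℕ} (τ : Fin (n + 1) → ι) :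
    cap (cechOpen 𝒰 τ) V ≤ cap (cechOpen 𝒰 (cone i₀ τ)) V := by
  rw [cap_eq, cap_eq]
  refine le_inf (le_cechOpen 𝒰 _ _ (fun a => ?_)) inf_le_right
  refine Fin.cases ?_ (fun a' => ?_) a
  · exact inf_le_right.trans hV
  · exact inf_le_left.trans (cechOpen_le 𝒰 τ a')

/-- local exactness in positive degrees: on an open contained in a member of the family, a cocycle is
a coboundary -/
theorem exists_d_eq (V : X.Opens) (i₀ : ι) (hV : V ≤ 𝒰 i₀) (n : ℕ)
    (s : Γ((KA 𝒰 (PF F)).X (n + 1), V))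
    (hs : ((KA 𝒰 (PF F)).d (n + 1) (n + 2)).app V s = 0) :
    ∃ t : Γ((KA 𝒰 (PF F)).X n, V), ((KA 𝒰 (PF F)).d n (n + 1)).app V t = s := by
  obtain ⟨t, ht⟩ := comp_mk 𝒰 F V n (fun τ =>
    compRes 𝒰 F V (n + 1) (cone i₀ τ) _ (cap_le_cap_cone 𝒰 V i₀ hV τ) s)
  refine ⟨t, comp_ext 𝒰 F V (n + 1) (fun σ => ?_)⟩
  -- the cocycle condition at the index `cone i₀ σ`, restricted to `O`
  have h0 := compRes_d 𝒰 F V (n + 1) (cone i₀ σ) (cap (cechOpen 𝒰 σ) V)
    (cap_le_cap_cone 𝒰 V i₀ hV σ) s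
  rw [hs] at h0
  rw [compRes_zero, Fin.sum_univ_succ] at h0
  -- the term `j = 0`
  have h1 : compRes 𝒰 F V (n + 1) (cone i₀ σ ∘ (0 : Fin (n + 3)).succAbove) (cap (cechOpen 𝒰 σ) V)
      ((cap_le_cap_cone 𝒰 V i₀ hV σ).trans
        (CechOX.image_preimage_mono (cechOpen_le_face 𝒰 (cone i₀ σ) 0) V)) s =
      comp 𝒰 F V (n + 1) σ s := by
    rw [compRes_congr 𝒰 F V (n + 1) (cone_face_zero i₀ σ) _ _ le_rfl s, compRes_self]
  -- the differential of `t`
  have h2 := compRes_d 𝒰 F V n σ (cap (cechOpen 𝒰 σ) V) le_rfl t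
  rw [compRes_self] at h2
  rw [h2]
  have h3 : ∀ j : Fin (n + 2),
      compRes 𝒰 F V n (σ ∘ j.succAbove) (cap (cechOpen 𝒰 σ) V)
        (le_rfl.trans (CechOX.image_preimage_mono (cechOpen_le_face 𝒰 σ j) V)) t =
      compRes 𝒰 F V (n + 1) (cone i₀ σ ∘ j.succ.succAbove) (cap (cechOpen 𝒰 σ) V)
        ((cap_le_cap_cone 𝒰 V i₀ hV σ).trans
          (CechOX.image_preimage_mono (cechOpen_le_face 𝒰 (cone i₀ σ) j.succ) V)) s := by
    intro j
    rw [compRes_congr 𝒰 F V (n + 1) (cone_face_succ i₀ σ j) _ _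
      ((CechOX.image_preimage_mono (cechOpen_le_face 𝒰 σ j) V).trans
        (cap_le_cap_cone 𝒰 V i₀ hV (σ ∘ j.succAbove))) s]
    unfold compRes
    rw [ht (σ ∘ j.succAbove)]
    unfold compRes
    rw [← ConcreteCategory.comp_apply, ← Functor.map_comp]
    rfl
  simp only [h3]
  rw [h1] at h0
  have h4 : ∀ j : Fin (n + 2), ((-1 : ℤ) ^ ((j.succ : Fin (n + 3)) : ℕ)) =
      - ((-1 : ℤ) ^ (j : ℕ)) := by
    intro j
    rw [Fin.val_succ, pow_succ]
    ring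
  simp only [h4, neg_smul, Finset.sum_neg_distrib] at h0
  simp only [Fin.val_zero, pow_zero, one_smul] at h0
  exact (eq_of_sub_eq_zero (by rw [sub_eq_add_neg]; exact h0.symm)).symm

/-! ### exactness in positive degrees -/

open Groth.Agent.Lead.SectCmp in
/-- the Čech complex of sheaves of a covering is exact in positive degrees -/
theorem exact_sc (h𝒰 : ⨆ i, 𝒰 i = ⊤) (p : ℕ) :
    ((KA 𝒰 (PF F)).sc' p (p + 1) (p + 2)).Exact := by
  have h3 : PreservesFiniteLimits (T X) := preservesFiniteLimits_T _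
  have h4 : PreservesFiniteColimits (T X) := preservesFiniteColimits_T _
  have h5 : (T X).Faithful :=
    (inferInstance : (SheafOfModules.toSheaf.{u} X.ringCatSheaf).Faithful)
  have h6 : (T X).Additive :=
    (inferInstance : (SheafOfModules.toSheaf.{u} X.ringCatSheaf).Additive)
  rw [← ShortComplex.exact_map_iff_of_faithful _ (T X)]
  apply Groth.Agent.H30.LocalExact.exact_of_locally
  intro V s hs y hy
  have hy' : y ∈ ((⨆ i, 𝒰 i : X.Opens)) := by rw [h𝒰]; trivial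
  obtain ⟨i₀, hi₀⟩ := Opens.mem_iSup.1 hy'
  refine ⟨V ⊓ 𝒰 i₀, inf_le_left, ⟨hy, hi₀⟩, ?_⟩
  let s₀ : Γ((KA 𝒰 (PF F)).X (p + 1), V) := s
  have hs₀ : ((KA 𝒰 (PF F)).d (p + 1) (p + 2)).app V s₀ = 0 := hs
  have hs' : ((KA 𝒰 (PF F)).d (p + 1) (p + 2)).app (V ⊓ 𝒰 i₀)
      (((KA 𝒰 (PF F)).X (p + 1)).presheaf.map (homOfLE (inf_le_left : V ⊓ 𝒰 i₀ ≤ V)).op s₀) = 0 := by
    rw [app_res, hs₀, map_zero]
  obtain ⟨t, ht⟩ := exists_d_eq 𝒰 F (V ⊓ 𝒰 i₀) i₀ inf_le_right p _ hs'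
  exact ⟨t, ht⟩

theorem isZero_homology (h𝒰 : ⨆ i, 𝒰 i = ⊤) (p : ℕ) :
    IsZero ((KA 𝒰 (PF F)).homology (p + 1)) := by
  rw [← HomologicalComplex.exactAt_iff_isZero_homology,
    HomologicalComplex.exactAt_iff' _ p (p + 1) (p + 2) (by simp) (by simp)]
  exact exact_sc 𝒰 F h𝒰 p

end Cech

section Aug

variable {X : Scheme.{u}} {ι : Type u} (𝒰 : ι → X.Opens) (F : X.Modules)

/-- the augmentation, as a map into `KA` -/
noncomputable def aug : F ⟶ (KA 𝒰 (PF F)).X 0 := CechOX.cechShAug 𝒰 F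

theorem aug_projA (σ : Fin 1 → ι) :
    aug 𝒰 F ≫ projA 𝒰 (PF F) 0 σ =
      (Scheme.Modules.restrictAdjunction (Scheme.Opens.ι (cechOpen 𝒰 σ))).unit.app F := by
  unfold aug CechOX.cechShAug projA
  exact Pi.lift_π _ σ

theorem cap_le (W V : X.Opens) : cap W V ≤ V := W.ι.image_preimage_le V

theorem comp_aug (V : X.Opens) (σ : Fin 1 → ι) (x : Γ(F, V)) :
    comp 𝒰 F V 0 σ ((aug 𝒰 F).app V x) =
      F.presheaf.map (homOfLE (cap_le (cechOpen 𝒰 σ) V)).op x := by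
  have h := congrArg (fun φ => Scheme.Modules.Hom.app φ V) (aug_projA 𝒰 F σ)
  simp only [Scheme.Modules.Hom.comp_app] at h
  have h2 := ConcreteCategory.congr_hom h x
  rw [ConcreteCategory.comp_apply] at h2
  exact h2

theorem compRes_aug (V : X.Opens) (σ : Fin 1 → ι) (O : X.Opens)
    (hO : O ≤ cap (cechOpen 𝒰 σ) V) (x : Γ(F, V)) :
    compRes 𝒰 F V 0 σ O hO ((aug 𝒰 F).app V x) =
      F.presheaf.map (homOfLE (hO.trans (cap_le (cechOpen 𝒰 σ) V))).op x := by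
  unfold compRes
  rw [comp_aug, ← ConcreteCategory.comp_apply, ← Functor.map_comp]
  rfl

theorem aug_d : aug 𝒰 F ≫ (KA 𝒰 (PF F)).d 0 1 = 0 := by
  apply Scheme.Modules.hom_ext
  intro V
  ext x
  apply comp_ext 𝒰 F V 1
  intro σ
  rw [Scheme.Modules.Hom.comp_app, ConcreteCategory.comp_apply]
  have h := compRes_d 𝒰 F V 0 σ (cap (cechOpen 𝒰 σ) V) le_rfl ((aug 𝒰 F).app V x)
  rw [compRes_self] at h
  rw [h, Fin.sum_univ_two, compRes_aug, compRes_aug]
  simp only [Fin.val_zero, pow_zero, one_smul, Fin.val_one, pow_one, neg_smul]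
  rw [add_neg_cancel]
  exact (comp_zero 𝒰 F V 1 σ).symm

theorem mono_of_injective_app {M N : X.Modules} (φ : M ⟶ N)
    (h : ∀ O : X.Opens, Function.Injective (φ.app O)) : Mono φ := by
  have : Mono ((Scheme.Modules.toPresheaf X).map φ) := by
    have : ∀ c, Mono (((Scheme.Modules.toPresheaf X).map φ).app c) := fun c =>
      (AddCommGrpCat.mono_iff_injective _).2 (h c.unop)
    exact NatTrans.mono_of_mono_app _
  exact Functor.mono_of_mono_map (Scheme.Modules.toPresheaf X) this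

theorem le_cap_single (V : X.Opens) (i : ι) :
    V ⊓ 𝒰 i ≤ cap (cechOpen 𝒰 (fun _ : Fin 1 => i)) V := by
  rw [cap_eq]
  exact le_inf (le_cechOpen 𝒰 _ _ (fun _ => inf_le_right)) inf_le_left

theorem mono_aug (h𝒰 : ⨆ i, 𝒰 i = ⊤) : Mono (aug 𝒰 F) := by
  refine mono_of_injective_app _ (fun V => ?_)
  rw [injective_iff_map_eq_zero]
  intro t ht
  change Γ(F, V) at t
  change (aug 𝒰 F).app V t = 0 at ht
  refine TopCat.Sheaf.eq_of_locally_eq' ⟨_, F.isSheaf⟩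
    (fun i : ι => cap (cechOpen 𝒰 (fun _ : Fin 1 => i)) V) V
    (fun i => homOfLE (cap_le _ V)) ?_ t 0 ?_
  · intro x hx
    have hx' : x ∈ (⨆ i, 𝒰 i : X.Opens) := by rw [h𝒰]; trivial
    obtain ⟨i, hi⟩ := Opens.mem_iSup.1 hx'
    refine Opens.mem_iSup.mpr ⟨i, ?_⟩
    exact le_cap_single 𝒰 V i ⟨hx, hi⟩
  · intro i
    change F.presheaf.map (homOfLE (cap_le _ V)).op t =
      F.presheaf.map (homOfLE (cap_le _ V)).op 0
    rw [map_zero, ← comp_aug, ht, comp_zero]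

theorem cone_face_one (i₀ : ι) (σ : Fin 1 → ι) :
    cone i₀ σ ∘ (1 : Fin 2).succAbove = fun _ : Fin 1 => i₀ := by
  funext k
  have hk : k = 0 := Subsingleton.elim _ _
  subst hk
  rfl

/-- local exactness in degree `0` -/
theorem exists_aug_eq (V : X.Opens) (i₀ : ι) (hV : V ≤ 𝒰 i₀)
    (s : Γ((KA 𝒰 (PF F)).X 0, V)) (hs : ((KA 𝒰 (PF F)).d 0 1).app V s = 0) :
    ∃ t : Γ(F, V), (aug 𝒰 F).app V t = s := by
  have hV' : V ≤ cap (cechOpen 𝒰 (fun _ : Fin 1 => i₀)) V :=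
    le_trans (le_inf le_rfl hV) (le_cap_single 𝒰 V i₀)
  refine ⟨compRes 𝒰 F V 0 (fun _ => i₀) V hV' s, comp_ext 𝒰 F V 0 (fun σ => ?_)⟩
  rw [comp_aug, map_compRes]
  have h0 := compRes_d 𝒰 F V 0 (cone i₀ σ) (cap (cechOpen 𝒰 σ) V)
    (cap_le_cap_cone 𝒰 V i₀ hV σ) s
  rw [hs, compRes_zero, Fin.sum_univ_two] at h0
  have h1 : compRes 𝒰 F V 0 (cone i₀ σ ∘ (0 : Fin 2).succAbove) (cap (cechOpen 𝒰 σ) V)
      ((cap_le_cap_cone 𝒰 V i₀ hV σ).trans
        (CechOX.image_preimage_mono (cechOpen_le_face 𝒰 (cone i₀ σ) 0) V)) s =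
      comp 𝒰 F V 0 σ s := by
    rw [compRes_congr 𝒰 F V 0 (cone_face_zero i₀ σ) _ _ le_rfl s, compRes_self]
  have h2 : compRes 𝒰 F V 0 (cone i₀ σ ∘ (1 : Fin 2).succAbove) (cap (cechOpen 𝒰 σ) V)
      ((cap_le_cap_cone 𝒰 V i₀ hV σ).trans
        (CechOX.image_preimage_mono (cechOpen_le_face 𝒰 (cone i₀ σ) 1) V)) s =
      compRes 𝒰 F V 0 (fun _ : Fin 1 => i₀) (cap (cechOpen 𝒰 σ) V)
        ((cap_le (cechOpen 𝒰 σ) V).trans hV') s :=
    compRes_congr 𝒰 F V 0 (cone_face_one i₀ σ) _ _ _ s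
  rw [h1, h2] at h0
  simp only [Fin.val_zero, pow_zero, one_smul, Fin.val_one, pow_one, neg_smul] at h0
  exact (eq_of_sub_eq_zero (by rw [sub_eq_add_neg]; exact h0.symm)).symm

open Groth.Agent.Lead.SectCmp in
theorem exact_aug (h𝒰 : ⨆ i, 𝒰 i = ⊤) :
    (ShortComplex.mk (aug 𝒰 F) ((KA 𝒰 (PF F)).d 0 1) (aug_d 𝒰 F)).Exact := by
  have h3 : PreservesFiniteLimits (T X) := preservesFiniteLimits_T _
  have h4 : PreservesFiniteColimits (T X) := preservesFiniteColimits_T _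
  have h5 : (T X).Faithful :=
    (inferInstance : (SheafOfModules.toSheaf.{u} X.ringCatSheaf).Faithful)
  have h6 : (T X).Additive :=
    (inferInstance : (SheafOfModules.toSheaf.{u} X.ringCatSheaf).Additive)
  rw [← ShortComplex.exact_map_iff_of_faithful _ (T X)]
  apply Groth.Agent.H30.LocalExact.exact_of_locally
  intro V s hs y hy
  have hy' : y ∈ ((⨆ i, 𝒰 i : X.Opens)) := by rw [h𝒰]; trivial
  obtain ⟨i₀, hi₀⟩ := Opens.mem_iSup.1 hy'
  refine ⟨V ⊓ 𝒰 i₀, inf_le_left, ⟨hy, hi₀⟩, ?_⟩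
  let s₀ : Γ((KA 𝒰 (PF F)).X 0, V) := s
  have hs₀ : ((KA 𝒰 (PF F)).d 0 1).app V s₀ = 0 := hs
  have hs' : ((KA 𝒰 (PF F)).d 0 1).app (V ⊓ 𝒰 i₀)
      (((KA 𝒰 (PF F)).X 0).presheaf.map (homOfLE (inf_le_left : V ⊓ 𝒰 i₀ ≤ V)).op s₀) = 0 := by
    rw [app_res, hs₀, map_zero]
  obtain ⟨t, ht⟩ := exists_aug_eq 𝒰 F (V ⊓ 𝒰 i₀) i₀ inf_le_right _ hs'
  exact ⟨t, ht⟩

/-- the kernel property of the augmentation -/
theorem existsUnique_lift (h𝒰 : ⨆ i, 𝒰 i = ⊤) (G : X.Modules) (g : G ⟶ (KA 𝒰 (PF F)).X 0)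
    (hg : g ≫ (KA 𝒰 (PF F)).d 0 1 = 0) : ∃! g' : G ⟶ F, g' ≫ aug 𝒰 F = g := by
  have hm : Mono (aug 𝒰 F) := mono_aug 𝒰 F h𝒰
  have hex := exact_aug 𝒰 F h𝒰
  have : Mono (ShortComplex.mk (aug 𝒰 F) ((KA 𝒰 (PF F)).d 0 1) (aug_d 𝒰 F)).f := hm
  refine ⟨hex.lift g hg, hex.lift_f g hg, fun g'' hg'' => ?_⟩
  rw [← cancel_mono (aug 𝒰 F), hg'']
  exact (hex.lift_f g hg).symm

end Aug

end Groth.Agent.Lead.CechSh
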