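import Mathlib
import Groth.Prelude.Def_Coh
import Groth.Prelude.Def_Formal
import Groth.Agent.Lead.Coh.FiniteLES
import Groth.Agent.H31.CohExt1
import Groth.Agent.H44.SmulModQuot
import Groth.Agent.H70.Rees.IdealMulSections
import Groth.Agent.H86.GV.Main
import Groth.Agent.S0002
import Groth.Agent.S0010

/-!
Lead library: **vanishing of coherent cohomology above the dimension of the closed fibre**, for a
scheme proper over a Noetherian local ring (EGA III 4.2.2, proved by Nakayama + Grothendieck
vanishing, without the theorem on formal functions).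
-/

set_option autoImplicit false
universe u
open CategoryTheory Limits AlgebraicGeometry Opposite TopologicalSpace IsLocalRing

namespace Groth.Agent.Lead.FibreVanish

variable {A : Type u} [CommRing A] {X : Scheme.{u}} [X.Over (Spec (CommRingCat.of A))]

/-- the point `x` lies in the basic open of the global function attached to `a`, if `a` is not in
the prime ideal which is the image of `x` -/
theorem mem_basicOpen_toGlobal (a : A) (x : X)
    (hx : a ∉ ((X ↘ Spec (CommRingCat.of A)).base x).asIdeal) :
    x ∈ X.basicOpen (Coh.toGlobal (X ↘ Spec (CommRingCat.of A)) a) := by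
  have h1 : (X ↘ Spec (CommRingCat.of A)).base x ∈
      (Spec (CommRingCat.of A)).basicOpen ((Scheme.ΓSpecIso (CommRingCat.of A)).inv a) := by
    rw [AlgebraicGeometry.basicOpen_eq_of_affine]
    exact hx
  have h4 : x ∈ (X ↘ Spec (CommRingCat.of A)) ⁻¹ᵁ
      (Spec (CommRingCat.of A)).basicOpen ((Scheme.ΓSpecIso (CommRingCat.of A)).inv a) := h1
  rw [Scheme.preimage_basicOpen_top] at h4
  exact h4

/-- a module killed by `a` has zero stalk at every point where `a` is invertible -/
theorem subsingleton_stalk_of_smulMod_eq_zero (G : X.Modules) (a : A)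
    (ha : Formal.smulMod A G a = 0) (x : X)
    (hx : a ∉ ((X ↘ Spec (CommRingCat.of A)).base x).asIdeal) :
    Subsingleton (G.presheaf.stalk x) := by
  have hxr := mem_basicOpen_toGlobal a x hx
  set r : Γ(X, ⊤) := Coh.toGlobal (X ↘ Spec (CommRingCat.of A)) a with hr
  suffices H : ∀ t : G.presheaf.stalk x, t = 0 from ⟨fun s t => (H s).trans (H t).symm⟩
  intro t
  obtain ⟨U, hxU, s, rfl⟩ := TopCat.Presheaf.exists_germ_eq G.presheaf t
  have hV : U ⊓ X.basicOpen r ≤ X.basicOpen r := inf_le_right
  have hxV : x ∈ U ⊓ X.basicOpen r := ⟨hxU, hxr⟩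
  rw [← TopCat.Presheaf.germ_res_apply G.presheaf (homOfLE inf_le_left : U ⊓ X.basicOpen r ⟶ U)
    x hxV s]
  have hu0 : IsUnit (X.presheaf.map (homOfLE (X.basicOpen_le r)).op r) :=
    X.toRingedSpace.isUnit_res_basicOpen r
  have hu : IsUnit (X.presheaf.map (homOfLE (le_top : U ⊓ X.basicOpen r ≤ ⊤)).op r) := by
    have h1 : X.presheaf.map (homOfLE (le_top : U ⊓ X.basicOpen r ≤ ⊤)).op =
        X.presheaf.map (homOfLE (X.basicOpen_le r)).op ≫ X.presheaf.map (homOfLE hV).op := by
      rw [← Functor.map_comp]
      rfl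
    rw [h1, CommRingCat.comp_apply]
    exact hu0.map _
  have h0 : X.presheaf.map (homOfLE (le_top : U ⊓ X.basicOpen r ≤ ⊤)).op r •
      G.presheaf.map (homOfLE inf_le_left : U ⊓ X.basicOpen r ⟶ U).op s = 0 := by
    have := congrArg (fun φ : G ⟶ G => φ.app (U ⊓ X.basicOpen r)
      (G.presheaf.map (homOfLE inf_le_left : U ⊓ X.basicOpen r ⟶ U).op s)) ha
    exact this
  have h2 : G.presheaf.map (homOfLE inf_le_left : U ⊓ X.basicOpen r ⟶ U).op s = 0 := by
    obtain ⟨v, hv⟩ := hu
    have h3 := congrArg (fun m => (↑v⁻¹ : Γ(X, U ⊓ X.basicOpen r)) • m) h0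
    simp only [smul_zero] at h3
    rw [← hv, ← mul_smul, Units.inv_mul, one_smul] at h3
    exact h3
  rw [h2, map_zero]

variable (A X) in
/-- the closed fibre, as a subset of `X` -/
def closedFibre [IsLocalRing A] : Set X :=
  (X ↘ Spec (CommRingCat.of A)).base ⁻¹' {closedPoint A}

theorem isClosed_closedFibre [IsLocalRing A] : IsClosed (closedFibre A X) :=
  (IsLocalRing.isClosed_singleton_closedPoint A).preimage
    (X ↘ Spec (CommRingCat.of A)).continuous

/-- **Grothendieck vanishing on the closed fibre**: a module killed by generators of the maximal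
ideal has no cohomology above the dimension of the closed fibre. -/
theorem subsingleton_HH_of_killed [IsLocalRing A] [NoetherianSpace X] (s : Finset A)
    (hs : Ideal.span (s : Set A) = maximalIdeal A)
    (G : X.Modules) (hG : ∀ a ∈ s, Formal.smulMod A G a = 0) (q : ℕ)
    (hq : topologicalKrullDim ↥(closedFibre A X) < (q : WithBot ℕ∞)) :
    Subsingleton (Coh.HH X G q) := by
  haveI : NoetherianSpace ↑(TopCat.of ↑(closedFibre A X)) :=
    inferInstanceAs (NoetherianSpace ↥(closedFibre A X))
  refine Groth.Agent.H86.GV.H_subsingleton_of_supp (Y := X.toTopCat) (closedFibre A X)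
    isClosed_closedFibre (Groth.Agent.H86.GV.grothendieck_vanishing _) (Coh.toAb G)
    (fun x hx => ?_) q hq
  have hex : ∃ a ∈ s, a ∉ ((X ↘ Spec (CommRingCat.of A)).base x).asIdeal := by
    by_contra hcon
    push_neg at hcon
    apply hx
    have h1 : maximalIdeal A ≤ ((X ↘ Spec (CommRingCat.of A)).base x).asIdeal := by
      rw [← hs, Ideal.span_le]
      exact fun a ha => hcon a ha
    have h2 : maximalIdeal A = ((X ↘ Spec (CommRingCat.of A)).base x).asIdeal :=
      (IsLocalRing.maximalIdeal.isMaximal A).eq_of_le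
        ((X ↘ Spec (CommRingCat.of A)).base x).isPrime.ne_top h1
    change (X ↘ Spec (CommRingCat.of A)).base x = closedPoint A
    exact PrimeSpectrum.ext h2.symm
  obtain ⟨a, has, hax⟩ := hex
  have hsub := subsingleton_stalk_of_smulMod_eq_zero G a (hG a has) x hax
  haveI : Subsingleton ↑(CohTop.stalk (Coh.toAb G) x) := hsub
  exact AddCommGrpCat.isZero_of_subsingleton _

section abelian

variable {C : Type*} [Category C] [Abelian C] {M : C} (φ : M ⟶ M)

/-- `0 → ker φ → M → im φ → 0` -/
noncomputable def sesKer : ShortComplex C :=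
  ShortComplex.mk (kernel.ι φ) (Abelian.factorThruImage φ) (by
    rw [← cancel_mono (Abelian.image.ι φ), Category.assoc, Abelian.image.fac, kernel.condition,
      zero_comp])

theorem sesKer_shortExact : (sesKer φ).ShortExact := by
  refine ShortComplex.ShortExact.mk' ?_ (inferInstanceAs (Mono (kernel.ι φ)))
    (inferInstanceAs (Epi (Abelian.factorThruImage φ)))
  refine ShortComplex.exact_of_f_is_kernel _ ?_
  exact isKernelOfComp (Abelian.image.ι φ) φ (kernelIsKernel φ) (sesKer φ).zero
    (Abelian.image.fac φ)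

/-- `0 → im φ → M → coker φ → 0` -/
noncomputable def sesIm : ShortComplex C :=
  ShortComplex.mk (Abelian.image.ι φ) (cokernel.π φ) (kernel.condition _)

theorem sesIm_shortExact : (sesIm φ).ShortExact := by
  refine ShortComplex.ShortExact.mk' ?_ (inferInstanceAs (Mono (Abelian.image.ι φ)))
    (inferInstanceAs (Epi (cokernel.π φ)))
  exact ShortComplex.exact_of_f_is_kernel _ (kernelIsKernel (cokernel.π φ))

end abelian

open Groth.Agent.Lead.FiniteLES

theorem smul_eq_HHmap (F : X.Modules) (a : A) (p : ℕ) (x : Coh.HH X F p) :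
    a • x = HHmap (Formal.smulMod A F a) p x := rfl

/-- **Nakayama step.** If `H^(p+1)` vanishes on all coherent modules and `H^p(F/aF) = 0` with `a` in
the maximal ideal, then `H^p(F) = 0`. -/
theorem subsingleton_of_cokernel_smul [IsNoetherianRing A] [IsLocalRing A]
    [IsProper (X ↘ Spec (CommRingCat.of A))] (p : ℕ)
    (hnext : ∀ K : X.Modules, Coh.IsCoh K → Subsingleton (Coh.HH X K (p + 1)))
    (F : X.Modules) (hF : Coh.IsCoh F) (a : A) (ha : a ∈ maximalIdeal A)
    (hcok : Subsingleton (Coh.HH X (cokernel (Formal.smulMod A F a)) p)) :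
    Subsingleton (Coh.HH X F p) := by
  haveI : IsLocallyNoetherian X :=
    LocallyOfFiniteType.isLocallyNoetherian (X ↘ Spec (CommRingCat.of A))
  set φ := Formal.smulMod A F a with hφ
  haveI : F.IsQuasicoherent := hF.1
  have hker : Coh.IsCoh (kernel φ) := Groth.Agent.H31.CohExt.isCoh_kernel φ hF hF.1
  -- `H^p(F) → H^p(im φ)` is surjective
  have h1 : Function.Surjective (HHmap (Abelian.factorThruImage φ) p) := by
    intro y
    have hy : y ∈ LinearMap.ker (HHδ (sesKer φ) (sesKer_shortExact φ) p) := by
      have hsub : Subsingleton (Coh.HH X (sesKer φ).X₁ (p + 1)) := hnext _ hker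
      exact @Subsingleton.elim _ hsub _ _
    rw [ker_HHδ] at hy
    exact hy
  -- `H^p(im φ) → H^p(F)` is surjective
  have h2 : Function.Surjective (HHmap (Abelian.image.ι φ) p) := by
    intro y
    have hsub : Subsingleton (Coh.HH X (sesIm φ).X₃ p) := hcok
    have hy : y ∈ LinearMap.ker (HHmap (sesIm φ).g p) := @Subsingleton.elim _ hsub _ _
    rw [ker_HHmap_g (sesIm φ) (sesIm_shortExact φ)] at hy
    exact hy
  have h3 : Function.Surjective (HHmap φ p) := by
    have e : HHmap φ p = (HHmap (Abelian.image.ι φ) p).comp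
        (HHmap (Abelian.factorThruImage φ) p) := by
      rw [← HHmap_comp, Abelian.image.fac]
    rw [e]
    exact h2.comp h1
  -- Nakayama
  haveI : Module.Finite A (Coh.HH X F p) := Groth.Agent.S0002.result A X F hF p
  have htop : (⊤ : Submodule A (Coh.HH X F p)) ≤ maximalIdeal A • ⊤ := by
    intro x _
    obtain ⟨y, rfl⟩ := h3 x
    rw [← smul_eq_HHmap]
    exact Submodule.smul_mem_smul ha Submodule.mem_top
  have hbot : (⊤ : Submodule A (Coh.HH X F p)) = ⊥ :=
    Submodule.eq_bot_of_le_smul_of_le_jacobson_bot (maximalIdeal A) ⊤ Module.Finite.fg_top htop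
      (IsLocalRing.maximalIdeal_le_jacobson ⊥)
  exact ⟨fun x y => by
    have hx : x ∈ (⊤ : Submodule A (Coh.HH X F p)) := Submodule.mem_top
    have hy : y ∈ (⊤ : Submodule A (Coh.HH X F p)) := Submodule.mem_top
    rw [hbot, Submodule.mem_bot] at hx hy
    rw [hx, hy]⟩

variable (A X) in
/-- every coherent module killed by the elements of `t` has trivial `H^q` -/
def KillVanish (t : Finset A) (q : ℕ) : Prop :=
  ∀ G : X.Modules, Coh.IsCoh G → (∀ a ∈ t, Formal.smulMod A G a = 0) →
    Subsingleton (Coh.HH X G q)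

theorem killVanish_of_insert [DecidableEq A] [IsNoetherianRing A] [IsLocalRing A]
    [IsProper (X ↘ Spec (CommRingCat.of A))] (q : ℕ)
    (hnext : ∀ K : X.Modules, Coh.IsCoh K → Subsingleton (Coh.HH X K (q + 1)))
    (t : Finset A) (a : A) (ha : a ∈ maximalIdeal A) (h : KillVanish A X (insert a t) q) :
    KillVanish A X t q := by
  intro G hG hk
  haveI : G.IsQuasicoherent := hG.1
  refine subsingleton_of_cokernel_smul q hnext G hG a ha
    (h _ (Groth.Agent.H31.CohExt.isCoh_cokernel _ hG.1 hG) ?_)
  intro b hb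
  rw [← cancel_epi (cokernel.π (Formal.smulMod A G a)), comp_zero,
    ← Groth.Agent.H44.smulMod_naturality]
  rcases Finset.mem_insert.mp hb with rfl | hb
  · exact cokernel.condition _
  · rw [hk b hb, zero_comp]

theorem killVanish_of_union [DecidableEq A] [IsNoetherianRing A] [IsLocalRing A]
    [IsProper (X ↘ Spec (CommRingCat.of A))] (q : ℕ)
    (hnext : ∀ K : X.Modules, Coh.IsCoh K → Subsingleton (Coh.HH X K (q + 1)))
    (s : Finset A) (hsm : ∀ a ∈ s, a ∈ maximalIdeal A) :
    ∀ t : Finset A, KillVanish A X (s ∪ t) q → KillVanish A X t q := by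
  classical
  induction s using Finset.induction_on with
  | empty =>
    intro t h
    simpa using h
  | insert a s' _ ih =>
    intro t h
    have h' : KillVanish A X (s' ∪ insert a t) q := by
      have e : s' ∪ insert a t = insert a s' ∪ t := by
        ext b
        simp only [Finset.mem_union, Finset.mem_insert]
        tauto
      rw [e]
      exact h
    exact killVanish_of_insert q hnext t a (hsm a (Finset.mem_insert_self a s'))
      (ih (fun b hb => hsm b (Finset.mem_insert_of_mem hb)) _ h')

/-- **EGA III 4.2.2 over a local base.** For `X` proper over a Noetherian local ring `A`, coherent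
cohomology vanishes in degrees above the dimension of the closed fibre. -/
theorem subsingleton_HH_of_dim_closedFibre_lt [IsNoetherianRing A] [IsLocalRing A]
    [IsProper (X ↘ Spec (CommRingCat.of A))] (F : X.Modules) (hF : Coh.IsCoh F) (q : ℕ)
    (hq : topologicalKrullDim ↥(closedFibre A X) < (q : WithBot ℕ∞)) :
    Subsingleton (Coh.HH X F q) := by
  classical
  haveI : IsLocallyNoetherian X :=
    LocallyOfFiniteType.isLocallyNoetherian (X ↘ Spec (CommRingCat.of A))
  haveI : CompactSpace X :=
    QuasiCompact.compactSpace_of_compactSpace (X ↘ Spec (CommRingCat.of A))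
  haveI : X.IsSeparated := ⟨by
    rw [← terminal.comp_from (X ↘ Spec (CommRingCat.of A))]
    infer_instance⟩
  haveI : IsNoetherian X := ⟨⟩
  -- vanishing in large degrees
  obtain ⟨N, hN⟩ : ∃ N : ℕ, ∀ n, N ≤ n → ∀ K : X.Modules, Coh.IsQCoh K →
      Subsingleton (Coh.HH X K n) := by
    obtain ⟨t, ht⟩ := (isCompact_univ (X := X)).elim_finite_subcover
      (fun U : X.affineOpens => (U.1 : Set X)) (fun U => U.1.isOpen)
      (fun x _ => by
        obtain ⟨_, ⟨U, hU, rfl⟩, hxU, -⟩ := X.isBasis_affineOpens.exists_subset_of_mem_open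
          (Set.mem_univ x) isOpen_univ
        exact Set.mem_iUnion.mpr ⟨⟨U, hU⟩, hxU⟩)
    refine ⟨t.card, fun n hn K hK => ?_⟩
    haveI : Coh.IsQCoh K := hK
    refine Groth.Agent.S0010.result X t.card (fun i => (t.equivFin.symm i).1.1)
      (fun i => (t.equivFin.symm i).1.2) ?_ (fun V W hV hW => hV.inf hW) K n hn
    rw [eq_top_iff]
    intro x _
    obtain ⟨U, hUt, hxU⟩ : ∃ U ∈ t, x ∈ (U.1 : Set X) := by
      have := ht (Set.mem_univ x)
      simpa using this
    rw [TopologicalSpace.Opens.mem_iSup]
    refine ⟨t.equivFin ⟨U, hUt⟩, ?_⟩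
    rw [Equiv.symm_apply_apply]
    exact hxU
  -- downward induction
  obtain ⟨s, hs⟩ := (isNoetherianRing_iff_ideal_fg A).mp inferInstance (maximalIdeal A)
  have hsm : ∀ a ∈ s, a ∈ maximalIdeal A := fun a ha => hs ▸ Ideal.subset_span ha
  have key : ∀ k q : ℕ, N ≤ q + k →
      topologicalKrullDim ↥(closedFibre A X) < (q : WithBot ℕ∞) →
      ∀ G : X.Modules, Coh.IsCoh G → Subsingleton (Coh.HH X G q) := by
    intro k
    induction k with
    | zero =>
      intro q hNq _ G hG
      exact hN q (by omega) G hG.1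
    | succ k ih =>
      intro q hNq hq G hG
      have hnext : ∀ K : X.Modules, Coh.IsCoh K → Subsingleton (Coh.HH X K (q + 1)) :=
        fun K hK => ih (q + 1) (by omega)
          (lt_of_lt_of_le hq (by exact_mod_cast Nat.le_succ q)) K hK
      have h0 : KillVanish A X (s ∪ ∅) q := by
        intro G' _ hk'
        exact subsingleton_HH_of_killed s hs G'
          (fun a ha => hk' a (by simpa using ha)) q hq
      exact killVanish_of_union q hnext s hsm ∅ h0 G hG (by simp)
  exact key N q (by omega) hq F hF

end Groth.Agent.Lead.FibreVanish
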