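import Mathlib
import Groth.Agent.Lead.Coh.FibreVanish
import Groth.Agent.H96.BaseChange.StalkLoc
import Groth.Agent.H30.RpushQC.ToAb
import Groth.Agent.H44.PullbackFT

/-!
Lead library: the stalk of `R^p f_* M` at `y` vanishes for `p` above the dimension of the fibre
`X_y` (`f` proper, target locally Noetherian, `M` coherent): EGA III 4.2.2.
-/

set_option autoImplicit false
universe u
open CategoryTheory Limits AlgebraicGeometry Opposite TopologicalSpace IsLocalRing

namespace Groth.Agent.Lead.FibreVanish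

variable {X Y : Scheme.{u}} (f : X ⟶ Y)

/-- the closed fibre of `X ×_Y Spec O_{Y,y} ⟶ Spec O_{Y,y}` has dimension at most that of `X_y` -/
theorem topologicalKrullDim_closedFibre_le (y : Y) :
    letI : (pullback f (Y.fromSpecStalk y)).Over (Spec (CommRingCat.of (Y.presheaf.stalk y))) :=
      ⟨pullback.snd f (Y.fromSpecStalk y)⟩
    topologicalKrullDim ↥(closedFibre (Y.presheaf.stalk y) (pullback f (Y.fromSpecStalk y))) ≤
      topologicalKrullDim ↥(f.fiber y) := by
  letI : (pullback f (Y.fromSpecStalk y)).Over (Spec (CommRingCat.of (Y.presheaf.stalk y))) :=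
    ⟨pullback.snd f (Y.fromSpecStalk y)⟩
  rw [(f.fiberHomeo y).isHomeomorph.topologicalKrullDim_eq]
  set g := pullback.fst f (Y.fromSpecStalk y) with hg
  have hmem : ∀ x₁ : ↥(closedFibre (Y.presheaf.stalk y) (pullback f (Y.fromSpecStalk y))),
      g.base x₁.1 ∈ f.base ⁻¹' {y} := by
    rintro ⟨x₁, hx₁⟩
    have h1 : (pullback.snd f (Y.fromSpecStalk y)).base x₁ = closedPoint (Y.presheaf.stalk y) := hx₁
    change f.base (g.base x₁) = y
    rw [← Scheme.Hom.comp_apply, hg, pullback.condition, Scheme.Hom.comp_apply, h1]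
    exact Y.fromSpecStalk_closedPoint
  let h : ↥(closedFibre (Y.presheaf.stalk y) (pullback f (Y.fromSpecStalk y))) →
      ↥(f.base ⁻¹' {y}) := fun x₁ => ⟨g.base x₁.1, hmem x₁⟩
  have hind : Topology.IsInducing h := by
    rw [← Topology.IsInducing.subtypeVal.of_comp_iff]
    exact g.isEmbedding.isInducing.comp Topology.IsInducing.subtypeVal
  exact hind.topologicalKrullDim_le

/-- **EGA III 4.2.2** (module version): the stalk of `R^p f_* M` at `y` vanishes for `p` above the
dimension of the fibre `X_y`. -/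
theorem subsingleton_stalk_Rpush [IsProper f] [IsLocallyNoetherian Y]
    [HasInjectiveResolutions X.Modules] (y : Y) (d : ℕ)
    (hd : topologicalKrullDim ↥(f.fiber y) ≤ d) (M : X.Modules) (hM : Coh.IsCoh M) (p : ℕ)
    (hp : d < p) : Subsingleton (((Coh.Rpush f p).obj M).presheaf.stalk y) := by
  letI : (pullback f (Y.fromSpecStalk y)).Over (Spec (CommRingCat.of (Y.presheaf.stalk y))) :=
    ⟨pullback.snd f (Y.fromSpecStalk y)⟩
  haveI : M.IsQuasicoherent := hM.1
  haveI : SheafOfModules.IsFiniteType (R := X.ringCatSheaf) M := hM.2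
  obtain ⟨e⟩ := Groth.Agent.H96.BC.nonempty_stalk_Rpush_linearEquiv f M y p
    (pullback f (Y.fromSpecStalk y)) (pullback.fst f (Y.fromSpecStalk y))
    (IsPullback.of_hasPullback f (Y.fromSpecStalk y))
  haveI : IsProper (pullback f (Y.fromSpecStalk y) ↘ Spec (CommRingCat.of (Y.presheaf.stalk y))) :=
    inferInstanceAs (IsProper (pullback.snd f (Y.fromSpecStalk y)))
  have hcoh : Coh.IsCoh ((Scheme.Modules.pullback (pullback.fst f (Y.fromSpecStalk y))).obj M) :=
    ⟨inferInstance, inferInstance⟩
  have hdim : topologicalKrullDim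
      ↥(closedFibre (Y.presheaf.stalk y) (pullback f (Y.fromSpecStalk y))) < (p : WithBot ℕ∞) :=
    lt_of_le_of_lt ((topologicalKrullDim_closedFibre_le f y).trans hd) (by exact_mod_cast hp)
  haveI := subsingleton_HH_of_dim_closedFibre_lt (A := Y.presheaf.stalk y)
    (X := pullback f (Y.fromSpecStalk y)) _ hcoh p hdim
  exact e.toEquiv.subsingleton

/-- **EGA III 4.2.2** in the form of milestone S0042 (abelian higher direct images). -/
theorem isZero_stalk_RpushAb [IsProper f] [IsLocallyNoetherian Y] (y : Y) (d : ℕ)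
    (hd : topologicalKrullDim ↥(f.fiber y) ≤ d) (M : X.Modules) (hM : Coh.IsCoh M) (p : ℕ)
    (hp : d < p) :
    Limits.IsZero (TopCat.Presheaf.stalk ((Coh.RpushAb f p).obj (Coh.toAb M)).obj y) := by
  haveI : HasInjectiveResolutions X.Modules := inferInstance
  have hsub := subsingleton_stalk_Rpush f y d hd M hM p hp
  have i := (Groth.Agent.H30.RpushQC.rpushToAbIso f p).app M
  have i' : TopCat.Presheaf.stalk (Coh.toAb ((Coh.Rpush f p).obj M)).obj y ≅
      TopCat.Presheaf.stalk ((Coh.RpushAb f p).obj (Coh.toAb M)).obj y :=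
    (TopCat.Presheaf.stalkFunctor AddCommGrpCat.{u} y).mapIso
      ((sheafToPresheaf _ _).mapIso i)
  refine IsZero.of_iso ?_ i'.symm
  haveI : Subsingleton ↑(TopCat.Presheaf.stalk (Coh.toAb ((Coh.Rpush f p).obj M)).obj y) := hsub
  exact AddCommGrpCat.isZero_of_subsingleton _

end Groth.Agent.Lead.FibreVanish
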